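import Cfsg.Agent.FusB.R2a
import Cfsg.Agent.Ab2.App1
import Cfsg.Agent.Ab2.Gold
import Cfsg.Agent.Invol.StrEmb
import Cfsg.Agent.Transfer.Tate
import Cfsg.Agent.Sig.Amb

/-!
# Groups whose involutions form one class inside a normal elementary abelian subgroup
-/

set_option autoImplicit false

namespace CF.Crit.Inv
open Subgroup CF.Suz CF.Coprime CF.FusB
open scoped commutatorElement

variable {G : Type*} [Group G] [Finite G]

theorem sq_dvd_aux {p n m : ℕ} (hp : p.Prime) (hn : p + 1 = 2 ^ n) (hp2 : p ≠ 2) (hm0 : m ≠ 0)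
    (hm : m ≤ 2 * n) (h : p ^ 2 ∣ 2 ^ m - 1) : False := by
  have h1 : p = 2 ^ n - 1 := by omega
  have h2 : n ∣ m := dvd_of_two_pow_sub_one_dvd (h1 ▸ (dvd_pow_self p two_ne_zero).trans h)
  obtain ⟨c, rfl⟩ := h2
  have hn0 : n ≠ 0 := by rintro rfl; simp at hm0
  have hc : c ≤ 2 := by
    by_contra hc
    have : n * 3 ≤ n * c := Nat.mul_le_mul_left n (by omega)
    omega
  have hp1 := hp.one_lt
  interval_cases c
  · simp at hm0
  · rw [mul_one, ← h1] at h
    have := Nat.le_of_dvd hp.pos h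
    nlinarith
  · rw [pow_mul, ← hn, show (p + 1) ^ 2 - 1 = p * (p + 2) by
      rw [Nat.sub_eq_iff_eq_add (Nat.one_le_pow _ _ (by omega))]; ring, pow_two] at h
    have h3 := (Nat.dvd_add_right (dvd_refl p)).1 (Nat.dvd_of_mul_dvd_mul_left hp.pos h)
    exact hp2 ((Nat.prime_dvd_prime_iff_eq hp Nat.prime_two).1 h3)

/-- A `p`-element acting on a 2-group with central `Ω₁` of order `p + 1`, whose `p`-th power
centralizes the involutions, has its `p`-th power acting trivially. -/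
theorem pow_central {T V : Subgroup G} {p : ℕ} [hp : Fact p.Prime] (hp2 : p ≠ 2)
    (hT : IsPGroup 2 T) (hV : ∀ x, x ∈ V ↔ x ∈ T ∧ x * x = 1) (hVc : V ≤ centralizer (T : Set G))
    (h4 : Nat.card V = p + 1) {g : G} (hg : g ∈ normalizer (T : Set G))
    (h3 : IsPGroup p (zpowers g)) (hgV : g ^ p ∈ centralizer (V : Set G)) :
    g ^ p ∈ centralizer (T : Set G) := by
  by_contra hn
  obtain ⟨P, ⟨hPT, hBP, hnt⟩, hmin⟩ := (wellFounded_lt (α := Subgroup G)).has_min
    {P | P ≤ T ∧ zpowers g ≤ normalizer (P : Set G) ∧ ¬ zpowers (g ^ p) ≤ centralizer (P : Set G)}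
    ⟨T, le_rfl, zpowers_le_of_mem hg, fun h => hn (h (mem_zpowers _))⟩
  have hAB : zpowers (g ^ p) ≤ zpowers g := zpowers_le_of_mem (pow_mem (mem_zpowers g) p)
  have hP : IsPGroup 2 P := hT.to_le hPT
  have hBA : zpowers g ≤ normalizer (zpowers (g ^ p) : Set G) :=
    (zpowers_le_of_mem (mem_centralizer_iff.2 fun x hx => by
      obtain ⟨k, rfl⟩ := hAB hx
      exact (Commute.zpow_self g k).eq)).trans (centralizer_le_normalizer _)
  have hcop : (Nat.card (zpowers (g ^ p))).Coprime 2 := by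
    obtain ⟨k, hk⟩ := (h3.to_le hAB).exists_card_eq
    rw [hk]
    exact Nat.Coprime.pow_left _ ((Nat.coprime_primes hp.out Nat.prime_two).2 hp2)
  have hm : ∀ U : Subgroup G, U < P → zpowers g ≤ normalizer (U : Set G) →
      zpowers (g ^ p) ≤ normalizer (U : Set G) → zpowers (g ^ p) ≤ centralizer (U : Set G) :=
    fun U hU h1 _ => by_contra fun h2 => hmin U ⟨hU.le.trans hPT, h1, h2⟩ hU
  have e1 := minAct_frattiniOf_eq hP hBP (hAB.trans hBP) hBA hcop hnt hm
  have e2 := minAct_frattiniOf_eq' hP hBP (hAB.trans hBP) hBA hcop hnt hm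
  have e3 := minAct_frattiniOf_le_centralizer hP hBP (hAB.trans hBP) hBA hcop hnt hm
  have hVA : V ≤ centralizer (zpowers (g ^ p) : Set G) :=
    le_centralizer_iff.1 (zpowers_le_of_mem hgV)
  have hΦ : frattiniOf P ≤ V := by
    rw [e1, commutator_le]
    intro x hx y hy
    refine (hV _).2 ⟨hPT (mul_mem (mul_mem (mul_mem hx hy) (inv_mem hx)) (inv_mem hy)), ?_⟩
    rw [← pow_two, ← commutator_pow_left_of_class_two (e1 ▸ e3) hx hy,
      commutatorElement_eq_one_iff_mul_comm]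
    exact (e3 (CF.Solv.pow_mem_map_frattini hP hx) y hy).symm
  have e4 : frattiniOf P = P ⊓ V :=
    le_antisymm (le_inf (e2 ▸ inf_le_left) hΦ) (e2 ▸ inf_le_inf_left _ hVA)
  have hPne : P ≠ ⊥ := fun e => hnt (by simp [e])
  have hle : Nat.card P ≤ Nat.card (P ⊓ V : Subgroup G) ^ 3 := by
    have := card_le_cube (V.subgroupOf P)
      (fun x => by rw [mem_subgroupOf, hV]; simp [hPT x.2, Subtype.ext_iff])
      (fun x hx y => Subtype.ext (hVc hx y (hPT y.2)))
      (fun x => hΦ (by simpa [pow_two] using CF.Solv.pow_mem_map_frattini hP x.2))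
    rwa [← inf_subgroupOf_right, CF.Solv.card_subgroupOf_of_le inf_le_right, inf_comm] at this
  let X := {x : G // x ∈ P ∧ x ∉ V}
  have hgV' : zpowers g ≤ normalizer (V : Set G) := zpowers_le_of_mem (by
    rw [mem_normalizer_iff]
    intro x
    rw [hV, hV, ← mem_normalizer_iff.1 hg x, conj_mul, conj_eq_one_iff])
  let _ : MulAction (zpowers g) X :=
    { smul := fun k x => ⟨k * x * (k : G)⁻¹, (mem_normalizer_iff.1 (hBP k.2) _).1 x.2.1,
        fun h => x.2.2 ((mem_normalizer_iff.1 (hgV' k.2) _).2 h)⟩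
      one_smul := fun x => Subtype.ext (by
        show (1 : G) * x * 1⁻¹ = x
        simp)
      mul_smul := fun k l x => Subtype.ext (by
        show (k * l : G) * x * (k * l : G)⁻¹ = k * (l * x * (l : G)⁻¹) * (k : G)⁻¹
        group) }
  have h9 : p ^ 2 ∣ Nat.card X := dvd_card_of_stab (K := zpowers g) fun x => by
    obtain ⟨k, hk⟩ := h3.index (MulAction.stabilizer (zpowers g) x)
    rw [hk]
    by_contra h
    have hk1 : k ≤ 1 := by
      by_contra h'
      exact h (pow_dvd_pow p (by omega))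
    have : (MulAction.stabilizer (zpowers g) x).Normal := inferInstance
    have h1 := (MulAction.stabilizer (zpowers g) x).pow_index_mem ⟨g, mem_zpowers g⟩
    have h2 : (⟨g, mem_zpowers g⟩ : zpowers g) ^ p ∈ MulAction.stabilizer (zpowers g) x := by
      rw [hk] at h1
      interval_cases k
      · simpa using pow_mem h1 p
      · simpa using h1
    have h5 : g ^ p * x * (g ^ p)⁻¹ = x := congrArg Subtype.val h2
    refine x.2.2 (hΦ (e2 ▸ ⟨x.2.1, mem_centralizer_iff.2 ?_⟩))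
    rintro _ ⟨k, rfl⟩
    exact (Commute.zpow_left (mul_inv_eq_iff_eq_mul.1 h5) k).eq
  have hX : Nat.card X + Nat.card (P ⊓ V : Subgroup G) = Nat.card P := by
    classical
    rw [← Nat.card_sum]
    refine Nat.card_congr ⟨Sum.elim (fun x => ⟨x.1, x.2.1⟩) (fun x => ⟨x.1, x.2.1⟩),
      fun x => if h : x.1 ∈ V then Sum.inr ⟨x.1, x.2, h⟩ else Sum.inl ⟨x.1, x.2, h⟩, ?_, ?_⟩
    · rintro (x | x)
      · simp [x.2.2]
      · simp [show x.1 ∈ V from x.2.2]
    · intro x
      by_cases h : x.1 ∈ V <;> simp [h]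
  obtain ⟨k, hk⟩ := hP.exists_card_eq
  obtain ⟨j, hj⟩ := (hP.to_inf_left (K := V)).exists_card_eq
  obtain ⟨n, hn'⟩ := (hT.to_le (fun x hx => ((hV x).1 hx).1 : V ≤ T)).exists_card_eq
  have hj2 : 2 ^ j ≤ 2 ^ n := by rw [← hj, ← hn']; exact card_le_of_le inf_le_right
  have hk6 : 2 ^ k ≤ 2 ^ (j * 3) := by rw [← hk, pow_mul, ← hj]; exact hle
  rw [Nat.pow_le_pow_iff_right (by norm_num)] at hj2 hk6
  have hlt : Nat.card X ≠ 0 := fun e => by
    have := CF.Solv.map_frattini_lt hPne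
    have h6 : P ⊓ V = P := eq_of_le_of_card_ge inf_le_left (by omega)
    exact this.ne (e4.trans h6)
  rw [hj, hk] at hX
  have hjk : j < k := (Nat.pow_lt_pow_iff_right (by norm_num : 1 < 2)).1 (by omega)
  obtain ⟨m, rfl⟩ := Nat.exists_eq_add_of_le hjk.le
  have h7 : Nat.card X = 2 ^ j * (2 ^ m - 1) := by
    rw [Nat.mul_sub, mul_one, ← pow_add]; omega
  rw [h7] at h9
  refine sq_dvd_aux hp.out (h4.symm.trans hn') hp2 (m := m) (by omega) (by omega)
    (Nat.Coprime.dvd_of_dvd_mul_left ?_ h9)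
  exact Nat.Coprime.pow _ _ ((Nat.coprime_primes hp.out Nat.prime_two).2 hp2)

open CF.BG CF.Ab2 in
/-- A non-abelian simple group with abelian Sylow 2-subgroups has one class of involutions. -/
theorem one_class [IsSimpleGroup G] (hG : ¬ IsMulCommutative G) (S : Sylow 2 G)
    (hS : ∀ a ∈ S, ∀ b ∈ S, a * b = b * a) {a b : G} (ha : orderOf a = 2) (hb : orderOf b = 2) :
    IsConj a b := by
  have n := ns_top hG
  have s := syl_sylow_top S
  have key : (∃ K, Ab2.Tr K (S : Subgroup G)) → IsConj a b := by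
    rintro ⟨K, t⟩
    have f : ∀ {x : G}, orderOf x = 2 → ∃ y ∈ (S : Subgroup G), y ≠ 1 ∧ IsConj x y := by
      intro x hx
      obtain ⟨g, -, hg⟩ := s.syl_cj_le (K := zpowers x) le_top (by
        rw [piGrp_iff_isPGroup Nat.prime_two]
        exact IsPGroup.of_card (n := 1) (by rw [Nat.card_zpowers, hx]; rfl))
      refine ⟨g * x * g⁻¹, hg (conj_mem_cj.2 (mem_zpowers x)), fun e => ?_, isConj_iff.2 ⟨g, rfl⟩⟩
      rw [conj_eq_one_iff.1 e] at hx
      simp at hx
    obtain ⟨x, hx, x1, h1⟩ := f ha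
    obtain ⟨y, hy, y1, h2⟩ := f hb
    obtain ⟨k, -, hk⟩ := t x hx x1 y hy y1
    exact h1.trans ((isConj_iff.2 ⟨k, hk⟩).trans h2.symm)
  rcases Ab2.walter ⟨S, s, fun x hx y hy => hS y hy x hx⟩ n with g | g | g
  · obtain ⟨H, hH⟩ := g.top
    exact CF.Invol.se_isConj hH ha hb
  · obtain ⟨z, -, -, t⟩ := n.exists_tr_four s (g.card s)
    exact key ⟨_, t⟩
  · exact key ⟨_, (g.syl' s).2.2⟩

end CF.Crit.Inv
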