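import Cfsg.Agent.Crit.Inv1
import Cfsg.Agent.Perm.PrimeDegree
import Cfsg.Agent.Bender.LemQ0

/-!
# One class of involutions inside a normal elementary abelian subgroup of order `p + 1`
-/

set_option autoImplicit false

namespace CF.Crit.Inv
open Subgroup CF.Suz CF.BG CF.Sig CF.Ab2 CF.Invol
open scoped commutatorElement

variable {G : Type*} [Group G] [Finite G] {E : Subgroup G} {p : ℕ}

/-- all involutions lie in `E`, are conjugate, and `O(G) = 1` -/
structure EI (E : Subgroup G) : Prop where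
  mem : ∀ x, x ∈ E ↔ x * x = 1
  conj : ∀ x y : G, orderOf x = 2 → orderOf y = 2 → ∃ g, g * x * g⁻¹ = y
  odd : 𝐎 {2}ᶜ (⊤ : Subgroup G) = ⊥

namespace EI
variable (h : EI E)
include h

theorem nrm : E.Normal := ⟨fun x hx g => by rw [h.mem, conj_mul, (h.mem x).1 hx]; simp⟩

theorem inv_eq {x : G} (hx : x ∈ E) : x⁻¹ = x := inv_eq_of_mul_eq_one_right ((h.mem x).1 hx)

theorem abel : Abel E := fun x hx y hy => by
  rw [← h.inv_eq (E.mul_mem hy hx), mul_inv_rev, h.inv_eq hx, h.inv_eq hy]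

theorem two : IsPGroup 2 E := fun x => ⟨1, Subtype.ext (by simpa [pow_two] using (h.mem _).1 x.2)⟩

theorem ord {x : G} (hx : x ∈ E) (h1 : x ≠ 1) : orderOf x = 2 :=
  orderOf_eq_two_iff.2 ⟨(h.mem x).1 hx, h1⟩

theorem tr : Ab2.Tr ⊤ E := fun a ha a1 b hb b1 =>
  (h.conj a b (h.ord ha a1) (h.ord hb b1)).imp fun _ e => ⟨trivial, e⟩

theorem exists_two (h4 : 2 < ♯E) : ∃ x ∈ E, ∃ y ∈ E, x ≠ y ∧ x ≠ 1 ∧ y ≠ 1 := by
  have := Fintype.ofFinite E
  obtain ⟨a, b, c, ab, ac, bc⟩ := (Fintype.two_lt_card_iff (α := E)).1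
    (by rwa [← Nat.card_eq_fintype_card])
  have ne : ∀ {a b : E}, a ≠ b → (a : G) ≠ b := fun e e' => e (Subtype.ext e')
  by_cases a1 : (a : G) = 1
  · exact ⟨b, b.2, c, c.2, ne bc, a1 ▸ ne ab.symm, a1 ▸ ne ac.symm⟩
  by_cases b1 : (b : G) = 1
  · exact ⟨a, a.2, c, c.2, ne ac, a1, b1 ▸ ne bc.symm⟩
  · exact ⟨a, a.2, b, b.2, ne ab, a1, b1⟩

theorem comm_mem [hp : Fact p.Prime] (hp2 : p ≠ 2) (hc : ♯E = p + 1) {Q : Subgroup G}
    (hQ : Q ≤ 𝐂 E) (h2 : IsPGroup 2 Q) {x y : G} (hx : x ∈ Q) (hy : y ∈ Q) : ⁅x, y⁆ ∈ E := by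
  have := h.nrm
  have hp1 := hp.out.two_le
  have h3 : 2 < ♯E := by omega
  obtain ⟨T, hT, hQT⟩ := exists_syl_le hQ (piGrp_of_isPGroup Nat.prime_two h2)
  have nC : 𝐂 E ⊴ ⊤ := normalIn_top.2 inferInstance
  have hET : E ≤ T := hT.le_of_normal ⟨h.abel, le_top.trans (normalizer_eq_top _).ge⟩
    (piGrp_of_isPGroup Nat.prime_two h.two)
  have nE : ∀ K : Subgroup G, K ≤ 𝐍 E := fun K => le_top.trans (normalizer_eq_top _).ge
  have t1 : Ab2.Tr (𝐍 T) E := h.tr.of_le_sup (by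
    rw [← hT.syl_frattini_sup nC, top_inf_eq]) (nE _)
  obtain ⟨t, ht, s, hs, ts, t1', s1⟩ := h.exists_two h3
  have c1 := t1.card (nE _) ht t1'
  obtain ⟨R, hR⟩ := exists_syl p (𝐍 T)
  obtain ⟨g, hg, gt⟩ : ∃ g ∈ R, g ∉ 𝐂₁ t := by
    by_contra! k
    have := hR.idx_of_le k
    rw [show (𝐂₁ t).relIndex (𝐍 T) = p by omega] at this
    exact this p hp.out dvd_rfl rfl
  have hg3 : IsPGroup p (zpowers g) := hR.pi.isPGroup.to_le (zpowers_le.2 hg)
  obtain ⟨j, hj⟩ := hg3.index ((𝐂₁ t).subgroupOf (zpowers g))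
  have c2 := relIndex_lt (nE (zpowers g)) ht t1'
  have hj1 : j = 1 := by
    rw [relIndex, hj, hc] at c2
    have : j ≠ 0 := by
      rintro rfl
      rw [pow_zero, index_eq_one, subgroupOf_eq_top] at hj
      exact gt (hj (mem_zpowers g))
    have h5 : p ^ j ≤ p ^ 1 := by rw [pow_one]; omega
    have := (Nat.pow_le_pow_iff_right hp.out.one_lt).1 h5
    omega
  rw [hj1, pow_one] at hj
  have t2 : Ab2.Tr (zpowers g) E := tr_of_card (nE _) ht t1' (by rw [relIndex, hj, hc])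
  have gp : g ^ p ∈ 𝐂 E := by
    have h5 : g ^ p ∈ 𝐂₁ t := by
      have := ((𝐂₁ t).subgroupOf (zpowers g)).pow_index_mem ⟨g, mem_zpowers g⟩
      rwa [hj] at this
    intro e he
    by_cases e1 : e = 1
    · simp [e1]
    obtain ⟨_, ⟨k, rfl⟩, rfl⟩ := t2 t ht t1' e he e1
    have h6 := mem_centralizer_singleton_iff.1 h5
    have h7 : Commute (g ^ k) (g ^ p) := ((Commute.refl g).zpow_left k).pow_right p
    calc g ^ k * t * (g ^ k)⁻¹ * g ^ p = g ^ k * (t * g ^ p) * (g ^ k)⁻¹ := by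
          rw [mul_assoc, h7.inv_left.eq]; group
      _ = _ := by rw [← h6, ← mul_assoc, h7.eq]; group
  have gT : g ^ p ∈ 𝐂 T := pow_central hp2 hT.pi.isPGroup
    (fun x => ⟨fun hx => ⟨hET hx, (h.mem x).1 hx⟩, fun hx => (h.mem x).2 hx.2⟩)
    (le_centralizer_iff.1 hT.le) hc (hR.le hg) hg3 gp
  let ξ : MulAut T := T.normalizerMonoidHom ⟨g, hR.le hg⟩
  have hξ : ∀ (k : ℕ) (x : T), (((ξ ^ k) x : T) : G) = g ^ k * x * (g ^ k)⁻¹ := fun k x => by
    rw [← map_pow]; rfl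
  have mE : ∀ {x : T}, x * x = 1 → (x : G) ∈ E := fun e => (h.mem _).2 (congrArg Subtype.val e)
  have ne : ∀ {x : T}, x ≠ 1 → (x : G) ≠ 1 := fun e e' => e (Subtype.ext e')
  have hs : HS T ξ := ⟨hT.pi.isPGroup, fun x y x1 hx y1 hy => by
      obtain ⟨k, hk, e⟩ := t2 x (mE hx) (ne x1) y (mE hy) (ne y1)
      obtain ⟨k, rfl⟩ := mem_powers_iff_mem_zpowers.2 hk
      exact ⟨k, Subtype.ext ((hξ k x).trans e)⟩,
    fun k x x1 hx e => by
      by_cases hk : p ∣ k
      · obtain ⟨c, rfl⟩ := hk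
        ext y
        rw [hξ, pow_mul, ← pow_mem gT c y y.2, mul_inv_cancel_right]
        rfl
      · exfalso
        have h5 : g ^ k ∈ 𝐂₁ (x : G) := mem_centralizer_singleton_iff_conj.2
          ((hξ k x).symm.trans (congrArg Subtype.val e))
        have h6 : g ^ p ∈ 𝐂₁ (x : G) := mem_centralizer_singleton_iff.2 (gp _ (mE hx)).symm
        have h7 : g ∈ 𝐂₁ (x : G) := by
          have := Nat.gcd_eq_gcd_ab p k
          rw [(Nat.Prime.coprime_iff_not_dvd hp.out).2 hk] at this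
          rw [← zpow_one g, ← Nat.cast_one, this, zpow_add, zpow_mul, zpow_mul, zpow_natCast,
            zpow_natCast]
          exact mul_mem (zpow_mem h6 _) (zpow_mem h5 _)
        have : (x : G) ∈ E ⊓ 𝐂 (zpowers g) :=
          ⟨mE hx, by rw [cent_zpowers]; exact mem_cent1_comm.1 h7⟩
        rw [t2.inf_cent h3] at this
        exact ne x1 this,
    ⟨⟨t, hET ht⟩, ⟨s, hET hs⟩, fun e => ts (congrArg Subtype.val e),
      fun e => t1' (congrArg Subtype.val e), Subtype.ext ((h.mem t).1 ht),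
      fun e => s1 (congrArg Subtype.val e), Subtype.ext ((h.mem s).1 hs)⟩⟩
  by_cases hna : ∃ x y : T, x * y ≠ y * x
  · exact comm_mem_of_sq (A := E.subgroupOf T) (fun z => mE ((hs.main hna).1 z))
      ⟨x, hQT hx⟩ ⟨y, hQT hy⟩
  · push Not at hna
    rw [commutatorElement_eq_one_iff_mul_comm.2
      (congrArg Subtype.val (hna ⟨x, hQT hx⟩ ⟨y, hQT hy⟩))]
    exact one_mem _

/-- no components -/
theorem not_comp (h3 : 2 < ♯E) (hc : ∀ Q : Subgroup G, Q ≤ 𝐂 E → IsPGroup 2 Q → ∀ x ∈ Q, ∀ y ∈ Q,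
    ⁅x, y⁆ ∈ E) {L : Subgroup G} (hL : Comp L ⊤) : False := by
  have := h.nrm
  have : Fact (Nat.Prime 2) := ⟨Nat.prime_two⟩
  have hEF : E ≤ 𝐅 ⊤ := le_F (normalIn_top.2 inferInstance) h.two.isNilpotent
  have hLE : ∀ {L : Subgroup G}, Comp L ⊤ → L ≤ 𝐂 E := fun k => k.cent_F.trans (cent_anti hEF)
  obtain ⟨hper, hsim⟩ := hL.qs
  obtain ⟨P⟩ : Nonempty (Sylow 2 L) := inferInstance
  have hP : ∀ a ∈ (P : Subgroup L), ∀ b ∈ (P : Subgroup L), ((⁅a, b⁆ : L) : G) ∈ E :=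
    fun a ha b hb => hc ((P : Subgroup L).map L.subtype)
      ((map_subtype_le _).trans (hLE hL)) (P.isPGroup'.map _) a (mem_map_of_mem _ ha) b
      (mem_map_of_mem _ hb)
  have hZ : ∀ a : L, (a : G) ∈ E → a ∈ center L := fun a ha =>
    mem_center_iff.2 fun b => Subtype.ext (hLE hL b.2 a ha).symm
  have hZ2 : ∀ c ∈ center L, c * c = 1 := fun c hc' => by
    have h1 : (c : G) ∈ 𝐎 {2} ⊤ := hL.center_le_O h.odd
      ⟨c.2, fun b hb => congrArg Subtype.val (mem_center_iff.1 hc' ⟨b, hb⟩)⟩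
    have h2 : IsPGroup 2 (zpowers c) := by
      obtain ⟨k, hk⟩ := (O_pi {2} (⊤ : Subgroup G)).isPGroup ⟨c, h1⟩
      have hk' : c ^ 2 ^ k = 1 := Subtype.ext (congrArg Subtype.val hk :)
      rintro ⟨_, j, rfl⟩
      exact ⟨k, Subtype.ext (by
        change (c ^ j) ^ 2 ^ k = 1
        rw [← zpow_natCast, ← zpow_mul, mul_comm, zpow_mul, zpow_natCast, hk', one_zpow])⟩
    have : (zpowers c).Normal := ⟨fun m hm g => by
      rw [mem_center_iff.1 (zpowers_le.2 hc' hm) g, mul_inv_cancel_right]; exact hm⟩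
    have h4 := CF.Transfer.sylow_inf_center_inf_commutator_le P
      ⟨⟨h2.le_sylow_of_normal P (mem_zpowers c), by rw [hper.1]; trivial⟩, hc'⟩
    have h5 : ⁅(P : Subgroup L), (P : Subgroup L)⁆ ≤ E.subgroupOf L := commutator_le.2 hP
    exact Subtype.ext ((h.mem _).1 (h5 h4))
  let π := QuotientGroup.mk' (center L)
  have hπ := QuotientGroup.mk'_surjective (center L)
  have hna : ¬ IsMulCommutative (L ⧸ center L) := fun k => by
    have h1 : commutator L ≤ center L := by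
      rw [← QuotientGroup.ker_mk' (center L), _root_.commutator_def, commutator_le]
      intro a _ b _
      rw [MonoidHom.mem_ker, map_commutatorElement, commutatorElement_eq_one_iff_mul_comm]
      exact k.1.1 _ _
    rw [hper.1, top_le_iff] at h1
    have := hsim.toNontrivial
    rw [QuotientGroup.nontrivial_iff] at this
    exact this h1
  have one : ∀ a b : L ⧸ center L, orderOf a = 2 → orderOf b = 2 → IsConj a b := fun a b ha hb =>
    one_class hna (P.mapSurjective hπ) (by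
      rintro _ ⟨a, ha, rfl⟩ _ ⟨b, hb, rfl⟩
      rw [← commutatorElement_eq_one_iff_mul_comm, ← map_commutatorElement]
      exact (QuotientGroup.eq_one_iff _).2 (hZ _ (hP a ha b hb))) ha hb
  obtain ⟨a, ha⟩ := exists_invol_of_even (G := L ⧸ center L) (by
    by_contra k
    exact (ns_top hna).not_od (od_iff.1 (by rw [card_top]; exact Nat.not_even_iff_odd.1 k)))
  obtain ⟨a, rfl⟩ := hπ a
  have a1 : a ∉ center L := fun k => (orderOf_eq_two_iff.1 ha).2 ((QuotientGroup.eq_one_iff _).2 k)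
  have a2 : a * a ∈ center L := (QuotientGroup.eq_one_iff _).1 (orderOf_eq_two_iff.1 ha).1
  set z : G := (a : G) * a with hz
  have zE : z ∈ E := (h.mem _).2 (congrArg Subtype.val (hZ2 _ a2))
  have z1 : z ≠ 1 := fun e => a1 (hZ a ((h.mem _).2 e))
  have key : ∀ g : G, cj g L = L → g * z * g⁻¹ = z := fun g e => by
    have gN := cj_eq_self.1 e
    let b : L := L.normalizerMonoidHom ⟨g, gN⟩ a
    have hb : orderOf (π b) = 2 := orderOf_eq_two_iff.2 ⟨by
      rw [← map_mul, ← map_mul]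
      exact (QuotientGroup.eq_one_iff _).2 (hZ _ (h.nrm.conj_mem _ zE g)), fun k => a1 (by
        have h1 := (QuotientGroup.eq_one_iff _).1 k
        refine mem_center_iff.2 fun c => (L.normalizerMonoidHom ⟨g, gN⟩).injective ?_
        rw [map_mul, map_mul]
        exact mem_center_iff.1 h1 _)⟩
    obtain ⟨l, hl⟩ := isConj_iff.1 (one _ _ ha hb)
    obtain ⟨l, rfl⟩ := hπ l
    have h1 : (l * a * l⁻¹)⁻¹ * b ∈ center L := QuotientGroup.eq.1 hl
    have h2 : b * b = a * a := by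
      set c := (l * a * l⁻¹)⁻¹ * b
      have h4 : b = l * a * l⁻¹ * c := (mul_inv_cancel_left _ _).symm
      rw [h4, mul_assoc, ← mul_assoc c, ← mem_center_iff.1 h1, mul_assoc _ c c, hZ2 c h1, mul_one,
        conj_mul, mem_center_iff.1 a2, mul_inv_cancel_right]
    have h4 := congrArg Subtype.val h2
    rw [hz, ← conj_mul]
    exact h4
  obtain ⟨s, hs, s1, sz⟩ : ∃ s ∈ E, s ≠ 1 ∧ s ≠ z := by
    obtain ⟨x, hx, y, hy, xy, x1, y1⟩ := h.exists_two h3
    by_cases e : x = z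
    exacts [⟨y, hy, y1, e ▸ xy.symm⟩, ⟨x, hx, x1, e⟩]
  have zs1 : z * s ≠ 1 := fun e => sz (by rw [← h.inv_eq zE, eq_comm, inv_eq_iff_mul_eq_one, e])
  obtain ⟨g, hg⟩ := h.conj z s (h.ord zE z1) (h.ord hs s1)
  obtain ⟨k, hk⟩ := h.conj z (z * s) (h.ord zE z1) (h.ord (E.mul_mem zE hs) zs1)
  have cg : Comp (cj g L) ⊤ := hL.cj_of_norm (by rw [normalizer_eq_top]; trivial)
  have ck : Comp (cj k L) ⊤ := hL.cj_of_norm (by rw [normalizer_eq_top]; trivial)
  have n1 : cj g L ≤ 𝐂 L := cg.cent_of_ne hL fun e => sz (hg.symm.trans (key g e))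
  have n2 : cj k L ≤ 𝐂 L := ck.cent_of_ne hL fun e => s1 (by simpa using hk.symm.trans (key k e))
  have n3 : cj k L ≤ 𝐂 (cj g L) := ck.cent_of_ne cg fun e => by
    have := key (g⁻¹ * k) (by rw [← cj_cj, e, cj_inv_cj])
    have h1 : k * z * k⁻¹ = g * z * g⁻¹ := by conv_rhs => rw [← this]
                                              group
    rw [hk, hg] at h1
    exact z1 (by simpa using h1)
  have m1 : g * a * g⁻¹ ∈ cj g L := conj_mem_cj.2 a.2
  have m2 : k * a * k⁻¹ ∈ cj k L := conj_mem_cj.2 a.2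
  have c1 : Commute (a : G) (g * a * g⁻¹) := n1 m1 a a.2
  have c2 : Commute (a : G) (k * a * k⁻¹) := n2 m2 a a.2
  have c3 : Commute (g * a * g⁻¹) (k * a * k⁻¹) := n3 m2 _ m1
  have hb : a * (g * a * g⁻¹) * (k * a * k⁻¹) ∈ E := by
    rw [h.mem, ← pow_two, (c2.mul_left c3).mul_pow, c1.mul_pow, pow_two, pow_two, pow_two, conj_mul,
      conj_mul, ← hz, hg, hk]
    exact (h.mem _).1 (E.mul_mem zE hs)
  have h5 : (a : G) ∈ 𝐂 L := by
    have := mul_mem (mul_mem (le_centralizer_iff.1 (hLE hL) hb) (inv_mem (n2 m2))) (inv_mem (n1 m1))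
    rwa [mul_inv_cancel_right, mul_inv_cancel_right] at this
  exact a1 (mem_center_iff.2 fun b => Subtype.ext (h5 b b.2))

theorem sol_cent (h3 : 2 < ♯E) (hc : ∀ Q : Subgroup G, Q ≤ 𝐂 E → IsPGroup 2 Q → ∀ x ∈ Q, ∀ y ∈ Q,
    ⁅x, y⁆ ∈ E) : Sol (𝐂 E) := by
  have := h.nrm
  have : Fact (Nat.Prime 2) := ⟨Nat.prime_two⟩
  have hF := cent_F_le_of_Lay (H := (⊤ : Subgroup G))
    (Lay_eq_bot_iff.2 fun K hK => h.not_comp h3 hc hK)
  rw [top_inf_eq, F_eq_O_of h.odd] at hF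
  set R := 𝐎 {2} (⊤ : Subgroup G)
  have hR : IsPGroup 2 R := (O_pi _ _).isPGroup
  have nR : R.Normal := normalIn_top.1 (O_normal _ _)
  have hRE : R ≤ 𝐂 E := by
    have h1 : E ⊓ 𝐂 R ≠ ⊥ := by
      have := hR.isNilpotent
      exact CF.Solv.inf_centralizer_ne_bot_of_isNilpotent
        (le_O (normalIn_top.2 inferInstance) (piGrp_of_isPGroup Nat.prime_two h.two))
        (le_top.trans (normalizer_eq_top _).ge) (fun e => by simp [e] at h3)
    have h2 := h.tr.eq_of_norm (D := E ⊓ 𝐂 R) inf_le_left (normalizer_eq_top _).ge h1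
    exact le_centralizer_iff.1 (h2.ge.trans inf_le_right)
  obtain ⟨T, hT, hRT⟩ := exists_syl_le hRE (O_pi _ _)
  let π := QuotientGroup.mk' E
  have : (R.map π).Normal := nR.map π (QuotientGroup.mk'_surjective E)
  let D := 𝐂 E ⊓ (𝐂 (R.map π)).comap π
  have : D.Normal := inferInstance
  have hTD : T ≤ D := fun x hx => ⟨hT.le hx, by
    rintro _ ⟨r, hr, rfl⟩
    rw [← commutatorElement_eq_one_iff_mul_comm, ← map_commutatorElement]
    exact (QuotientGroup.eq_one_iff _).2 (hc T hT.le hT.pi.isPGroup r (hRT hr) x hx)⟩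
  have hD : IsPGroup 2 D := fun x => by
    obtain ⟨k, m, hm, hk⟩ := Nat.exists_eq_pow_mul_and_not_dvd (orderOf_pos (x : G)).ne' 2
      (by norm_num)
    refine ⟨k, Subtype.ext ?_⟩
    obtain ⟨y, hy, e⟩ : ∃ y ∈ D, y = (x : G) ^ 2 ^ k := ⟨_, pow_mem x.2 _, rfl⟩
    have h1 : y ^ m = 1 := by rw [e, ← pow_mul, ← hk, pow_orderOf_eq_one]
    have h2 : y ∈ R := hF fun r hr => by
      have h4 : r⁻¹ * (y * r * y⁻¹) ∈ E := QuotientGroup.eq.1 (by
        have := hy.2 _ (mem_map_of_mem π hr)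
        change π r = π (y * r * y⁻¹)
        rw [map_mul, map_mul, ← this, map_inv, mul_inv_cancel_right])
      set c := r⁻¹ * (y * r * y⁻¹) with hc'
      have h5 : ∀ n : ℕ, y ^ n * r * (y ^ n)⁻¹ = r * c ^ n := fun n => by
        induction n with
        | zero => simp
        | succ n ih =>
          have h6 : y * c ^ n * y⁻¹ = c ^ n := by
            rw [← hy.1 _ (pow_mem h4 n), mul_inv_cancel_right]
          calc y ^ (n + 1) * r * (y ^ (n + 1))⁻¹ = y * (y ^ n * r * (y ^ n)⁻¹) * y⁻¹ := by group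
            _ = (y * r * y⁻¹) * (y * c ^ n * y⁻¹) := by rw [ih]; group
            _ = _ := by rw [h6, pow_succ', ← mul_assoc, hc', mul_inv_cancel_left]
      have h6 := h5 m
      rw [h1, one_mul, inv_one, mul_one, left_eq_mul] at h6
      have h7 : c = 1 := by
        rw [← orderOf_eq_one_iff]
        have h8 : orderOf c ∣ 2 := orderOf_dvd_of_pow_eq_one (by rw [pow_two, (h.mem c).1 h4])
        have h9 := Nat.dvd_gcd h8 (orderOf_dvd_of_pow_eq_one h6)
        rwa [(Nat.Prime.coprime_iff_not_dvd Nat.prime_two).2 hm, Nat.dvd_one] at h9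
      rw [hc', inv_mul_eq_one, eq_mul_inv_iff_mul_eq] at h7
      exact h7
    obtain ⟨j, hj⟩ := hR ⟨y, h2⟩
    have h4 : orderOf y ∣ 2 ^ j := orderOf_dvd_of_pow_eq_one (congrArg Subtype.val hj)
    have h5 := Nat.dvd_gcd h4 (orderOf_dvd_of_pow_eq_one h1)
    rw [(((Nat.Prime.coprime_iff_not_dvd Nat.prime_two).2 hm).pow_left j), Nat.dvd_one,
      orderOf_eq_one_iff] at h5
    exact e.symm.trans h5
  have h4 := hT.eq_of_le hTD inf_le_left (piGrp_of_isPGroup Nat.prime_two hD)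
  have h5 : 𝐂 E ≤ 𝐍 T := by rw [h4, normalizer_eq_top]; exact le_top
  have := hT.pi.isPGroup.isNilpotent
  exact Sol.of_qt inferInstance h5 (od_sol ((piGrp_qt_iff h5).2 hT.idx))

theorem sol [hp : Fact p.Prime] (hp2 : p ≠ 2) (hc : ♯E = p + 1) : Group.IsSolvable G := by
  classical
  have := h.nrm
  have hp1 := hp.out.two_le
  have h3 : 2 < ♯E := by omega
  have hs := h.sol_cent h3 fun Q hQ h2 x hx y hy => h.comm_mem hp2 hc hQ h2 hx hy
  let I := {x : E // x ≠ 1}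
  let act : MulAction G I :=
    { smul := fun g x => ⟨MulAut.conjNormal g x.1, by simpa using x.2⟩
      one_smul := fun x => Subtype.ext (by change MulAut.conjNormal 1 x.1 = _; simp)
      mul_smul := fun a b x => Subtype.ext (by
        change MulAut.conjNormal (a * b) x.1 = MulAut.conjNormal a (MulAut.conjNormal b x.1)
        simp) }
  have hact : ∀ (g : G) (x : I), (((g • x : I) : E) : G) = g * x * g⁻¹ := fun _ _ => rfl
  have := Fintype.ofFinite E
  have hI : Fintype.card I = p := by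
    rw [Fintype.card_subtype_compl, Fintype.card_subtype_eq, ← Nat.card_eq_fintype_card, hc]
    rfl
  let φ := MulAction.toPermHom G I
  have ne : ∀ x : I, ((x : E) : G) ≠ 1 := fun x e => x.2 (Subtype.ext e)
  have : MulAction.IsPretransitive φ.range I := ⟨fun x y => by
    obtain ⟨g, -, e⟩ := h.tr _ x.1.2 (ne x) _ y.1.2 (ne y)
    exact ⟨⟨φ g, g, rfl⟩, Subtype.ext (Subtype.ext e)⟩⟩
  rcases CF.Perm.solvable_or_twoTrans (G := φ.range) hI with k | k
  · refine Group.isSolvable_of_ker_le_range (𝐂 E).subtype φ.rangeRestrict fun g hg => ?_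
    rw [range_subtype]
    intro e he
    by_cases e1 : e = 1
    · simp [e1]
    have h1 : φ g = 1 := congrArg Subtype.val hg
    have h2 := hact g ⟨⟨e, he⟩, fun k => e1 (congrArg Subtype.val k)⟩
    rw [show g • _ = φ g _ from rfl, h1] at h2
    exact eq_mul_inv_iff_mul_eq.1 h2
  · refine (CF.Bender.lemQ0 E (fun q => (h.mem q).1) (by omega) (fun x => (h.mem x).2) ?_).elim
    intro s1 a1 s2 a2 t1 b1 t2 b2 c1 c2 c3 d1 d2 d3
    obtain ⟨⟨_, g, rfl⟩, e1, e2⟩ := CF.Perm.twoTrans_iff.1 k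
      ⟨⟨s1, a1⟩, fun k => c1 (congrArg Subtype.val k)⟩ ⟨⟨s2, a2⟩, fun k => c2 (congrArg Subtype.val k)⟩
      ⟨⟨t1, b1⟩, fun k => d1 (congrArg Subtype.val k)⟩ ⟨⟨t2, b2⟩, fun k => d2 (congrArg Subtype.val k)⟩
      (fun k => c3 (congrArg (fun x : I => ((x : E) : G)) k))
      (fun k => d3 (congrArg (fun x : I => ((x : E) : G)) k))
    exact ⟨g⁻¹, by rw [inv_inv]; exact congrArg (fun x : I => ((x : E) : G)) e1,
      by rw [inv_inv]; exact congrArg (fun x : I => ((x : E) : G)) e2⟩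

end EI
end CF.Crit.Inv
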