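import Cfsg.Agent.Crit.Inv2
import Cfsg.Agent.Fgs1.Kazarin
import Cfsg.Agent.BG2.Rep
import Cfsg.Agent.Suz.Invol
import Cfsg.Agent.PLocal.Constraint
import Cfsg.Agent.Char.Integral
import Cfsg.Agent.Classical.SmallIso
import Cfsg.Agent.Classical.SL2
import Cfsg.Agent.S0226

/-!
# Groups with one class of `p ^ k` involutions
-/

set_option autoImplicit false

namespace CF.Crit.Inv
open Subgroup CF.BG CF.Sig CF.Ab2 CF.Invol Matrix
open scoped commutatorElement MatrixGroups

universe u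

theorem le_one_of_mersenne {p k n : ℕ} (hp : Odd p) (hp1 : 1 < p) (h : p ^ k + 1 = 2 ^ n) :
    k ≤ 1 := by
  by_contra! hk
  rcases Nat.even_or_odd k with ⟨j, rfl⟩ | ho
  · have h1 : (p ^ j) ^ 2 % 4 = 1 := by
      obtain ⟨c, hc⟩ := hp.pow (n := j)
      rw [hc, show (2 * c + 1) ^ 2 = 1 + 4 * (c * c + c) by ring, Nat.add_mul_mod_self_left]
    have h2 : 2 ≤ n := by
      by_contra! h3
      have : p ^ 1 < p ^ (j + j) := Nat.pow_lt_pow_right hp1 hk
      rw [pow_one] at this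
      interval_cases n <;> omega
    obtain ⟨m, rfl⟩ := Nat.exists_eq_add_of_le h2
    rw [← two_mul, mul_comm, pow_mul, pow_add] at h
    omega
  · obtain ⟨c, hc⟩ := ho.nat_add_dvd_pow_add_pow p 1
    rw [one_pow] at hc
    have h1 : p ^ 1 < p ^ k := Nat.pow_lt_pow_right hp1 hk
    have h2 : 2 ∣ c := by
      obtain ⟨i, -, rfl⟩ := (Nat.dvd_prime_pow Nat.prime_two).1 (show c ∣ 2 ^ n from
        h ▸ hc ▸ dvd_mul_left _ _)
      rcases i with _ | i
      · simp at hc h1; omega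
      · exact dvd_pow_self 2 i.succ_ne_zero
    obtain ⟨b, rfl⟩ := hp
    obtain ⟨c, rfl⟩ := h2
    obtain ⟨j, rfl⟩ := ho
    have h3 : (2 * b + 1) ^ 2 ≡ 1 [MOD 4 * b + 4] := by
      rw [show (2 * b + 1) ^ 2 = 1 + (4 * b + 4) * b by ring]
      exact Nat.add_mul_mod_self_left _ _ _
    have h4 := ((h3.pow j).mul_right (2 * b + 1)).add_right 1
    rw [← pow_mul, ← pow_succ, hc, show (2 * b + 1 + 1) * (2 * c) = (4 * b + 4) * c by ring,
      one_pow, one_mul] at h4
    have := Nat.le_of_dvd (by omega) ((h4.dvd_iff dvd_rfl).1 (dvd_mul_right _ _))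
    omega

section
variable {G : Type*} [Group G] [Finite G]

/-- an involution in the derived group of its centralizer inverts a square number of elements -/
theorem sq_relIndex {M : Subgroup G} [M.Normal] {r : ℕ} [hr : Fact r.Prime] (hr2 : r ≠ 2)
    (hM : Cfsg.IsElementaryAbelian r M) {t : G} (ht : t * t = 1) (hc : t ∈ ⁅𝐂₁ t, 𝐂₁ t⁆) :
    IsSquare ((𝐂₁ t).relIndex M) := by
  have hab : ∀ a ∈ M, ∀ b ∈ M, a * b = b * a := fun a ha b hb =>
    congrArg Subtype.val (hM.1.1.1 (⟨a, ha⟩ : M) ⟨b, hb⟩)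
  let U : Subgroup G :=
    { carrier := Cfsg.invertedBy M t
      one_mem' := ⟨M.one_mem, by simp⟩
      mul_mem' := fun {a b} ha hb => ⟨M.mul_mem ha.1 hb.1, by
        rw [← conj_mul, ha.2, hb.2, ← _root_.mul_inv_rev, hab _ ha.1 _ hb.1]⟩
      inv_mem' := fun {a} ha => ⟨M.inv_mem ha.1, by rw [← conj_inv, ha.2]⟩ }
  have hU : Cfsg.IsElementaryAbelian r U :=
    ⟨⟨⟨fun a b => Subtype.ext (hab _ a.2.1 _ b.2.1)⟩⟩, fun a ha => hM.2 a ha.1⟩
  have hN : ∀ g : 𝐂₁ t, (𝐂₁ t).subtype g ∈ 𝐍 U := fun g => mem_normalizer_fintype fun x hx =>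
    ⟨‹M.Normal›.conj_mem _ hx.1 _, by
      change t * (g * x * (g : G)⁻¹) * t⁻¹ = (g * x * (g : G)⁻¹)⁻¹
      rw [conj_inv, ← hx.2]
      calc _ = (t * g) * x * (t * g)⁻¹ := by group
        _ = _ := by rw [← mem_cent1.1 g.2]; group⟩
  obtain ⟨n, e, f, h1, h2, h3⟩ := CF.BG2.exists_zmod_rep_ambient U hU _ hN
  have h4 : f ⟨t, self_mem_cent1 t⟩ = -1 := by
    refine Matrix.ext_iff_mulVec.2 fun v => ?_
    obtain ⟨x, rfl⟩ := e.surjective v
    have h0 : e 1 = 0 := by simpa using h2 1 1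
    rw [← h3 _ x x⁻¹ x.2.2.symm, neg_mulVec, one_mulVec, eq_neg_iff_add_eq_zero, ← h2,
      inv_mul_cancel, h0]
  have h5 : (f ⟨t, self_mem_cent1 t⟩).det = 1 := by
    have : (⟨t, self_mem_cent1 t⟩ : 𝐂₁ t) ∈ commutator (𝐂₁ t) := by
      rw [← map_subtype_commutator] at hc
      obtain ⟨y, hy, e⟩ := hc
      rwa [show y = ⟨t, self_mem_cent1 t⟩ from Subtype.ext e] at hy
    exact congrArg Units.val (Abelianization.commutator_subset_ker
      (detMonoidHom.comp f).toHomUnits this)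
  rw [h4, det_neg, det_one, mul_one, Fintype.card_fin] at h5
  have h6 : Even n := by
    by_contra k
    rw [(Nat.not_even_iff_odd.1 k).neg_one_pow] at h5
    have : Fact (2 < r) := ⟨lt_of_le_of_ne hr.out.two_le hr2.symm⟩
    exact ZMod.neg_one_ne_one h5
  have ho : Odd (♯M) := by
    obtain ⟨k, hk⟩ := (CF.Solv.isPGroup_of_forall_pow_eq_one hM.2).exists_card_eq
    rw [hk]
    exact (hr.out.odd_of_ne_two hr2).pow
  have h7 := CF.Suz.card_eq_cent_mul_inv ht ho fun x hx => ‹M.Normal›.conj_mem _ hx _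
  have h8 : (𝐂₁ t).relIndex M = r ^ n := by
    rw [← h1]
    refine Nat.eq_of_mul_eq_mul_left (Nat.card_pos (α := (M ⊓ 𝐂₁ t : Subgroup G))) ?_
    rw [← inf_relIndex_left, CF.Solv.card_mul_relIndex inf_le_left, h7]
    rfl
  obtain ⟨j, rfl⟩ := h6
  exact ⟨r ^ j, by rw [h8, pow_add]⟩

theorem sol_nine (h9 : Nat.card {x : G // orderOf x = 2} = 9)
    (hc : ∀ x y : G, orderOf x = 2 → orderOf y = 2 → ∃ g, g * x * g⁻¹ = y) :
    Group.IsSolvable G := by
  classical
  let I := {x : G // orderOf x = 2}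
  have ho : ∀ g x : G, orderOf (g * x * g⁻¹) = orderOf x := fun g x =>
    (MulAut.conj g).orderOf_eq x
  let act : MulAction G I :=
    { smul := fun g x => ⟨g * x * g⁻¹, (ho _ _).trans x.2⟩
      one_smul := fun x => Subtype.ext (by change 1 * x.1 * 1⁻¹ = _; simp)
      mul_smul := fun a b x => Subtype.ext (by
        change a * b * x.1 * (a * b)⁻¹ = a * (b * x.1 * b⁻¹) * a⁻¹
        group) }
  let K := (MulAction.toPermHom G I).ker
  have hK : ∀ g, g ∈ K ↔ ∀ x, orderOf x = 2 → g * x * g⁻¹ = x := fun g =>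
    ⟨fun h x hx => congrArg Subtype.val (DFunLike.congr_fun h ⟨x, hx⟩ :),
      fun h => Equiv.ext fun x => Subtype.ext (h x x.2)⟩
  have k1 : Odd (♯K) := odd_card_iff_no_invol.2 fun t ht t2 => by
    have all : ∀ s, orderOf s = 2 → s ∈ K := fun s hs => by
      obtain ⟨g, rfl⟩ := hc t s t2 hs
      exact (inferInstance : K.Normal).conj_mem _ ht g
    have cm : ∀ a b : G, a * a = 1 → b * b = 1 → a * b = b * a := fun a b ha hb => by
      by_cases a1 : a = 1
      · simp [a1]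
      by_cases b1 : b = 1
      · simp [b1]
      exact mul_inv_eq_iff_eq_mul.1 ((hK a).1 (all a (orderOf_eq_two_iff.2 ⟨ha, a1⟩)) b
        (orderOf_eq_two_iff.2 ⟨hb, b1⟩))
    let E : Subgroup G :=
      { carrier := {x | x * x = 1}
        one_mem' := mul_one 1
        mul_mem' := fun {a b} ha hb => by
          change a * b * (a * b) = 1
          rw [mul_assoc, ← mul_assoc b, ← cm a b ha hb, mul_assoc, hb, mul_one, ha]
        inv_mem' := fun {a} ha => by
          change a⁻¹ * a⁻¹ = 1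
          rw [← _root_.mul_inv_rev, ha, inv_one] }
    have hE : IsPGroup 2 E := fun x => ⟨1, Subtype.ext (by rw [pow_one, pow_two]; exact x.2)⟩
    obtain ⟨n, hn⟩ := hE.exists_card_eq
    have h1 := card_subtype_ne_add_one (p := fun x : G => x * x = 1) (mul_one 1)
    simp only [← Invol.orderOf_eq_two_iff, h9] at h1
    have h2 : 2 ^ n = 10 := hn.symm.trans h1.symm
    have h3 : 5 ∣ 2 ^ n := by rw [h2]; norm_num
    have := Nat.prime_five.dvd_of_dvd_pow h3
    omega
  have k2 : Sol K := od_sol (od_iff.1 k1)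
  have k3 : Group.IsSolvable (G ⧸ K) := by
    refine CF.Char.isSolvable_of_card_primeFactors_le_two ((Finset.card_le_card (t := {2, 3})
      fun r hr => ?_).trans Finset.card_le_two)
    have hr1 := Nat.prime_of_mem_primeFactors hr
    have : Fact r.Prime := ⟨hr1⟩
    obtain ⟨R⟩ : Nonempty (Sylow r G) := inferInstance
    by_contra hn
    have h5 : 5 ≤ r := hr1.five_le_of_ne_two_of_ne_three (by rintro rfl; simp at hn)
      (by rintro rfl; simp at hn)
    have h1 := R.isPGroup'.card_modEq_card_fixedPoints I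
    have h2 : Nat.card (MulAction.fixedPoints R I) =
        Nat.card {x : 𝐂 (R : Subgroup G) // orderOf x = 2} := Nat.card_congr
      ⟨fun x => ⟨⟨x.1.1, fun g hg => mul_inv_eq_iff_eq_mul.1
          (congrArg Subtype.val (x.2 ⟨g, hg⟩))⟩, by rw [← orderOf_coe]; exact x.1.2⟩,
        fun x => ⟨⟨x.1.1, by rw [orderOf_coe]; exact x.2⟩, fun g => Subtype.ext
          (mul_inv_eq_iff_eq_mul.2 (x.1.2 g g.2))⟩, fun _ => rfl, fun _ => rfl⟩
    have h3 : Nat.card (MulAction.fixedPoints R I) = 0 ∨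
        Odd (Nat.card (MulAction.fixedPoints R I)) := by
      rw [h2]
      rcases Nat.even_or_odd (♯(𝐂 (R : Subgroup G))) with k | k
      · exact Or.inr (Cfsg.Agent.S0226.result k)
      · refine Or.inl (Nat.card_eq_zero.2 (Or.inl ⟨fun x => ?_⟩))
        exact odd_card_iff_no_invol.1 k x.1 x.1.2 (by rw [orderOf_coe]; exact x.2)
    have h4 : Nat.card (MulAction.fixedPoints R I) ≤ 9 := h9 ▸ Finite.card_subtype_le _
    have h6 : Nat.card (MulAction.fixedPoints R I) = Nat.card I := by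
      rw [show Nat.card I = 9 from h9] at h1 ⊢
      by_contra k
      have h7 := (Nat.modEq_iff_dvd' h4).1 h1.symm
      generalize Nat.card (MulAction.fixedPoints R I) = m at *
      have h8 := Nat.le_of_dvd (by omega) h7
      rcases h3 with rfl | ⟨j, rfl⟩
      · interval_cases r <;> simp_all (config := {decide := true})
      · have : j ≤ 4 := by omega
        have : r ≤ 9 := by omega
        interval_cases r <;> interval_cases j <;> simp_all (config := {decide := true})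
    have h7 : (R : Subgroup G) ≤ K := fun g hg => (hK g).2 fun x hx => by
      have : MulAction.fixedPoints R I = Set.univ := Set.eq_of_subset_of_ncard_le (Set.subset_univ _)
        (by rw [Set.ncard_univ, ← h6]; rfl)
      exact congrArg Subtype.val ((this.ge (Set.mem_univ ⟨x, hx⟩)) ⟨g, hg⟩)
    exact R.not_dvd_index ((Nat.dvd_of_mem_primeFactors hr).trans (index_dvd_of_le h7))
  exact Group.isSolvable_of_ker_le_range K.subtype (QuotientGroup.mk' K) (by simp)

end

theorem main {p : ℕ} (hp : p.Prime) (hp2 : p ≠ 2) (G : Type u) [Group G] [Finite G] :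
    ∀ (t : G) (k : ℕ), orderOf t = 2 → (𝐂₁ t).index = p ^ k →
      (∀ x y : G, orderOf x = 2 → orderOf y = 2 → ∃ g, g * x * g⁻¹ = y) →
      ¬ Group.IsSolvable G → t ∈ ⁅𝐂₁ t, 𝐂₁ t⁆ ∧ Even k := by
  refine CF.Solv.group_induction (P := fun G _ _ => ∀ (t : G) (k : ℕ), orderOf t = 2 →
    (𝐂₁ t).index = p ^ k → (∀ x y : G, orderOf x = 2 → orderOf y = 2 → ∃ g, g * x * g⁻¹ = y) →
      ¬ Group.IsSolvable G → t ∈ ⁅𝐂₁ t, 𝐂₁ t⁆ ∧ Even k) ?_ G
  intro G _ _ ih t k ht hk hc hs
  have : Fact p.Prime := ⟨hp⟩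
  have : Fact (Nat.Prime 2) := ⟨Nat.prime_two⟩
  obtain ⟨tt, t1⟩ := orderOf_eq_two_iff.1 ht
  by_cases hO : 𝐎 {2}ᶜ (⊤ : Subgroup G) = ⊥
  · obtain ⟨N, nN, sN, tN⟩ := CF.Fgs1.kazarin hp G t k hk
    obtain ⟨E, hE, EN⟩ := CF.Solv.exists_isMinNormal_le N fun e => t1 (by simpa [e] using tN)
    have := CF.Solv.isSolvable_of_le EN
    have nE := hE.1
    obtain ⟨r, hr, h1, h2⟩ := hE.exists_isElementaryAbelian
    obtain rfl : r = 2 := by
      by_contra k
      exact hE.2.1 (le_bot_iff.1 (hO ▸ le_O (normalIn_top.2 nE)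
        ((piGrp_of_isPGroup hr h2).mono (by simpa using Ne.symm k))))
    obtain ⟨s, hs', s1⟩ := (nontrivial_iff_exists_ne_one E).1 ((nontrivial_iff_ne_bot E).2 hE.2.1)
    have h : EI E := ⟨fun x => ⟨fun hx => by simpa [pow_two] using h1.2 x hx, fun hx => by
      by_cases x1 : x = 1
      · simp [x1]
      obtain ⟨g, rfl⟩ := hc s x (orderOf_eq_two_iff.2 ⟨by simpa [pow_two] using h1.2 s hs', s1⟩)
        (orderOf_eq_two_iff.2 ⟨hx, x1⟩)
      exact nE.conj_mem _ hs' g⟩, hc, hO⟩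
    have c1 : ♯E = p ^ k + 1 := by
      have h3 := card_subtype_ne_add_one (p := fun x : G => x * x = 1) (mul_one 1)
      rw [← hk, ← card_isConj_eq_index, Nat.card_congr (Equiv.subtypeEquivRight (q := fun x =>
        x * x = 1 ∧ x ≠ 1) fun x => ⟨fun e => orderOf_eq_two_iff.1 (by
          obtain ⟨g, rfl⟩ := isConj_iff.1 e
          exact ((MulAut.conj g).orderOf_eq t).trans ht),
          fun e => isConj_iff.2 (hc _ _ ht (orderOf_eq_two_iff.2 e))⟩), h3]
      exact Nat.card_congr (Equiv.subtypeEquivRight h.mem)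
    obtain ⟨n, hn⟩ := h2.exists_card_eq
    have c2 := le_one_of_mersenne (hp.odd_of_ne_two hp2) hp.one_lt (c1.symm.trans hn)
    interval_cases k
    · rw [pow_zero, index_eq_one] at hk
      refine ⟨?_, by simp⟩
      rw [hk]
      by_contra k
      have h3 : Sol (commutator G) := od_sol (od_iff.1 (odd_card_iff_no_invol.2 fun x hx x2 => by
        obtain ⟨g, rfl⟩ := hc x t x2 ht
        exact k ((inferInstance : (commutator G).Normal).conj_mem _ hx g)))
      exact hs (Group.isSolvable_of_ker_le_range (commutator G).subtype Abelianization.of (by simp))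
    · exact (hs (h.sol hp2 (by rw [c1, pow_one]))).elim
  have : (𝐎 {2}ᶜ (⊤ : Subgroup G)).Normal := normalIn_top.1 (O_normal _ _)
  obtain ⟨M, hM, MO⟩ := CF.Solv.exists_isMinNormal_le _ hO
  have oM : Odd (♯M) := od_iff.2 ((O_pi _ _).le MO)
  have : Sol M := od_sol (od_iff.1 oM)
  have nM := hM.1
  obtain ⟨r, hr, h1, h2⟩ := hM.exists_isElementaryAbelian
  have hr2 : r ≠ 2 := by
    rintro rfl
    obtain ⟨n, hn⟩ := h2.exists_card_eq
    rw [hn, Nat.odd_pow_iff] at oM
    · exact absurd oM (by decide)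
    · rintro rfl
      exact hM.2.1 (by simpa using hn)
  have : Fact r.Prime := ⟨hr⟩
  let π := QuotientGroup.mk' M
  have o2 : ∀ {x : G}, orderOf x = 2 → orderOf (π x) = 2 := fun {x} hx => orderOf_eq_two_iff.2
    ⟨by rw [← map_mul, (orderOf_eq_two_iff.1 hx).1, map_one], fun e =>
      odd_card_iff_no_invol.1 oM x ((QuotientGroup.eq_one_iff _).1 e) hx⟩
  have lift : ∀ y : G ⧸ M, orderOf y = 2 → ∃ x, orderOf x = 2 ∧ π x = y := fun y hy => by
    obtain ⟨x, rfl⟩ := QuotientGroup.mk'_surjective M y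
    obtain ⟨y2, y1⟩ := orderOf_eq_two_iff.1 hy
    have h3 : x ^ 2 ∈ M := (QuotientGroup.eq_one_iff _).1 (by rw [pow_two]; exact y2)
    have h4 : π (x ^ r) = π x := by
      obtain ⟨j, rfl⟩ := hr.odd_of_ne_two hr2
      rw [map_pow, pow_succ, pow_mul, pow_two, y2, one_pow, one_mul]
    refine ⟨x ^ r, orderOf_eq_two_iff.2 ⟨?_, fun e => y1 (by rw [← h4, e, map_one])⟩, h4⟩
    rw [← pow_two, ← pow_mul, mul_comm, pow_mul, h1.2 _ h3]
  have hC : (𝐂₁ t).map π = 𝐂₁ (π t) := by
    have := CF.PLocal.map_centralizer_of_coprime (p := 2) (P := zpowers t)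
      (.of_card (n := 1) (by simpa using ht)) M (Nat.coprime_two_right.2 oM)
    rwa [cent_zpowers, MonoidHom.map_zpowers, cent_zpowers] at this
  have i1 : (𝐂₁ (π t)).index = (𝐂₁ t ⊔ M).index := by
    rw [← hC, index_map, QuotientGroup.ker_mk', QuotientGroup.range_mk', index_top, mul_one]
  have i2 : (𝐂₁ t).relIndex M * (𝐂₁ t ⊔ M).index = p ^ k := by
    rw [← hk, ← relIndex_mul_index (le_sup_left : 𝐂₁ t ≤ 𝐂₁ t ⊔ M)]
    congr 1
    have e1 := relIndex_mul_relIndex (𝐂₁ t ⊓ M) (𝐂₁ t) (𝐂₁ t ⊔ M) inf_le_left le_sup_left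
    rw [← relIndex_mul_relIndex (𝐂₁ t ⊓ M) M (𝐂₁ t ⊔ M) inf_le_right le_sup_right,
      relIndex_sup_right, inf_relIndex_left, inf_relIndex_right, mul_comm] at e1
    exact (Nat.eq_of_mul_eq_mul_right (Nat.pos_of_ne_zero index_ne_zero_of_finite) e1).symm
  obtain ⟨j, hj, e1⟩ := (Nat.dvd_prime_pow hp).1 (Dvd.intro_left _ i2)
  obtain ⟨a1, a2⟩ := ih (G ⧸ M) (CF.Solv.card_quotient_lt hM.2.1) (π t) j (o2 ht) (i1.trans e1)
    (fun x y hx hy => by
      obtain ⟨x, hx', rfl⟩ := lift x hx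
      obtain ⟨y, hy', rfl⟩ := lift y hy
      obtain ⟨g, rfl⟩ := hc x y hx' hy'
      exact ⟨π g, by simp⟩)
    fun k => hs (Group.isSolvable_of_ker_le_range M.subtype π (by simp [π]))
  have b1 : t ∈ ⁅𝐂₁ t, 𝐂₁ t⁆ := by
    rw [← hC, ← map_commutator] at a1
    obtain ⟨c, hc', e⟩ := a1
    have h3 : c⁻¹ * t ∈ M := QuotientGroup.eq.1 e
    have h4 : Commute c t := mem_cent1.1 (commutator_le_self _ hc')
    have h5 := h1.2 _ h3
    obtain ⟨j, rfl⟩ := hr.odd_of_ne_two hr2
    rw [h4.inv_left.mul_pow, pow_succ t, pow_mul, pow_two, tt, one_pow, one_mul, inv_pow,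
      inv_mul_eq_one] at h5
    have := pow_mem hc' (2 * j + 1)
    rwa [h5] at this
  refine ⟨b1, ?_⟩
  obtain ⟨m, hm⟩ := sq_relIndex hr2 h1 tt b1
  obtain ⟨i, -, rfl⟩ := (Nat.dvd_prime_pow hp).1 (show m ∣ p ^ k from
    i2 ▸ hm ▸ (dvd_mul_right m m).mul_right _)
  rw [hm, e1, ← pow_add, ← pow_add] at i2
  rw [← Nat.pow_right_injective hp.two_le i2]
  exact (Even.add_self i).add a2

theorem counter (F : Type) [Field F] [Finite F] (h2 : (2 : F) ≠ 0) (h4 : 4 ≤ Nat.card F) :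
    ∃ (G : Type) (_ : Group G) (_ : Finite G), Nat.card {x : G // orderOf x = 2} = Nat.card F ^ 2 ∧
      (∀ x y : G, orderOf x = 2 → orderOf y = 2 → ∃ g : G, g * x * g⁻¹ = y) ∧
      ¬ Group.IsSolvable G := by
  let V := Fin 2 → F
  let φ : SL(2, F) →* MulAut (Multiplicative V) :=
    (MulAutMultiplicative V).symm.toMonoidHom.comp (DistribMulAction.toAddAut SL(2, F) V)
  have hφ : ∀ v : Multiplicative V, φ (-1) v = v⁻¹ := fun v => by
    change Multiplicative.ofAdd (((-1 : SL(2, F)) : Matrix (Fin 2) (Fin 2) F) *ᵥ v.toAdd) = _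
    simp [neg_mulVec]
  have n1 : (-1 : SL(2, F)) ≠ 1 := fun e => h2 (by
    have : (-1 : F) = 1 := by simpa using congrArg (fun g : SL(2, F) => g.1 0 0) e
    linear_combination -this)
  have sq : ∀ v : Multiplicative V, ∃ w, w * w = v := fun v =>
    ⟨Multiplicative.ofAdd ((2 : F)⁻¹ • v.toAdd), by
      rw [← ofAdd_add, ← two_smul F, smul_smul, mul_inv_cancel₀ h2, one_smul]; rfl⟩
  have key : ∀ x : Multiplicative V ⋊[φ] SL(2, F), orderOf x = 2 ↔ x.right = -1 := fun x => by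
    rw [Invol.orderOf_eq_two_iff]
    refine ⟨fun ⟨a, b⟩ => ?_, fun e => ⟨?_, fun k => n1 (by rw [← e, k]; rfl)⟩⟩
    · refine ((CF.Classical.SL2_mul_self_eq_one_iff h2).1 (congrArg (·.right) a)).resolve_left
        fun e => b ?_
      have h5 : x.left * x.left = 1 := by simpa [e] using congrArg (·.left) a
      have h6 : (2 : F) • x.left.toAdd = 0 := by rw [two_smul]; exact congrArg (·.toAdd) h5
      exact SemidirectProduct.ext ((smul_eq_zero.1 h6).resolve_left h2) e
    · exact SemidirectProduct.ext (by rw [SemidirectProduct.mul_left, e, hφ, mul_inv_cancel]; rfl)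
        (by simp [e])
  have : Finite (Multiplicative V ⋊[φ] SL(2, F)) := .of_equiv _ SemidirectProduct.equivProd.symm
  refine ⟨Multiplicative V ⋊[φ] SL(2, F), inferInstance, this, ?_, fun x y hx hy => ?_, fun k => ?_⟩
  · rw [Nat.card_congr (β := V) ⟨fun x => x.1.left.toAdd, fun v => ⟨⟨.ofAdd v, -1⟩, (key _).2 rfl⟩,
      fun x => Subtype.ext (SemidirectProduct.ext rfl ((key _).1 x.2).symm), fun _ => rfl⟩]
    simp [V, Nat.card_fun]
  · obtain ⟨w, hw⟩ := sq (y.left / x.left)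
    refine ⟨SemidirectProduct.inl w, SemidirectProduct.ext ?_ ?_⟩
    · simp [(key _).1 hx, hφ]
      erw [inv_inv]
      rw [mul_right_comm, hw, div_mul_cancel]
    · simp [(key _).1 hx, (key _).1 hy]
  · have := Group.isSolvable_of_surjective (SemidirectProduct.rightHom_surjective (φ := φ))
    have : Nontrivial SL(2, F) := ⟨_, _, n1⟩
    exact (Group.IsSolvable.commutator_lt_top_of_nontrivial SL(2, F)).ne
      (CF.Classical.commutator_SL2_eq_top h4)

end CF.Crit.Inv
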