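import Cfsg.Agent.Fgs2.Count
import Cfsg.Agent.Solv.Fitting
import Cfsg.Agent.Transfer.Tate
import Cfsg.Agent.Char.Classes
import Cfsg.Agent.S4200

/-!
# Upper bounds for class numbers from centraliser orders
-/

set_option autoImplicit false

namespace CF.Crit.Tr
open Subgroup Cfsg CF.Fgs2 CF.Solv

variable {G : Type*} [Group G] [Finite G]

theorem card_le_index_mul (H A : Subgroup G) :
    Nat.card H ≤ A.index * Nat.card (H ⊓ A : Subgroup G) := by
  rw [← Solv.card_inf_mul_relIndex A H, mul_comm, inf_comm]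
  exact Nat.mul_le_mul_right _ (relIndex_le_index _ _)

theorem sum_ite_mem [Fintype G] (A : Subgroup G) [DecidablePred (· ∈ A)] (a b : ℕ) :
    ∑ x : G, (if x ∈ A then a else b) = Nat.card A * a + (Nat.card G - Nat.card A) * b := by
  have h : (Finset.univ.filter (· ∈ A)).card = Nat.card A := (Nat.subtype_card _ (by simp)).symm
  rw [Finset.sum_ite, Finset.sum_const, Finset.sum_const, smul_eq_mul, smul_eq_mul, h,
    Nat.card_eq_fintype_card (α := G), ← Finset.card_univ,
    ← Finset.card_filter_add_card_filter_not (s := Finset.univ) (· ∈ A), h, Nat.add_sub_cancel_left]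

theorem classes_le (Z : Subgroup G) {w : ℕ}
    (h : ∀ x ∉ Z, Nat.card (centralizer ({x} : Set G)) ≤ w) :
    Nat.card G * Nat.card (ConjClasses G) ≤
      Nat.card Z * Nat.card G + (Nat.card G - Nat.card Z) * w := by
  classical
  have := Fintype.ofFinite G
  rw [← Char.sum_card_centralizer, ← sum_ite_mem]
  refine Finset.sum_le_sum fun x _ => ?_
  split_ifs with k
  exacts [card_le_card_group _, h x k]

theorem classes_le_comm (A : Subgroup G) {F : ℕ}
    (h : ∀ y ∉ A, Nat.card (centralizer {y} ⊓ A : Subgroup G) ≤ F) :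
    Nat.card (ConjClasses G) * A.index ≤ Nat.card A + (A.index ^ 2 - 1) * F := by
  classical
  have := Fintype.ofFinite G
  have h1 : ∑ x ∈ Finset.univ.filter (· ∈ A), Nat.card (centralizer ({x} : Set G)) ≤
      Nat.card A * Nat.card A + (Nat.card G - Nat.card A) * F := by
    rw [← cp_eq_sum_univ, cp_comm, show ((Finset.univ.filter (· ∈ A) : Finset G) : Set G) = A by
      ext; simp, ← Finset.coe_univ, cp_eq_sum_subgroup, ← sum_ite_mem]
    refine Finset.sum_le_sum fun x _ => ?_
    split_ifs with k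
    exacts [card_le_of_le inf_le_right, h x k]
  have h2 : ∑ x ∈ Finset.univ.filter (· ∉ A), Nat.card (centralizer ({x} : Set G)) ≤
      Nat.card A * 0 + (Nat.card G - Nat.card A) * (A.index * F) := by
    rw [← sum_ite_mem, Finset.sum_filter]
    refine Finset.sum_le_sum fun x _ => ?_
    split_ifs with k
    exacts [le_rfl, (card_le_index_mul _ A).trans (Nat.mul_le_mul_left _ (h x k))]
  have h3 := Char.sum_card_centralizer (G := G)
  rw [← Finset.sum_filter_add_sum_filter_not _ (· ∈ A), ← A.card_mul_index] at h3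
  rw [← A.card_mul_index] at h1 h2
  obtain ⟨s, hs⟩ := Nat.exists_eq_succ_of_ne_zero (index_ne_zero_of_finite (H := A))
  refine Nat.le_of_mul_le_mul_left ?_ (Nat.card_pos (α := A))
  rw [hs, Nat.succ_eq_add_one, mul_add_one, Nat.add_sub_cancel] at h1 h2
  rw [hs] at h3 ⊢
  rw [show s.succ ^ 2 - 1 = s * (s + 2) by
    rw [Nat.sub_eq_iff_eq_add (Nat.one_le_pow _ _ s.succ_pos), Nat.succ_eq_add_one]; ring]
  simp only [Nat.succ_eq_add_one] at *
  nlinarith

theorem sq_card_le (h : ∀ x ∉ center G, IsMulCommutative (centralizer {x})) {x : G}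
    (hx : x ∉ center G) (hn : ¬ (centralizer {x}).Normal) :
    Nat.card (centralizer ({x} : Set G)) ^ 2 ≤ Nat.card G * Nat.card (center G) := by
  obtain ⟨g, hg⟩ : ∃ g : G, ¬ (centralizer {x}).map (MulAut.conj g).toMonoidHom ≤
      centralizer {x} := by_contra fun k => hn ⟨fun b hb g => by
    push Not at k
    exact k g ⟨b, hb, rfl⟩⟩
  have h1 : centralizer {x} ⊓ (centralizer {x}).map (MulAut.conj g).toMonoidHom ≤ center G := by
    rintro _ ⟨h2, y, h3, rfl⟩
    by_contra h4
    refine hg ?_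
    rintro _ ⟨b, hb, rfl⟩
    refine mem_centralizer_singleton_iff.2 (congrArg Subtype.val ((h _ h4).is_comm.comm
      ⟨_, mem_centralizer_singleton_iff.2 ?_⟩
      ⟨_, mem_centralizer_singleton_iff.2 (mem_centralizer_singleton_iff.1 h2).symm⟩))
    rw [← map_mul, ← map_mul]
    exact congrArg _ (congrArg Subtype.val ((h x hx).is_comm.comm ⟨b, hb⟩ ⟨y, h3⟩))
  have h2 := (card_le_index_mul _ _).trans (Nat.mul_le_mul_left _ (card_le_of_le h1))
  rw [index_map_of_bijective (MulAut.conj g).bijective] at h2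
  rw [← (centralizer ({x} : Set G)).card_mul_index, pow_two, mul_assoc]
  exact Nat.mul_le_mul_left _ h2

theorem exists_pow_order {W : Subgroup G} [W.Normal] {r : ℕ} (hr : r.Prime) (h : W.index = r)
    {y : G} (hy : y ∉ W) : ∃ z ∈ zpowers y, orderOf z = r := by
  have := Fact.mk hr
  obtain ⟨z, hz⟩ := exists_prime_orderOf_dvd_card' (G := zpowers y) r (by
    rw [Nat.card_zpowers, ← orderOf_eq_prime (p := r) (x := (y : G ⧸ W)) (h ▸ pow_card_eq_one')
      (mt (QuotientGroup.eq_one_iff _).1 hy)]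
    exact orderOf_map_dvd (QuotientGroup.mk' W) y)
  exact ⟨z, z.2, by rw [orderOf_coe, hz]⟩

theorem classes80 {W : Subgroup G} [W.Normal] [IsMulCommutative W] (hW : Nat.card W = 16)
    (hi : W.index = 5) (h : ∀ x, orderOf x = 5 → centralizer {x} ⊓ W = ⊥) :
    Nat.card (ConjClasses G) ≤ 8 := by
  have := classes_le_comm W (F := 1) fun y hy => by
    obtain ⟨z, ⟨k, rfl⟩, h2⟩ := exists_pow_order Nat.prime_five hi hy
    rw [eq_bot_mono (inf_le_inf_right W fun c hc => mem_centralizer_singleton_iff.2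
      (Commute.zpow_right (mem_centralizer_singleton_iff.1 hc) k)) (h _ h2), card_bot]
  rw [hW, hi] at this
  omega

theorem classes16 [Group.IsSolvable G] {W : Subgroup G} [W.Normal] [IsMulCommutative W]
    (hW : Nat.card W = 16) (hc : centralizer (W : Set G) ≤ W)
    (h1 : ∀ t, t.Prime → t ∣ Nat.card G → t = 2 ∨ t = 5) (h5 : 5 ∣ Nat.card G)
    (h25 : ¬ 5 ^ 2 ∣ Nat.card G) : Nat.card G ≤ 320 ∧ 10 * Nat.card (ConjClasses G) ≤ Nat.card G := by
  have := Fact.mk Nat.prime_five
  have hd : ∀ D : Subgroup G, D ≤ W → Nat.card D ≡ 1 [MOD 5] → D = ⊥ ∨ D = W := fun D a b => by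
    obtain ⟨j, h2, h3⟩ := (Nat.dvd_prime_pow Nat.prime_two (m := 4)).1 (hW ▸ card_dvd_of_le a)
    rw [h3] at b
    interval_cases j
    · exact .inl (card_eq_one.1 h3)
    rotate_right
    · exact .inr (eq_of_le_of_card_ge a (by rw [h3, hW]; rfl))
    all_goals exact absurd b (by decide)
  have hz : ∀ x : G, orderOf x = 5 → IsPGroup 5 (zpowers x) := fun x hx =>
    .of_card (n := 1) (by rw [Nat.card_zpowers, hx, pow_one])
  have hx : ∀ x : G, orderOf x = 5 → W ⊓ centralizer (zpowers x : Subgroup G) = ⊥ := fun x hx => by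
    refine (hd _ inf_le_left (.trans (Transfer.card_modEq_card_inf_centralizer (hz x hx)
      le_normalizer_of_normal).symm (by rw [hW]; decide))).resolve_right fun e => ?_
    have := card_dvd_of_le ((le_centralizer_iff.1 (inf_eq_left.1 e)).trans hc)
    rw [Nat.card_zpowers, hx, hW] at this
    omega
  obtain ⟨x, h6⟩ := exists_prime_orderOf_dvd_card' 5 h5
  have hW2 : IsPGroup 2 W := .of_card (n := 4) hW
  have h7 : pPrimeCore 5 (G ⧸ W) = ⊥ := by
    let S := (pPrimeCore 5 (G ⧸ W)).comap (QuotientGroup.mk' W)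
    have hS : IsPGroup 2 S := IsPGroup.comap_of_ker_isPGroup (isPGroup_iff_piNum_singleton.2
      fun t ht k => (h1 t ht (k.trans ((card_subgroup_dvd_card _).trans
        (card_quotient_dvd_card W)))).resolve_right fun e => not_dvd_card_pPrimeCore (e ▸ k)) _
        ((QuotientGroup.ker_mk' W).symm ▸ hW2)
    have a := Transfer.card_modEq_card_inf_centralizer hS (le_normalizer_of_normal (H := W))
    have b := Transfer.card_modEq_card_inf_centralizer (hz x h6)
      (le_normalizer_of_normal (H := W ⊓ centralizer (S : Set G)))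
    rw [eq_bot_mono (inf_le_inf_right _ inf_le_left) (hx x h6), card_bot] at b
    rcases hd _ inf_le_left b with e | e
    · rw [e, hW, card_bot] at a
      exact absurd a (by decide)
    · rw [← map_comap_eq_self_of_surjective (QuotientGroup.mk'_surjective W) (pPrimeCore _ _),
        Subgroup.map_eq_bot_iff, QuotientGroup.ker_mk']
      exact (le_centralizer_iff.1 (inf_eq_left.1 e)).trans hc
  have h8 : W.index ≤ 20 := by
    have a := centralizer_pCore_le h7
    obtain ⟨j, hj⟩ := (pCore_isPGroup (p := 5) (G := G ⧸ W)).exists_card_eq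
    have b : j < 2 := by_contra fun k => h25 ((pow_dvd_pow 5 (by omega)).trans
      (hj ▸ (card_subgroup_dvd_card _).trans (card_quotient_dvd_card W)))
    have c : (centralizer (pCore 5 (G ⧸ W) : Set (G ⧸ W))).index ∣
        Nat.card (MulAut (pCore 5 (G ⧸ W))) := by
      refine dvd_trans (index_dvd_of_le (H := (MulAut.conjNormal (H := pCore 5 (G ⧸ W))).ker)
        fun g hg y hy => ?_) (by rw [index_ker]; exact card_subgroup_dvd_card _)
      exact (mul_inv_eq_iff_eq_mul.1 (congrArg Subtype.val (DFunLike.congr_fun hg ⟨y, hy⟩))).symm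
    have : IsCyclic (pCore 5 (G ⧸ W)) := by
      interval_cases j
      · exact @isCyclic_of_subsingleton _ _ (Nat.card_eq_one_iff_unique.1 hj).1
      · exact isCyclic_of_prime_card (p := 5) hj
    rw [IsCyclic.card_mulAut, hj] at c
    have d := card_le_of_le a
    rw [index_eq_card, ← card_mul_index (centralizer (pCore 5 (G ⧸ W) : Set (G ⧸ W)))]
    have e := Nat.le_of_dvd (Nat.totient_pos.2 (by positivity)) c
    refine (Nat.mul_le_mul (d.trans hj.le) e).trans ?_
    interval_cases j <;> decide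
  obtain ⟨T, hT⟩ : ∃ T, T = W ⊔ zpowers x := ⟨_, rfl⟩
  have hWT : W ≤ T := hT ▸ le_sup_left
  have h9 : W.relIndex T = 5 := by
    rw [hT, relIndex_sup_left, ← h6, ← Nat.card_zpowers, ← Solv.card_inf_mul_relIndex W,
      eq_bot_mono (inf_le_inf_left W (le_centralizer _)) (hx x h6), card_bot, one_mul]
  have h10 := classes80 (W := W.subgroupOf T)
    ((Nat.card_congr (subgroupOfEquivOfLe hWT).toEquiv).trans hW) h9 fun y hy =>
      eq_bot_iff.2 fun c hc => Subtype.ext (mem_bot.1 ((hx y (by rwa [orderOf_coe])).le ⟨hc.2, by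
        rintro _ ⟨k, rfl⟩
        exact (Commute.zpow_right (congrArg Subtype.val
          (mem_centralizer_singleton_iff.1 hc.1) :) k).symm⟩))
  have h11 := (Cfsg.Agent.S4200.result T).2.1.trans (Nat.mul_le_mul_left _ h10)
  have h12 := relIndex_mul_index hWT
  have h13 := W.card_mul_index
  rw [h9] at h12
  rw [hW] at h13
  omega

theorem semi_num {p k s o f : ℕ} (hp : p.Prime) (hk : 2 ≤ k) (ho : 2 ≤ o) (hos : o ∣ s) (hs : 0 < s)
    (h : f ^ o = k ^ s) (h1 : p ∣ k ^ s) (h2 : ¬ p ∣ s) :
    (s + 1) * f < k ^ s ∨ (k ^ s = 8 ∧ s = 3 ∧ f = 2) ∨ (k ^ s = 9 ∧ s = 2 ∧ f = 3) := by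
  obtain ⟨t, rfl⟩ := hos
  obtain rfl : f = k ^ t := Nat.pow_left_injective (by omega : o ≠ 0) (by
    simp only [h, ← pow_mul, mul_comm])
  obtain ⟨o, rfl⟩ := Nat.exists_eq_add_of_le' (by omega : 1 ≤ o)
  have ht : 0 < t := Nat.pos_of_mul_pos_left hs
  rw [add_mul o, one_mul, pow_add]
  have h3 : t ≤ o * t := Nat.le_mul_of_pos_left _ (by omega)
  by_cases h4 : o * t + t + 1 < k ^ (o * t)
  · exact .inl (Nat.mul_lt_mul_of_pos_right h4 (by positivity))
  right
  obtain ⟨m, hm⟩ := Nat.exists_eq_succ_of_ne_zero (by omega : o * t ≠ 0)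
  rcases hk.eq_or_lt with rfl | hk
  · obtain rfl : p = 2 := (Nat.prime_dvd_prime_iff_eq hp Nat.prime_two).1 (hp.dvd_of_dvd_pow h1)
    have h5 : 2 ≤ o := by
      by_contra h5
      obtain rfl : o = 1 := by omega
      exact h2 (dvd_mul_right 2 t)
    have h6 := Nat.mul_le_mul_right t h5
    obtain ⟨m, rfl⟩ := Nat.exists_eq_succ_of_ne_zero (by omega : m ≠ 0)
    have := m.lt_two_pow_self
    rw [hm, pow_succ, pow_succ] at h4
    obtain rfl : t = 1 := by omega
    obtain rfl : o = 2 := by omega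
    decide
  · have := Nat.lt_pow_self (n := m) (by omega : 1 < k)
    rw [hm, pow_succ] at h4
    obtain rfl : m = 0 := by nlinarith
    obtain rfl : t = 1 := by omega
    obtain rfl : o = 1 := by omega
    obtain rfl : k = 3 := by simp at h4; omega
    decide

end CF.Crit.Tr
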