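import Cfsg.Agent.Crit.Tr3
import Cfsg.Agent.Crit.Tr4
import Cfsg.Agent.S4201

/-!
# The class number of a transitive linear group of order prime to the characteristic
-/

set_option autoImplicit false
set_option linter.unusedSectionVars false

namespace CF.Crit.Tr
open Subgroup Cfsg CF.Perm Module MulAction

variable {G V K : Type*} [Group G] [Finite G] [AddCommGroup V] [DistribMulAction G V] [Finite V]
  [Nontrivial V] [FaithfulSMul G V] [Field K] [Finite K] [Module K V] {A : Subgroup G}
  {σ : G →* RingAut K} {p : ℕ} [hp : Fact p.Prime] [CharP K p]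

theorem card_stab (ht : Tr G V) {v : V} (hv : v ≠ 0) :
    Nat.card (stabilizer G v) * (Nat.card V - 1) = Nat.card G := by
  have h1 : orbit G v = {0}ᶜ := Set.ext fun w =>
    ⟨fun ⟨g, hg⟩ e => hv ((smul_eq_zero_iff_eq g).1 (hg.trans e)), ht v w hv⟩
  have h2 := Set.ncard_add_ncard_compl ({0} : Set V)
  rw [← h2, Set.ncard_singleton, Nat.add_sub_cancel_left, ← h1, ← index_stabilizer, card_mul_index]

theorem card_lt_of_notMem {α β : Type*} [Finite β] (f : α → β) (h : Function.Injective f) {b : β}
    (w : b ∉ Set.range f) : Nat.card α < Nat.card β := by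
  have := Finite.of_injective f h
  have := Fintype.ofFinite α
  have := Fintype.ofFinite β
  simpa using Fintype.card_lt_of_injective_of_notMem f h w

theorem classes_le_card (G : Type*) [Group G] [Finite G] : Nat.card (ConjClasses G) ≤ Nat.card G :=
  Nat.card_le_card_of_surjective _ ConjClasses.mk_surjective

variable (h : FS V K A σ) (hA : MA A) (hG : ¬ p ∣ Nat.card G) (ht : Tr G V)
include h hA

theorem cent_eq (hd : finrank K V = 1) : centralizer (A : Set G) = A :=
  have := hA.nm
  have := hA.comm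
  have := h.isMulCommutative hd
  le_antisymm (hA.le le_rfl) (le_centralizer A)

theorem eq_center (hC : centralizer (A : Set G) = ⊤) : A = center G :=
  le_antisymm (centralizer_eq_top_iff_subset.1 hC) (hA.le (hC ▸ le_top))

include hG ht

theorem two_struct (hC : centralizer (A : Set G) = ⊤) (hd : finrank K V = 2) :
    (A.index = 12 ∨ A.index = 24 ∨ A.index = 60) ∧
      (∀ x ∉ center G, IsMulCommutative (centralizer {x})) ∧
      ∃ θ, IsCharacter G θ ∧ (∀ g, θ g = θ 1 → g = 1) ∧ charDegree θ ≤ 2 := by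
  obtain ⟨θ, h1, h2, h3⟩ := exists_theta h hG
  let f : G →* centralizer (A : Set G) := (MonoidHom.id G).codRestrict _ fun g => hC ▸ mem_top g
  have h4 := Char.char_comp h1 f
  have h5 : ∀ g, θ (f g) = θ (f 1) → g = 1 := fun g k =>
    congrArg Subtype.val (h2 _ (map_one f ▸ k))
  have h6 : charDegree (fun g => θ (f g)) ≤ 2 := by simpa only [charDegree, map_one, hd] using h3
  rcases deg_two h4 h5 h6 with ⟨B, _, k⟩ | k
  · have := (solvable_of_index index_ne_zero_of_finite k).1
    have a := (index_antitone (hA.le (B := B) (hC ▸ le_top))).trans k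
    have b := Nat.le_of_dvd Nat.card_pos ht.card_dvd
    have c := Nat.le_of_dvd (Nat.sub_pos_of_lt Finite.one_lt_card) h.card_dvd
    have d := Nat.mul_le_mul c a
    have e : Nat.card K ≠ 2 := fun e => by
      obtain rfl := (Nat.prime_dvd_prime_iff_eq hp.out Nat.prime_two).1 (e ▸ char_dvd_card K p)
      rw [card_mul_index] at d
      rw [Module.natCard_eq_pow_finrank (K := K), hd, e] at b
      omega
    rw [card_mul_index] at d
    rw [Module.natCard_eq_pow_finrank (K := K), hd] at b
    obtain ⟨q, hq⟩ := Nat.exists_eq_add_of_le' (Finite.one_lt_card (α := K))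
    rw [hq] at b d
    rw [show (q + Nat.succ 1) ^ 2 = q * q + 4 * q + 4 by simp only [Nat.succ_eq_add_one]; ring] at b
    omega
  · exact ⟨eq_center h hA hC ▸ k.1, k.2, _, h4, h5, h6⟩

variable {v : V} (hv : v ≠ 0)
include hv

theorem bound_one (hd : finrank K V = 1) :
    Nat.card (ConjClasses G) + Nat.card (stabilizer G v) ≤ Nat.card V ∧
      (Nat.card (ConjClasses G) + Nat.card (stabilizer G v) = Nat.card V → IsCyclic G ∨
        (Nat.card V = 8 ∧ Nat.card G = 21) ∨ (Nat.card V = 9 ∧ Nat.card G = 16)) := by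
  have hC := cent_eq h hA hd
  obtain ⟨k, hk, hq⟩ := h.exists_pow_index
  obtain ⟨χ, h1, h2⟩ := h.exists_chi
  have h3 := card_stab ht hv
  have h4 := Nat.le_of_dvd (Nat.sub_pos_of_lt Finite.one_lt_card) h.card_dvd
  have h5 := A.card_mul_index
  have hs := Nat.pos_of_ne_zero (index_ne_zero_of_finite (H := A))
  have h6 : Nat.card (stabilizer G v) ≤ A.index := by
    refine (card_le_index_mul _ A).trans_eq ?_
    rw [show stabilizer G v ⊓ A = ⊥ from eq_bot_iff.2 fun a ha => congrArg Subtype.val
      (h1 (a₁ := ⟨a, ha.2⟩) (a₂ := 1) (Units.ext (smul_left_injective K hv (by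
        simp only [← h2]; rw [coe_one, one_smul]; exact ha.1)))), card_bot, mul_one]
  have h7 : ∀ y ∉ A, ∃ f, Nat.card (centralizer {y} ⊓ A : Subgroup G) ≤ f - 1 ∧
      ((A.index + 1) * f < Nat.card K ∨ (Nat.card K = 8 ∧ A.index = 3 ∧ f = 2) ∨
        (Nat.card K = 9 ∧ A.index = 2 ∧ f = 3)) := fun y hy => by
    refine ⟨Nat.card {x : K // ∀ φ ∈ zpowers (σ y), φ x = x}, ?_, ?_⟩
    · refine Nat.le_sub_one_of_lt (card_lt_of_notMem
        (fun c => ⟨χ ⟨c, c.2.2⟩, (zpowers_le (H := stabilizer (RingAut K) _)).2 ?_⟩)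
        (fun a b e => Subtype.ext (congrArg Subtype.val
          (h1 (Units.ext (congrArg Subtype.val e))) :)) (b := ⟨0, fun φ _ => map_zero φ⟩) ?_)
      · refine smul_left_injective K ((smul_ne_zero_iff_ne y).2 hv) ?_
        change σ y _ • y • v = _ • y • v
        rw [← h.semi, ← h2, ← h2, ← mul_smul, ← mul_smul,
          mem_centralizer_singleton_iff.1 c.2.1]
      · rintro ⟨c, hc⟩
        exact Units.ne_zero _ (congrArg Subtype.val hc)
    · have : Finite (RingAut K) := DFunLike.finite _
      rw [hq, hC]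
      rw [hC] at hq
      refine semi_num hp.out hk ?_ ?_ hs ((card_eq_pow_of_ringAut _).symm.trans hq)
        (hq ▸ char_dvd_card K p) fun e => hG (e.trans A.index_dvd_card)
      · exact one_lt_card_iff_ne_bot _ |>.2 (mt zpowers_eq_bot.1 fun e => hy (hC ▸ h.ker.le e))
      · rw [← hC, ← h.ker, index_ker]
        exact card_dvd_of_le (zpowers_le.2 ⟨y, rfl⟩)
  have main : ∀ F, (∀ y ∉ A, Nat.card (centralizer {y} ⊓ A : Subgroup G) ≤ F) →
      (Nat.card (ConjClasses G) + Nat.card (stabilizer G v)) * A.index ≤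
        Nat.card K + (A.index - 1) * ((A.index + 1) * (F + 1)) := fun F hF => by
    have a := classes_le_comm A hF
    have b := Nat.mul_le_mul_right A.index h6
    have c := Nat.card_pos (α := K)
    obtain ⟨s, e⟩ := Nat.exists_eq_add_of_le' hs
    rw [e] at a b ⊢
    rw [show (s + Nat.succ 0) ^ 2 - 1 = s * (s + 2) by
      rw [Nat.sub_eq_iff_eq_add (Nat.one_le_pow _ _ (by omega))]; simp; ring] at a
    simp only [Nat.succ_eq_add_one, zero_add, Nat.add_sub_cancel] at *
    have d : Nat.card A + 1 ≤ Nat.card K := by omega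
    nlinarith
  rw [Module.natCard_eq_pow_finrank (K := K) (V := V), hd, pow_one] at h3 ⊢
  by_cases h8 : A = ⊤
  · have := h.isCyclic
    refine ⟨by simpa [h8] using main 0 (by simp [h8]), fun _ => .inl ?_⟩
    subst h8
    exact isCyclic_of_surjective _ (topEquiv (G := G)).surjective
  by_cases h9 : Nat.card K = 8 ∧ A.index = 3
  · have := main 1 fun y hy => by obtain ⟨f, a, b⟩ := h7 y hy; rw [h9.2] at b; omega
    rw [h9.1] at h3 this ⊢
    rw [h9.2] at h5 h6 this
    have := Nat.card_pos (α := G)
    omega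
  by_cases h10 : Nat.card K = 9 ∧ A.index = 2
  · have := classes_le_comm A (F := 2) fun y hy => by
      obtain ⟨f, a, b⟩ := h7 y hy; rw [h10.2] at b; omega
    rw [h10.1] at h3 h4 ⊢
    rw [h10.2] at h5 h6 this
    omega
  have h11 : ∀ y ∉ A, Nat.card (centralizer {y} ⊓ A : Subgroup G) + 1 ≤
      (Nat.card K - 1) / (A.index + 1) := fun y hy => by
    obtain ⟨f, a, b⟩ := h7 y hy
    have := Nat.card_pos (α := (centralizer {y} ⊓ A : Subgroup G))
    refine le_trans (by omega : _ ≤ f) ((Nat.le_div_iff_mul_le (by omega)).2 ?_)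
    rw [mul_comm]
    omega
  obtain ⟨y, hy⟩ : ∃ y, y ∉ A := by simpa [eq_top_iff'] using h8
  have a := main ((Nat.card K - 1) / (A.index + 1) - 1) fun y hy => by have := h11 y hy; omega
  have b := Nat.mul_div_le (Nat.card K - 1) (A.index + 1)
  rw [Nat.sub_add_cancel (le_of_add_le_right (h11 y hy))] at a
  have c := Nat.mul_le_mul_left (A.index - 1) b
  have d : 2 ≤ A.index := by have := mt index_eq_one.1 h8; omega
  have e := Nat.card_pos (α := K)
  suffices Nat.card (ConjClasses G) + Nat.card (stabilizer G v) < Nat.card K by omega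
  refine Nat.lt_of_mul_lt_mul_right (a := A.index) (a.trans_lt ?_)
  obtain ⟨s, hs⟩ := Nat.exists_eq_add_of_le' d
  obtain ⟨q, hq⟩ := Nat.exists_eq_add_of_le' e
  rw [hs, hq] at c ⊢
  simp only [Nat.succ_eq_add_one, zero_add, Nat.add_sub_cancel,
    show s + 2 - 1 = s + 1 from rfl] at *
  nlinarith

theorem bound_two (hC : centralizer (A : Set G) = ⊤) (hd : finrank K V = 2) (hK : Nat.card K = p) :
    Nat.card (ConjClasses G) + Nat.card (stabilizer G v) < Nat.card V := by
  obtain ⟨h1, h2, -⟩ := two_struct h hA hG ht hC hd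
  have hZ := eq_center h hA hC
  have h3 := card_stab ht hv
  have h4 := Nat.le_of_dvd (Nat.sub_pos_of_lt Finite.one_lt_card) h.card_dvd
  have h5 := A.card_mul_index
  have main : ∀ b, A.index < (b + 1) ^ 2 → A.index * Nat.card (ConjClasses G) ≤
      Nat.card A * A.index + (A.index - 1) * b * Nat.card A := fun b hb => by
    have a := classes_le (center G) (w := Nat.card A * b) fun x hx => by
      obtain ⟨c, hc⟩ := card_dvd_of_le (center_le_centralizer {x})
      have d := sq_card_le h2 hx fun k => hx (hZ ▸ (@MA.le _ _ _ _ hA k (h2 x hx) (hC ▸ le_top))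
        (mem_centralizer_singleton_iff.2 rfl))
      rw [hc, ← hZ, ← h5, mul_pow, mul_right_comm, ← pow_two] at d
      rw [hc, ← hZ]
      exact Nat.mul_le_mul_left _ (Nat.le_of_lt_succ (lt_of_pow_lt_pow_left₀ 2 (by omega)
        ((Nat.le_of_mul_le_mul_left d (pow_pos Nat.card_pos _)).trans_lt hb)))
    rw [← hZ, ← h5, ← Nat.mul_sub_one] at a
    refine Nat.le_of_mul_le_mul_left ?_ (Nat.card_pos (α := A))
    linarith
  have h6 : ∀ t, t ∣ A.index → p ≠ t := fun t a e => hG (e ▸ a.trans A.index_dvd_card)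
  have h7 := h6 2 (by omega)
  have h8 := h6 3 (by omega)
  have h9 := hp.out.two_le
  have h10 := hp.out.eq_two_or_odd
  rw [Module.natCard_eq_pow_finrank (K := K) (V := V), hd, hK] at h3 ⊢
  rw [hK] at h4
  have h11 : Nat.card (ConjClasses G) ≤ 8 * Nat.card A := by
    have := main 7 (by omega)
    rcases h1 with e | e | e <;> rw [e] at this <;> omega
  rcases (by omega : p = 5 ∨ p = 7 ∨ 9 ≤ p) with rfl | rfl | h12
  · have a := h6 5
    have b := main 4
    rcases h1 with e | e | e <;> rw [e] at a b h5 <;> omega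
  · have a := main 7
    have b := main 4
    rcases h1 with e | e | e <;> rw [e] at a b h5 <;> omega
  · obtain ⟨q, rfl⟩ := Nat.exists_eq_add_of_le' h12
    rw [show (q + 9) ^ 2 - 1 = (q + 8) * (q + 10) by
      rw [Nat.sub_eq_iff_eq_add (Nat.one_le_pow _ _ (by omega))]; ring] at h3
    have a : Nat.card G ≤ (q + 8) * 60 := h5 ▸ Nat.mul_le_mul h4 (by omega)
    have b : Nat.card (stabilizer G v) ≤ 6 := by
      by_contra b
      nlinarith [Nat.mul_le_mul_right ((q + 8) * (q + 10)) (by omega : 7 ≤ Nat.card (stabilizer G v))]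
    have c : Nat.card A ≤ q + 8 := h4
    nlinarith

theorem bound_four [Group.IsSolvable G] (hC : centralizer (A : Set G) = ⊤) (hd : finrank K V = 4)
    (hK : Nat.card K = 3) : Nat.card (ConjClasses G) + Nat.card (stabilizer G v) < Nat.card V := by
  have := hA.nm
  have := hA.comm
  obtain ⟨M, hM⟩ := exists_AM A hA.max
  have := hM.Mn
  have h1 := card_stab ht hv
  have h2 := h.card_dvd
  have h3 := A.card_mul_index
  have h4 := hM.card_eq
  have h5 := h.relIndex_le_sq hM
  have h6 := hM.relIndex_dvd_pow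
  rw [Module.natCard_eq_pow_finrank (K := K) (V := V), hd, hK] at h1 ⊢
  rw [hK] at h2
  have h7 : A.relIndex M = 16 := by
    obtain ⟨j, -, hj⟩ := (Nat.dvd_prime_pow Nat.prime_two).1 (h6.trans (pow_dvd_pow_of_dvd h2 _))
    obtain ⟨e, a, b, c⟩ := hM.relIndex_dvd.2 5 Nat.prime_five (by
      refine (Nat.Coprime.dvd_mul_right (.mul_right ?_ (.coprime_dvd_right h2 (by decide)))).1
        (by rw [← one_mul (_ * _), ← index_top (G := G), ← hC, ← h4]; omega)
      rw [hj]
      exact Nat.Coprime.pow_right _ (by decide))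
    rw [hj] at a b c h5 ⊢
    rw [hd] at h5
    have : j ≤ 4 := (Nat.pow_le_pow_iff_right (by decide : 1 < 2)).1 h5
    interval_cases j <;> first | rfl | (interval_cases e <;> omega)
  let π := QuotientGroup.mk' A
  have := hM.Mn.map π (QuotientGroup.mk'_surjective A)
  have : IsMulCommutative (M.map π) := ⟨⟨by
    rintro ⟨_, a, ha, rfl⟩ ⟨_, b, hb, rfl⟩
    refine Subtype.ext (commutatorElement_eq_one_iff_mul_comm.1 ?_)
    exact (map_commutatorElement π a b).symm.trans
      ((QuotientGroup.eq_one_iff _).2 (hM.comm a ha b hb))⟩⟩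
  have h8 := classes16 (W := M.map π) (by rw [← relIndex_ker, QuotientGroup.ker_mk', h7])
    (fun q hq => by
      obtain ⟨c, rfl⟩ := QuotientGroup.mk'_surjective A q
      refine mem_map_of_mem _ (hM.Mmax c (hC ▸ mem_top c) fun m hm =>
        (QuotientGroup.eq_one_iff _).1 ((map_commutatorElement π c m).trans ?_))
      exact commutatorElement_eq_one_iff_mul_comm.2 (hq _ (mem_map_of_mem _ hm)).symm)
    (fun t a b => primes81 h hA hG hK hd a (b.trans (card_quotient_dvd_card A)))
    ((Nat.Coprime.dvd_mul_left (.coprime_dvd_right h2 (by decide))).1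
      (h3 ▸ (by omega : 5 ∣ Nat.card G)))
    fun k => not_sq_dvd h hA hG (r := 5) (by
      rw [hK, hd]
      exact ⟨Nat.prime_five, by decide, fun d a b => by interval_cases d <;> decide⟩)
      (by omega) (by omega) (by
        rw [hC, card_top]; exact k.trans (card_quotient_dvd_card A))
  have h9 := (Cfsg.Agent.S4201.result A).trans (Nat.mul_le_mul_right _ (classes_le_card A))
  rw [← index_eq_card] at h8
  have := Nat.le_of_dvd (by omega) h2
  have := Nat.card_pos (α := A)
  interval_cases Nat.card A <;> omega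

omit h hA in
theorem bound (hV : ∀ w : V, p • w = 0) :
    Nat.card (ConjClasses G) + Nat.card (stabilizer G v) ≤ Nat.card V ∧
      (Nat.card (ConjClasses G) + Nat.card (stabilizer G v) = Nat.card V → IsCyclic G ∨
        (Nat.card V = 8 ∧ Nat.card G = 21) ∨ (Nat.card V = 9 ∧ Nat.card G = 16)) := by
  obtain ⟨A, h1, h2, h3⟩ := exists_max_abelian (G := G)
  obtain ⟨K, _, _, _, σ, h⟩ := ht.exists_FS A h2
  have : CharP K p := (CharP.charP_iff_prime_eq_zero hp.out).2
    (smul_left_injective K hv (by simp only [Nat.cast_smul_eq_nsmul, hV, zero_smul]))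
  have hA : MA A := ⟨h1, h2, h3⟩
  rcases cases h hA hG ht with a | ⟨a, b | b⟩
  · exact bound_one h hA hG ht hv a
  · have := bound_two h hA hG ht hv a b.1 b.2
    omega
  · have := b.2.2
    have := bound_four h hA hG ht hv a b.1 b.2.1
    omega

end CF.Crit.Tr
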