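import Cfsg.Agent.Fgs2.HK1
import Cfsg.Agent.Crit.Tr5

/-!
# Uniform class number bounds for all subgroups
-/

set_option autoImplicit false

namespace CF.Crit.Kr

open Subgroup CF.Fgs2 CF.Fgs2.HK CF.Fgs2.Base

universe u

/-- every subgroup of `X` has at most `n` conjugacy classes -/
def KB (X : Type*) [Group X] (n : ℕ) : Prop := ∀ Y : Subgroup X, kc Y ≤ n

variable {G X : Type*} [Group G] [Finite G] [Group X] {a b n : ℕ}

theorem kc_le_mul (N : Subgroup G) [N.Normal] : kc G ≤ kc N * kc (G ⧸ N) := by
  have h := cp_piElts_le Set.univ N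
  have e : ∀ (H : Type _) [Group H], piElts Set.univ H = Set.univ := fun H _ =>
    Set.eq_univ_of_forall fun _ _ _ _ => trivial
  rw [e, e, e, ← card_conjClasses_mul, ← card_conjClasses_mul, ← card_conjClasses_mul,
    card_eq_card_quotient_mul_card_subgroup N] at h
  refine Nat.le_of_mul_le_mul_right (h.trans_eq (by ring)) (Nat.mul_pos Nat.card_pos Nat.card_pos)

omit [Finite G] in
theorem kc_congr (e : G ≃* X) : kc G = kc X :=
  Nat.card_eq_of_bijective (ConjClasses.map e.toMonoidHom) ⟨fun x y => by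
    obtain ⟨x, rfl⟩ := ConjClasses.mk_surjective x
    obtain ⟨y, rfl⟩ := ConjClasses.mk_surjective y
    intro h
    have := e.symm.toMonoidHom.map_isConj (ConjClasses.mk_eq_mk_iff_isConj.1 h)
    exact ConjClasses.mk_eq_mk_iff_isConj.2 (by simpa using this),
    ConjClasses.map_surjective e.surjective⟩

theorem kc_le_hom (f : G →* X) : kc G ≤ kc f.ker * kc f.range :=
  kc_congr (QuotientGroup.quotientKerEquivRange f) ▸ kc_le_mul f.ker

omit [Finite G] in
theorem KB.mono (h : KB G a) (k : a ≤ b) : KB G b := fun Y => (h Y).trans k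

omit [Finite G] in
theorem KB.top (h : KB G a) : kc G ≤ a := kc_congr (topEquiv (G := G)) ▸ h ⊤

theorem KB.of_card (h : Nat.card G ≤ n) : KB G n := fun Y =>
  (Tr.classes_le_card Y).trans ((card_le_card_group Y).trans h)

omit [Finite G] in
theorem KB.of_inj (h : KB X n) (f : G →* X) (hf : Function.Injective f) : KB G n := fun Y =>
  kc_congr (Y.equivMapOfInjective f hf) ▸ h _

theorem KB.of_surj (h : KB G n) (f : G →* X) (hf : Function.Surjective f) : KB X n := fun Y =>
  (kc_le_of_surj (f.subgroupComap Y) (f.subgroupComap_surjective_of_surjective Y hf)).trans (h _)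

omit [Finite G] in
theorem KB.sub (h : KB G n) (H : Subgroup G) : KB H n := h.of_inj H.subtype H.subtype_injective

theorem KB.mul (f : G →* X) (h1 : KB f.ker a) (h2 : KB X b) : KB G (a * b) := fun Y => by
  refine (kc_le_hom (f.comp Y.subtype)).trans (Nat.mul_le_mul ?_ (h2 _))
  let g : (f.comp Y.subtype).ker →* f.ker :=
    (Y.subtype.comp (f.comp Y.subtype).ker.subtype).codRestrict _ fun x => x.2
  exact (h1.of_inj g fun x y e => Subtype.ext (Subtype.ext (congrArg (·.1) e :))).top

theorem KB.quot {N M : Subgroup G} [N.Normal] [M.Normal] (h : KB (G ⧸ N) n) (k : N ≤ M) :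
    KB (G ⧸ M) n := h.of_surj (QuotientGroup.map N M (MonoidHom.id G) k) fun x => by
  obtain ⟨x, rfl⟩ := QuotientGroup.mk_surjective x
  exact ⟨x, rfl⟩

omit [Finite G] in
theorem KB.ker (f : G →* X) (h : KB X n) : KB (G ⧸ f.ker) n :=
  h.of_inj _ (QuotientGroup.kerLift_injective f)

/-- two homomorphisms -/
theorem KB.two {Y : Type*} [Group Y] (f : G →* X) (g : G →* Y) (h1 : KB X a) (h2 : KB Y b)
    (h : ∀ x, f x = 1 → g x = 1 → x = 1) : KB G (a * b) :=
  KB.mul g (h1.of_inj (f.comp g.ker.subtype) ((injective_iff_map_eq_one _).2 fun x hx =>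
    Subtype.ext (h x hx x.2))) h2

theorem KB.inf {N M : Subgroup G} [N.Normal] [M.Normal] (h1 : KB (G ⧸ N) a) (h2 : KB (G ⧸ M) b) :
    KB (G ⧸ (N ⊓ M)) (a * b) := by
  refine KB.two (QuotientGroup.map _ N (MonoidHom.id G) inf_le_left)
    (QuotientGroup.map _ M (MonoidHom.id G) inf_le_right) h1 h2 fun x => ?_
  obtain ⟨x, rfl⟩ := QuotientGroup.mk_surjective x
  exact fun k1 k2 => (QuotientGroup.eq_one_iff _).2
    ⟨(QuotientGroup.eq_one_iff _).1 k1, (QuotientGroup.eq_one_iff _).1 k2⟩

theorem KB.pi {ι : Type*} [Fintype ι] [Finite X] (h : KB X a) :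
    KB (ι → X) (a ^ Fintype.card ι) := by
  refine Fintype.induction_empty_option (P := fun ι _ => KB (ι → X) (a ^ Fintype.card ι))
    (fun α β _ e h1 => ?_) ?_ (fun α _ h1 => ?_) ι
  · letI := Fintype.ofEquiv β e.symm
    rw [← Fintype.card_congr e]
    exact h1.of_inj (MulEquiv.arrowCongr e (MulEquiv.refl X)).symm.toMonoidHom
      (MulEquiv.injective _)
  · exact KB.of_card (by simp)
  · rw [Fintype.card_option, pow_succ]
    refine KB.two (MonoidHom.pi fun i => Pi.evalMonoidHom _ (some i)) (Pi.evalMonoidHom _ none)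
      h1 h fun x k1 k2 => funext fun i => ?_
    cases i with
    | none => exact k2
    | some i => exact congrFun k1 i

/-- extension by a normal subgroup of given index -/
theorem KB.ext {N F : Subgroup G} [N.Normal] [F.Normal] (f : N →* X) (h : KB X a)
    (hf : f.ker ≤ F.subgroupOf N) : KB (G ⧸ F) (a * N.index) := by
  have h1 : KB ((G ⧸ F) ⧸ N.map (QuotientGroup.mk' F)) N.index := KB.of_card
    (Nat.le_of_dvd (Nat.pos_of_ne_zero index_ne_zero_of_finite)
      (index_map_dvd N (QuotientGroup.mk'_surjective F)))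
  refine KB.mul (QuotientGroup.mk' _) ?_ h1
  rw [QuotientGroup.ker_mk']
  refine (KB.ker f h).of_surj (QuotientGroup.lift _ ((QuotientGroup.mk' F).subgroupMap N)
    fun x hx => Subtype.ext ((QuotientGroup.eq_one_iff _).2 (hf hx))) fun y => ?_
  obtain ⟨y, rfl⟩ := (QuotientGroup.mk' F).subgroupMap_surjective N y
  exact ⟨y, rfl⟩

theorem five_eight (h : ¬ IsMulCommutative G) : 8 * kc G ≤ 5 * Nat.card G := by
  have h1 : 4 ≤ (center G).index := by
    by_contra k
    refine h ?_
    have : IsCyclic (G ⧸ center G) := by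
      have k0 : (center G).index ≠ 0 := index_ne_zero_of_finite
      have k1 : (center G).index = 1 ∨ (center G).index = 2 ∨ (center G).index = 3 := by omega
      rcases k1 with k1 | k1 | k1
      · have := (Nat.card_eq_one_iff_unique.1 k1).1
        infer_instance
      · have := Fact.mk Nat.prime_two
        exact isCyclic_of_prime_card k1
      · have := Fact.mk Nat.prime_three
        exact isCyclic_of_prime_card k1
    exact (QuotientGroup.mk' (center G)).isMulCommutative_of_isCyclic_of_ker_le_center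
      (QuotientGroup.ker_mk' _).le
  have h2 := Tr.classes_le (center G) (w := Nat.card G / 2) fun x hx => by
    rw [Nat.le_div_iff_mul_le two_pos, ← card_mul_index (centralizer {x})]
    refine Nat.mul_le_mul_left _ (by_contra fun k => hx (mem_center_iff.2 fun g => ?_))
    have k0 : (centralizer ({x} : Set G)).index ≠ 0 := index_ne_zero_of_finite
    exact mem_centralizer_singleton_iff.1
      ((index_eq_one.1 (by omega : (centralizer ({x} : Set G)).index = 1)).ge (mem_top g))
  have h3 := card_mul_index (center G)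
  have h4 : 4 * Nat.card (center G) ≤ Nat.card G := by nlinarith
  obtain ⟨d, hd⟩ := Nat.exists_eq_add_of_le (card_le_card_group (center G))
  have h5 : Nat.card G / 2 * 2 ≤ Nat.card G := Nat.div_mul_le_self _ _
  rw [show Nat.card G - Nat.card (center G) = d by omega] at h2
  refine Nat.le_of_mul_le_mul_left (c := Nat.card G) ?_ Nat.card_pos
  change Nat.card G * (8 * Nat.card (ConjClasses G)) ≤ _
  nlinarith [Nat.mul_le_mul_left d h5]

theorem KB.of_bound {B : ℕ} (h : Nat.card G ≤ B) (h1 : IsMulCommutative G → Nat.card G ≤ n)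
    (h2 : 5 * B < 8 * (n + 1)) : KB G n := fun Y => by
  by_cases k : IsMulCommutative Y
  · refine (Tr.classes_le_card Y).trans ?_
    by_cases k1 : Y = ⊤
    · subst k1
      rw [card_top]
      exact h1 ⟨⟨fun x y => congrArg Subtype.val (mul_comm' (⟨x, trivial⟩ : (⊤ : Subgroup G))
        ⟨y, trivial⟩)⟩⟩
    have k2 := card_mul_index Y
    have k3 : Y.index ≠ 0 := index_ne_zero_of_finite
    have k4 := mt index_eq_one.1 k1
    have : Nat.card Y * 2 ≤ Nat.card Y * Y.index := Nat.mul_le_mul_left _ (by omega)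
    omega
  have := five_eight k
  have := card_le_card_group Y
  omega

theorem KB.of_cent (Z : Subgroup G) {c : ℕ} (h : ∀ x ∉ Z, Nat.card (centralizer ({x} : Set G)) ≤ c)
    (h0 : 0 < c) : KB G (Nat.card Z + c - 1) := fun Y => by
  have h1 := Tr.classes_le (Z.subgroupOf Y) (w := c) fun x hx => le_trans
    (Nat.card_le_card_of_injective (fun y => (⟨y.1.1, mem_centralizer_singleton_iff.2
      (congrArg Subtype.val (mem_centralizer_singleton_iff.1 y.2))⟩ : centralizer ({x.1} : Set G)))
      fun y z e => Subtype.ext (Subtype.ext (congrArg (·.1) e :))) (h _ hx)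
  have h2 : Nat.card (Z.subgroupOf Y) ≤ Nat.card Z := Nat.card_le_card_of_injective
    (fun y => (⟨y.1.1, y.2⟩ : Z)) fun y z e => Subtype.ext (Subtype.ext (congrArg (·.1) e :))
  have h3 : 0 < Nat.card (Z.subgroupOf Y) := Nat.card_pos
  obtain ⟨d, hd⟩ := Nat.exists_eq_add_of_le (card_le_card_group (Z.subgroupOf Y))
  rw [show Nat.card Y - Nat.card (Z.subgroupOf Y) = d by omega] at h1
  refine Nat.le_sub_one_of_lt (lt_of_mul_lt_mul_left (a := Nat.card Y) ?_ (Nat.zero_le _))
  change Nat.card Y * Nat.card (ConjClasses Y) < _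
  nlinarith [Nat.mul_le_mul_right (Nat.card Y) h2]

theorem kb_perm {α : Type*} [Finite α] (h : Nat.card α = 3) : KB (Equiv.Perm α) 3 := by
  classical
  have := Fintype.ofFinite α
  have e : Equiv.Perm α ≃* Equiv.Perm (Fin 3) :=
    (Fintype.equivFinOfCardEq (Nat.card_eq_fintype_card.symm.trans h)).permCongrHom
  refine KB.of_inj (KB.of_bound (B := 6) (by simp [Fintype.card_perm, Nat.factorial]) (fun k => ?_) (by norm_num))
    e.toMonoidHom e.injective
  exact absurd (mul_comm' (Equiv.swap (0 : Fin 3) 1) (Equiv.swap 1 2)) (by decide)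

end CF.Crit.Kr
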