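import Cfsg.Agent.Crit.Kr1
import Cfsg.Agent.Fgs2.HK2

/-!
# Class numbers of solvable symplectic groups
-/

set_option autoImplicit false

namespace CF.Crit.Kr

open Subgroup CF.Fgs2 CF.Fgs2.HK CF.Fgs2.Base CF.Perm
open scoped Pointwise

universe u

theorem p_comm (n : ℕ) : P.{u} (fun G _ _ => IsMulCommutative G) (Fin 1) n := by
  have hC : Cls.{u} (fun G _ _ => IsMulCommutative G) :=
    ⟨fun f hf _ _ _ h => ⟨⟨fun x y => hf (by rw [map_mul, map_mul, mul_comm'])⟩⟩,
      fun f hf _ h => ⟨⟨fun x y => by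
        obtain ⟨x, rfl⟩ := hf x
        obtain ⟨y, rfl⟩ := hf y
        rw [← map_mul, ← map_mul, mul_comm']⟩⟩⟩
  induction n with
  | zero => exact fun G V _ _ _ _ _ _ _ h => by omega
  | succ n ih =>
    refine ih.succ hC fun G V _ _ _ _ _ _ _ hG _ hirr => ?_
    obtain ⟨v, hv⟩ := exists_ne (0 : V)
    refine ⟨fun _ => v, fun _ => trivial, fun g _ hg w _ => ?_⟩
    refine ((hirr (fx V g) le_top fun x _ u hu => ?_).resolve_left fun e => hv ?_).ge
      (AddSubgroup.mem_top w)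
    · rw [mem_fx] at hu ⊢
      rw [← mul_smul, mul_comm', mul_smul, hu]
    · exact AddSubgroup.mem_bot.1 (e ▸ mem_fx.2 (hg 0))

theorem card_le_of_comm {Q : Type u} [CommGroup Q] [Finite Q] (Γ : Subgroup (MulAut Q))
    (hcr : ∀ X : Subgroup Q, (∀ g ∈ Γ, ∀ x ∈ X, g x ∈ X) → ∃ W : Subgroup Q,
      (∀ g ∈ Γ, ∀ x ∈ W, g x ∈ W) ∧ X ⊓ W = ⊥ ∧ X ⊔ W = ⊤) (h : IsMulCommutative Γ) :
    Nat.card Γ ≤ Nat.card Q := by
  obtain ⟨t, ht⟩ := (p_comm _).mul Γ.subtype h (fun X hX => by
    obtain ⟨W, h1, h2⟩ := hcr X fun g hg => hX ⟨g, hg⟩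
    exact ⟨W, fun g => h1 g.1 g.2, h2⟩) (Nat.lt_succ_self _)
  simpa using index_ker_le Γ.subtype t ht

theorem num_imp {m s : ℕ} (hm : 2 ≤ m) (h : 25 * s ^ 2 ≤ m ^ 7) : 625 * s ^ 2 ≤ 4 * 25 ^ m := by
  rcases hm.eq_or_lt with rfl | hm
  · have : s ≤ 2 := by nlinarith
    nlinarith
  have := poly_le 25 4 25 3 (by norm_num) (by norm_num) hm
  omega

theorem refine {G V : Type u} [Group G] [Finite G] [AddCommGroup V] [Finite V] [Nontrivial V]
    [DistribMulAction G V] [FaithfulSMul G V] [Group.IsSolvable G]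
    (hcr : CROn (⊤ : Subgroup G) (⊤ : AddSubgroup V)) : 625 * Nat.card G ^ 2 ≤ 4 * Nat.card V ^ 5 ∨
    ∃ e n w f a c : ℕ, w ^ n = Nat.card V ∧ e ≤ n ∧ 2 ^ f ≤ w ∧ a ≤ w - 1 ∧
      Nat.card G = f * (c * (e ^ 2 * a)) ∧
      ((e = 1 ∧ c ≤ 1) ∨ (2 ≤ e ∧ 3 ≤ w ∧ 25 * c ^ 2 ≤ (e ^ 2) ^ 5)) := by
  have pw := (p_sol.{u} (Nat.card V)).2
  by_cases hirr : IrrOn (⊤ : Subgroup G) (⊤ : AddSubgroup V)
  swap
  · simp only [IrrOn, not_forall, not_or] at hirr
    obtain ⟨X, -, h1, h2, h3⟩ := hirr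
    obtain ⟨W, -, h4, h5, h6⟩ := hcr X le_top h1
    have hlt : ∀ Y : AddSubgroup V, Y ≠ ⊤ → Nat.card Y < Nat.card V := fun Y hY =>
      (AddSubgroup.card_le_card_addGroup Y).lt_of_ne fun e => hY (Y.eq_top_of_card_eq e)
    have a1 := pw.rel h1 (hcr.mono le_top h1) h2 (hlt X h3)
    have a2 := pw.rel h4 (hcr.mono le_top h4) (fun e => h3 (by rwa [e, sup_bot_eq] at h6))
      (hlt W fun e => h2 (by rwa [e, inf_top_eq] at h5))
    have a3 := card_mul_le X W
    rw [h5, AddSubgroup.card_bot, mul_one] at a3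
    rw [relIndex_top_right] at a1 a2
    have a4 : fixingSubgroup G (X : Set V) ⊓ fixingSubgroup G (W : Set V) = ⊥ :=
      eq_bot_iff.2 fun g hg => eq_of_smul_eq_smul (α := V) fun v => by
        obtain ⟨x, hx, w, hw, e⟩ := AddSubgroup.mem_sup.1 (h6.ge (AddSubgroup.mem_top v))
        rw [← e, smul_add, hg.1 ⟨x, hx⟩, hg.2 ⟨w, hw⟩, one_smul]
    have a5 := index_inf_le (H := fixingSubgroup G (X : Set V)) (K := fixingSubgroup G (W : Set V))
    rw [a4, index_bot] at a5
    left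
    calc _ ≤ 625 * ((fixingSubgroup G (X : Set V)).index *
          (fixingSubgroup G (W : Set V)).index) ^ 2 := by gcongr
      _ = _ := by ring
      _ ≤ Nat.card X ^ 5 * Nat.card W ^ 5 := Nat.mul_le_mul a1 a2
      _ ≤ Nat.card V ^ 5 := by rw [← mul_pow]; gcongr
      _ ≤ _ := Nat.le_mul_of_pos_left _ four_pos
  obtain ⟨A, hA1, hA2, hA3⟩ := exists_max_abelian (G := G)
  obtain ⟨M, hM⟩ := exists_AM A hA3
  rcases fs_or_imp hirr A hA2 with ⟨K, _, _, _, σ, h⟩ | ⟨W₀, hW₀⟩
  · obtain ⟨Q, _, φ, β, p, h⟩ := exists_QP h hM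
    have : Finite Q := Finite.of_surjective p h.surj
    obtain ⟨e, he⟩ := h.sy.exists_sq
    obtain ⟨k, h1, h2⟩ := h.fs.exists_pow_index
    refine Or.inr ⟨e, _, _, _, _, _, (Module.natCard_eq_pow_finrank (K := K) (V := V)).symm,
      h.le_rank he, h2 ▸ Nat.pow_le_pow_left h1 _, h.card_le,
      by rw [← index_mul_card (centralizer (A : Set G)), h.card_cent he], ?_⟩
    by_cases e1 : e = 1
    · have := (Nat.card_eq_one_iff_unique.1 (he.trans (by rw [e1]; rfl))).1
      exact Or.inl ⟨e1, Finite.card_le_one_iff_subsingleton.2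
        ⟨fun _ _ => Subtype.ext (MulEquiv.ext fun _ => Subsingleton.elim _ _)⟩⟩
    have e0 : e ≠ 0 := by rintro rfl; exact Nat.card_pos.ne' he
    exact Or.inr ⟨by omega, h.three_le he e1, he ▸ h.bound pw fun e' => e1
      (Nat.pow_eq_one.1 (he.symm.trans e') |>.resolve_right two_ne_zero)⟩
  have hne : MulAction.stabilizer G W₀ ≠ ⊤ := fun e =>
    (hirr W₀ le_top (e ▸ invOn_stab W₀)).elim hW₀.ne_bot hW₀.ne_top
  obtain ⟨L, hL, h1⟩ := (eq_top_or_exists_le_coatom _).resolve_left hne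
  obtain ⟨W, hW, rfl⟩ := exists_coarse hW₀ hirr hL h1
  have h2 : 2 ≤ (MulAction.stabilizer G W).index := by
    have := mt index_eq_one.1 hL.1
    have : (MulAction.stabilizer G W).index ≠ 0 := index_ne_zero_of_finite
    omega
  have h3 := num_imp h2 (prim_bound hL)
  have h4 := Nat.pow_le_pow_left (pw.rel (invOn_stab W) ((hW.irr hirr).cr (invOn_stab W))
    hW.ne_bot hW.card_lt) (MulAction.stabilizer G W).index
  have h5 := Nat.pow_le_pow_left (hW.card_core hirr) 2
  have h6 := Nat.pow_le_pow_left hW.pow_le 5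
  rw [mul_pow, pow_right_comm, pow_right_comm _ 5] at h4
  left
  rw [← index_mul_card (MulAction.stabilizer G W).normalCore, mul_pow, ← mul_assoc]
  calc _ ≤ 4 * 25 ^ _ * _ := Nat.mul_le_mul h3 h5
    _ ≤ _ := by rw [mul_assoc]; exact Nat.mul_le_mul_left _ (h4.trans h6)

theorem card_le_big {Q : Type u} [CommGroup Q] [Finite Q] (Γ : Subgroup (MulAut Q))
    [Group.IsSolvable Γ] (hcr : ∀ X : Subgroup Q, (∀ g ∈ Γ, ∀ x ∈ X, g x ∈ X) → ∃ W : Subgroup Q,
      (∀ g ∈ Γ, ∀ x ∈ W, g x ∈ W) ∧ X ⊓ W = ⊥ ∧ X ⊔ W = ⊤) :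
    (Nat.card Q = 64 → Nat.card Γ ≤ 2621) ∧ (Nat.card Q = 81 → Nat.card Γ ≤ 6528) := by
  rcases subsingleton_or_nontrivial Q with hQ | hQ
  · rw [Nat.card_unique]; simp
  letI := mulAct Γ.subtype
  have : FaithfulSMul Γ (Additive Q) :=
    ⟨fun h => Subtype.ext (MulEquiv.ext fun x => h (Additive.ofMul x))⟩
  have h := refine (G := Γ) (V := Additive Q) fun X _ hX => by
    obtain ⟨W, h1, h2, h3⟩ := hcr (AddSubgroup.toSubgroup' X) fun g hg x hx =>
      hX ⟨g, hg⟩ trivial _ hx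
    refine ⟨W.toAddSubgroup, le_top, fun g _ v hv => h1 g.1 g.2 _ hv, ?_, ?_⟩
    · apply AddSubgroup.toSubgroup'.injective
      rw [OrderIso.map_inf, OrderIso.map_bot]; exact h2
    · apply AddSubgroup.toSubgroup'.injective
      rw [OrderIso.map_sup, OrderIso.map_top]; exact h3
  rw [show Nat.card (Additive Q) = Nat.card Q from rfl] at h
  generalize Nat.card Γ = g at h
  have key : ∀ {w f N : ℕ}, 2 ^ f ≤ w → w < 2 ^ (N + 1) → f ≤ N := fun h1 h2 =>
    Nat.lt_succ_iff.1 ((Nat.pow_lt_pow_iff_right one_lt_two).1 (h1.trans_lt h2))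
  have root : ∀ {w n k : ℕ}, k ≤ n → 3 ≤ w → w ^ k ≤ w ^ n := fun h1 h2 =>
    Nat.pow_le_pow_right (by omega) h1
  constructor <;> intro hQ <;> rw [hQ] at h <;>
    rcases h with h | ⟨e, n, w, f, a, c, h1, h2, h3, h4, rfl, ⟨rfl, h5⟩ | ⟨h5, h6, h7⟩⟩
  · nlinarith
  · have hw : w ≤ 64 := h1 ▸ Nat.le_self_pow (by omega) w
    have := key (N := 6) h3 (by omega)
    calc _ ≤ 6 * (1 * (1 ^ 2 * 63)) := by gcongr; omega
      _ ≤ _ := by norm_num
  · have hw : w ≤ 8 := by have := root (h5.trans h2) h6; nlinarith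
    have he : e ≤ 3 := by_contra fun k => by
      have := (Nat.pow_le_pow_left h6 4).trans (root (k := 4) (n := n) (by omega) h6); omega
    interval_cases e
    · have := key (N := 3) h3 (by omega)
      have : c ≤ 6 := by nlinarith
      calc _ ≤ 3 * (6 * (2 ^ 2 * 7)) := by gcongr; omega
        _ ≤ _ := by norm_num
    · have hw : w ≤ 4 := by_contra fun k => by
        have := (Nat.pow_le_pow_left (show 5 ≤ w by omega) 3).trans (root h2 h6); omega
      have := key (N := 2) h3 (by omega)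
      have : c ≤ 48 := by nlinarith
      calc _ ≤ 2 * (48 * (3 ^ 2 * 3)) := by gcongr; omega
        _ ≤ _ := by norm_num
  · nlinarith
  · have hw : w ≤ 81 := h1 ▸ Nat.le_self_pow (by omega) w
    have := key (N := 6) h3 (by omega)
    calc _ ≤ 6 * (1 * (1 ^ 2 * 80)) := by gcongr; omega
      _ ≤ _ := by norm_num
  · have hw : w ≤ 9 := by have := root (h5.trans h2) h6; nlinarith
    have he : e ≤ 4 := by_contra fun k => by
      have := (Nat.pow_le_pow_left h6 5).trans (root (k := 5) (n := n) (by omega) h6); omega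
    interval_cases e
    · have := key (N := 3) h3 (by omega)
      have : c ≤ 6 := by nlinarith
      calc _ ≤ 3 * (6 * (2 ^ 2 * 8)) := by gcongr; omega
        _ ≤ _ := by norm_num
    · have hw : w ≤ 4 := by_contra fun k => by
        have := (Nat.pow_le_pow_left (show 5 ≤ w by omega) 3).trans (root h2 h6); omega
      have := key (N := 2) h3 (by omega)
      have : c ≤ 48 := by nlinarith
      calc _ ≤ 2 * (48 * (3 ^ 2 * 3)) := by gcongr; omega
        _ ≤ _ := by norm_num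
    · have hw : w ≤ 3 := by_contra fun k => by
        have := (Nat.pow_le_pow_left (show 4 ≤ w by omega) 4).trans (root h2 h6); omega
      have := key (N := 1) h3 (by omega)
      have : c ≤ 204 := by nlinarith
      calc _ ≤ 1 * (204 * (4 ^ 2 * 2)) := by gcongr; omega
        _ ≤ _ := by norm_num

section small

variable {Q : Type u} [CommGroup Q] [Finite Q]

/-- action on the three non-identity elements of an invariant subgroup of order four -/
theorem exists_perm (Γ : Subgroup (MulAut Q)) {X : Subgroup Q} (hX : Nat.card X = 4)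
    (h : ∀ f ∈ Γ, ∀ x ∈ X, f x ∈ X) : ∃ (α : Type u) (r : Γ →* Equiv.Perm α),
      KB (Equiv.Perm α) 3 ∧ ∀ f, r f = 1 → ∀ x ∈ X, f.1 x = x := by
  let S : SubMulAction Γ Q := ⟨{x | x ∈ X ∧ x ≠ 1}, fun f x hx =>
    ⟨h f.1 f.2 x hx.1, fun e => hx.2 ((map_eq_one_iff _ f.1.injective).1 e)⟩⟩
  refine ⟨S, MulAction.toPermHom Γ S, kb_perm ?_, fun f hf x hx => ?_⟩
  · have := Set.ncard_sdiff_singleton_add_one (s := (X : Set Q)) X.one_mem
    rw [← Nat.card_coe_set_eq, ← Nat.card_coe_set_eq] at this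
    exact Nat.add_right_cancel (this.trans hX)
  · by_cases e : x = 1
    · rw [e, map_one]
    exact congrArg Subtype.val (DFunLike.congr_fun hf (⟨x, hx, e⟩ : S))

theorem kb_nine (hQ : Nat.card Q = 9) (Γ : Subgroup (MulAut Q)) : KB Γ 9 := by
  let i : MulAut Q := MulEquiv.inv Q
  have hi : Nat.card (zpowers i) ≤ 2 := by
    rw [Nat.card_zpowers]
    exact orderOf_le_of_pow_eq_one two_pos (MulEquiv.ext fun x => inv_inv x)
  refine ((KB.of_cent (zpowers i) (c := 8) (fun f hf => ?_) (by norm_num)).mono (by omega)).sub Γ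
  obtain ⟨x, h1, h2⟩ : ∃ x, f x ≠ x ∧ f x ≠ x⁻¹ := by
    by_contra k
    push Not at k
    obtain ⟨a, ha⟩ := DFunLike.ne_iff.1 (show f ≠ 1 from fun e => hf (e ▸ one_mem _))
    obtain ⟨b, hb⟩ := DFunLike.ne_iff.1 (show f ≠ i from fun e => hf (e ▸ mem_zpowers _))
    have b1 : f b = b := by_contra fun e => hb (k b e)
    have a1 := k a ha
    by_cases e : f (a * b) = a * b
    · rw [map_mul, b1] at e
      exact ha (mul_right_cancel e)
    · have := k _ e
      rw [map_mul, a1, mul_inv] at this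
      exact hb (mul_left_cancel this)
  have x1 : x ≠ 1 := fun e => h1 (by rw [e, map_one])
  have x2 : x ≠ x⁻¹ := fun e => x1 (by
    have : x ^ 2 = 1 := by rw [pow_two]; exact mul_eq_one_iff_eq_inv.2 e
    have := (pow_gcd_eq_one (a := x)).2 ⟨this, hQ ▸ pow_card_eq_one'⟩
    simpa using this)
  have x3 : f x ≠ 1 := fun e => x1 ((map_eq_one_iff _ f.injective).1 e)
  have key : ∀ g : MulAut Q, g x = x → g (f x) = f x → g = 1 := fun g k1 k2 => by
    have k3 : 4 ≤ Nat.card (dl g).ker := by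
      have := Set.ncard_le_ncard (s := {1, x, x⁻¹, f x}) (t := (dl g).ker) (by
        rintro y (rfl | rfl | rfl | rfl)
        exacts [one_mem _, mem_ker_dl.2 k1, inv_mem (mem_ker_dl.2 k1), mem_ker_dl.2 k2])
      rwa [Set.ncard_insert_of_notMem (by simp [x1, x1.symm, x3.symm]),
        Set.ncard_insert_of_notMem (by simp [x2, h1.symm]), Set.ncard_pair h2.symm] at this
    have k4 := card_subgroup_dvd_card (dl g).ker
    rw [hQ] at k4
    refine eq_one_of_ker (eq_top_of_card_eq _ ?_)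
    have := Nat.le_of_dvd (by norm_num) k4
    rw [hQ]
    interval_cases Nat.card (dl g).ker <;> omega
  have := Tr.card_lt_of_notMem (fun g : centralizer ({f} : Set (MulAut Q)) => g.1 x)
    (fun g g' e => Subtype.ext (inv_mul_eq_one.1 (key _ (by
        rw [MulAut.mul_apply, ← show g.1 x = g'.1 x from e]; simp) (by
      have := DFunLike.congr_fun (mem_centralizer_singleton_iff.1 (g⁻¹ * g').2) x
      rw [MulAut.mul_apply, MulAut.mul_apply] at this
      refine this.trans (congrArg f ?_)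
      change g.1⁻¹ (g'.1 x) = x
      rw [← show g.1 x = g'.1 x from e]; simp)))) (b := 1) (by
      rintro ⟨g, hg⟩
      exact x1 ((map_eq_one_iff _ g.1.injective).1 hg))
  omega

end small

theorem kb_sy {G Q : Type u} {K : Type*} [Group G] [Finite G] [Group.IsSolvable G] [CommGroup Q]
    [Finite Q] [Field K] {φ : G →* MulAut Q} {β : Q →* Q →* Kˣ} (h : Sy ⊤ φ β) {e : ℕ}
    (he : Nat.card Q = e ^ 2) : KB φ.range (3 ^ (e - 1)) := by
  have hs := Group.isSolvable_of_surjective φ.rangeRestrict_surjective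
  have hi : ∀ f ∈ φ.range, Iso β f := by rintro _ ⟨g, rfl⟩; exact h.inv g trivial
  have hcr : ∀ X : Subgroup Q, (∀ g ∈ φ.range, ∀ x ∈ X, g x ∈ X) → ∃ W : Subgroup Q,
      (∀ g ∈ φ.range, ∀ x ∈ W, g x ∈ W) ∧ X ⊓ W = ⊥ ∧ X ⊔ W = ⊤ := fun X hX => by
    obtain ⟨W, h1, h2⟩ := h.cr X fun g => hX _ ⟨g, rfl⟩
    exact ⟨W, by rintro _ ⟨g, rfl⟩; exact h1 g, h2⟩
  have hab := fun k => (card_le_of_comm _ hcr k).trans_eq he
  have sq := fun k1 k2 => h.nd.card_le_of_squarefree he k1 k2 _ hi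
  have e0 : e ≠ 0 := by rintro rfl; exact Nat.card_pos.ne' he
  rcases le_or_gt 11 e with h1 | h1
  · have := Finite.one_lt_card_iff_nontrivial.1 (he ▸ show 1 < e ^ 2 by nlinarith)
    have h2 := (p_sol.{u} _).2.mul φ h.cr (Nat.lt_succ_self _)
    rw [he, pow_right_comm, ← show 5 ^ 2 = 25 from rfl, ← mul_pow] at h2
    have h3 := (Nat.pow_le_pow_iff_left two_ne_zero).1 h2
    have h4 : ∀ e, 11 ≤ e → 3 * e ^ 5 ≤ 5 * 3 ^ e := fun e k => by
      induction e, k using Nat.le_induction with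
      | base => norm_num
      | succ e k ih =>
        have : (11 * (e + 1)) ^ 5 ≤ (12 * e) ^ 5 := Nat.pow_le_pow_left (by omega) 5
        rw [mul_pow, mul_pow] at this
        rw [pow_succ 3]
        omega
    have h5 := h4 e h1
    obtain ⟨d, rfl⟩ := Nat.exists_eq_add_of_le' (show 1 ≤ e by omega)
    rw [pow_succ 3] at h5
    exact KB.of_card (by rw [Nat.add_sub_cancel]; omega)
  interval_cases e
  · exact absurd rfl e0
  · have := (Nat.card_eq_one_iff_unique.1 he).1
    exact KB.of_card (Finite.card_le_one_iff_subsingleton.2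
      ⟨fun _ _ => Subtype.ext (MulEquiv.ext fun _ => Subsingleton.elim _ _)⟩)
  · obtain ⟨α, r, h2, h3⟩ := exists_perm φ.range (X := ⊤) (card_top.trans he) fun _ _ _ _ => trivial
    exact h2.of_inj r ((injective_iff_map_eq_one _).2 fun f hf =>
      Subtype.ext (MulEquiv.ext fun x => h3 f hf x trivial))
  · exact kb_nine he _
  · have h2 : Cfsg.pCore 2 φ.range = ⊥ := by
      refine (Subgroup.map_eq_bot_iff_of_injective _ (subtype_injective _)).1 (h.eq_bot_of_pgroup
        (IsPGroup.of_card (n := 4) he) ((CF.Loc.isPGroup_pCore 2 _).map _) (map_subtype_le _)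
        fun g ρ hρ => (CF.Solv.normalizer_le_normalizer_map_subtype _
          (mem_normalizer_fintype ?_) ρ).1 hρ)
      rintro _ ⟨c, rfl⟩
      exact ⟨g * c * g⁻¹, by simp⟩
    by_cases h3 : Cfsg.pCore 3 φ.range = ⊥
    · exact KB.of_card ((Nat.le_of_dvd (by norm_num) (h.nd.twenty he hi h2 h3).1).trans (by norm_num))
    obtain ⟨X, h4, h5⟩ := h.nd.planes16 he (h.exp_two (k := 4) he) hi h3
    have h6 := h.nd.pl_perp h4.2 (by rw [h4.1, he]; rfl)
    let S := φ.range ⊓ MulAction.stabilizer (MulAut Q) X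
    have h7 : ∀ f ∈ S, ∀ x ∈ X, f x ∈ X := fun f hf x hx => hf.2.le ⟨x, hx, rfl⟩
    have h9 : (MulAction.stabilizer φ.range X).index ≤ 2 := by
      rw [MulAction.index_stabilizer]
      refine (Set.ncard_le_ncard (t := {X, perp β X}) ?_).trans ((Set.ncard_insert_le _ _).trans (by simp))
      rintro _ ⟨f, rfl⟩
      exact h5 f.1 f.2
    have : (MulAction.stabilizer φ.range X).Normal := by
      have : (MulAction.stabilizer φ.range X).index ≠ 0 := index_ne_zero_of_finite
      by_cases k : (MulAction.stabilizer φ.range X).index = 2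
      · exact normal_of_index_eq_two k
      · rw [index_eq_one.1 (by omega : (MulAction.stabilizer φ.range X).index = 1)]
        infer_instance
    obtain ⟨α, r, a1, a2⟩ := exists_perm S h4.1 h7
    obtain ⟨α', r', b1, b2⟩ := exists_perm S h6.1 fun f hf x hx =>
      (hi f hf.1).perp_inv (h7 _ (inv_mem hf)) hx
    have h8 : KB S (3 * 3) := KB.two r r' a1 b1 fun f k1 k2 => Subtype.ext (MulEquiv.ext fun x => by
      obtain ⟨a, ha, b, hb, rfl⟩ := mem_sup.1 ((h.nd.sup_perp h4.2).ge (mem_top x))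
      rw [map_mul, a2 f k1 a ha, b2 f k2 b hb]; rfl)
    refine (KB.mul (QuotientGroup.mk' (MulAction.stabilizer φ.range X)) (h8.of_inj
      ((φ.range.subtype.comp (Subgroup.subtype _)).codRestrict S fun f =>
        ⟨f.1.2, (QuotientGroup.eq_one_iff f.1).1 f.2⟩) fun f g e =>
          Subtype.ext (Subtype.ext (congrArg (·.1) e :))) (KB.of_card h9)).mono (by norm_num)
  · exact KB.of_bound (sq (by decide +kernel) (by norm_num)) (fun k => (hab k).trans (by norm_num))
      (by norm_num)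
  · exact KB.of_card ((sq (by decide +kernel) (by norm_num)).trans (by norm_num))
  · exact KB.of_card ((sq (by decide +kernel) (by norm_num)).trans (by norm_num))
  · exact KB.of_bound ((card_le_big _ hcr).1 he) (fun k => (hab k).trans (by norm_num))
      (by norm_num)
  · exact KB.of_card (((card_le_big _ hcr).2 he).trans (by norm_num))
  · exact KB.of_card ((sq (by decide +kernel) (by norm_num)).trans (by norm_num))

end CF.Crit.Kr
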