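import Cfsg.Agent.Crit.Kr2
import Cfsg.Agent.Clifford.MGroup
import Cfsg.Agent.Clifford.Small

/-!
# The Kovács–Robinson bound for solvable complex linear groups
-/

set_option autoImplicit false

namespace CF.Crit.Kr

open Cfsg Subgroup CF.Fgs2 CF.Fgs2.HK CF.Fgs2.Base CF.Perm CF.Char CF.Clifford CF.Solv
open scoped commutatorElement

universe u

theorem exists_sy {G : Type u} {K : Type*} [Group G] [Field K] {A M : Subgroup G} (hM : AM A M)
    (χ : A →* Kˣ) (h1 : Function.Injective χ) :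
    ∃ (Q : Type u) (_ : CommGroup Q) (φ : G →* MulAut Q) (β : Q →* Q →* Kˣ), Finite M → Finite Q ∧
      Sy (centralizer (A : Set G)) φ β ∧
      (∀ c ∈ centralizer (A : Set G), φ c = 1 ↔ c ∈ M) ∧ Nat.card Q = A.relIndex M := by
  have := hM.An
  have := hM.Mn
  let π := QuotientGroup.mk' A
  have := hM.Mn.map π (QuotientGroup.mk'_surjective A)
  let p : M →* M.map π := π.subgroupMap M
  have hp : Function.Surjective p := π.subgroupMap_surjective M
  have hp1 : ∀ m, p m = 1 ↔ (m : G) ∈ A := fun m =>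
    Subtype.ext_iff.trans (QuotientGroup.eq_one_iff _)
  letI : CommGroup (M.map π) :=
    { mul_comm := fun a b => by
        obtain ⟨a, rfl⟩ := hp a
        obtain ⟨b, rfl⟩ := hp b
        rw [← commutatorElement_eq_one_iff_mul_comm, ← map_commutatorElement, hp1]
        exact hM.comm _ a.2 _ b.2 }
  let b₀ : M →* M →* Kˣ := MonoidHom.mk' (fun x => χ.comp (hM.br x.2)) fun x y =>
    MonoidHom.ext fun z => by
      rw [MonoidHom.mul_apply, MonoidHom.comp_apply, MonoidHom.comp_apply, MonoidHom.comp_apply,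
        mul_comm, ← map_mul]
      refine congrArg χ (Subtype.ext ?_)
      change ⁅(x : G) * y, (z : G)⁆ = ⁅(y : G), (z : G)⁆ * ⁅(x : G), (z : G)⁆
      rw [Transfer.commutatorElement_mul_left', (hM.commute (hM.comm _ y.2 _ z.2) x.2).mul_inv_cancel]
  have hb : ∀ x y : M, b₀ x y = 1 ↔ ⁅(x : G), (y : G)⁆ = 1 := fun x y =>
    ((injective_iff_map_eq_one' χ).1 h1 _).trans Subtype.ext_iff
  have lift : ∀ {T : Type _} [Group T] (f : M →* T), (∀ x : M, (x : G) ∈ A → f x = 1) →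
      ∃ f' : M.map π →* T, ∀ x, f' (p x) = f x := fun f hf =>
    ⟨p.liftOfSurjective hp ⟨f, fun x hx => hf x ((hp1 x).1 hx)⟩,
      p.liftOfRightInverse_comp_apply _ _ _⟩
  obtain ⟨b₁, hb₁⟩ := lift b₀.flip fun y hy => MonoidHom.ext fun x => (hb x y).2
    (commutatorElement_eq_one_iff_commute.2 (hM.commute hy x.2))
  obtain ⟨β, hβ'⟩ := lift b₁.flip fun x hx => MonoidHom.ext fun y => by
    obtain ⟨y, rfl⟩ := hp y
    exact (DFunLike.congr_fun (hb₁ y) x).trans ((hb x y).2 (commutatorElement_eq_one_iff_commute.2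
      (hM.commute hx y.2).symm))
  have hβ : ∀ x y, β (p x) (p y) = b₀ x y := fun x y =>
    (DFunLike.congr_fun (hβ' x) _).trans (DFunLike.congr_fun (hb₁ y) x)
  have hφ : ∀ g (m : M), (MulAut.conjNormal.comp π) g (p m) =
      p ⟨g * m * g⁻¹, hM.Mn.conj_mem _ m.2 g⟩ := fun g m => rfl
  have hcj : ∀ g x y : G, ⁅g * x * g⁻¹, g * y * g⁻¹⁆ = g * ⁅x, y⁆ * g⁻¹ := fun g x y => by
    simp only [commutatorElement_def]; group
  refine ⟨M.map π, inferInstance, MulAut.conjNormal.comp π, β, fun _ => ⟨Finite.of_surjective p hp,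
    ⟨fun x => ?_, fun c hc x y => ?_, fun g x y hxy => ?_, fun X h3 h4 => ?_⟩,
    fun c hc => ⟨fun h3 => hM.Mmax c hc fun m hm => ?_, fun h3 => MulEquiv.ext fun x => ?_⟩,
    by rw [← relIndex_ker, QuotientGroup.ker_mk']⟩⟩
  · obtain ⟨x, rfl⟩ := hp x
    rw [hβ, hb, commutatorElement_self]
  · obtain ⟨x, rfl⟩ := hp x
    obtain ⟨y, rfl⟩ := hp y
    rw [hφ, hφ, hβ, hβ]
    refine congrArg χ (Subtype.ext ?_)
    change ⁅c * x * c⁻¹, c * y * c⁻¹⁆ = ⁅(x : G), (y : G)⁆
    rw [hcj, ← hc _ (hM.comm _ x.2 _ y.2), mul_inv_cancel_right]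
  · obtain ⟨x, rfl⟩ := hp x
    obtain ⟨y, rfl⟩ := hp y
    rw [hβ, hb] at hxy
    rw [hφ, hφ, hβ, hb]
    change ⁅g * x * g⁻¹, g * y * g⁻¹⁆ = 1
    rw [hcj, hxy, mul_one, mul_inv_cancel]
  · have h5 := hM.Amax ((X.comap p).map M.subtype) ⟨by
      rintro _ ⟨x, hx, rfl⟩ g
      exact ⟨_, show p _ ∈ X from hφ g x ▸ h3 g _ hx, rfl⟩⟩ ⟨⟨by
      rintro ⟨_, x, hx, rfl⟩ ⟨_, y, hy, rfl⟩
      exact Subtype.ext (commutatorElement_eq_one_iff_mul_comm.1
        ((hb x y).1 ((hβ x y).symm.trans (h4 _ hx _ hy))))⟩⟩ fun a ha =>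
      ⟨⟨a, hM.le ha⟩, show p _ ∈ X from ((hp1 ⟨a, hM.le ha⟩).2 ha).symm ▸ X.one_mem, rfl⟩
    refine eq_bot_iff.2 fun x hx => ?_
    obtain ⟨x, rfl⟩ := hp x
    exact (hp1 x).2 (h5 ⟨x, hx, rfl⟩)
  · exact (QuotientGroup.eq_one_iff _).1
      (mul_inv_eq_one.2 (congrArg Subtype.val (DFunLike.congr_fun h3 (p ⟨m, hm⟩))))
  · obtain ⟨x, rfl⟩ := hp x
    rw [hφ, show (⟨c * x * c⁻¹, _⟩ : M) = ⟨c, h3⟩ * x * ⟨c, h3⟩⁻¹ from rfl, map_mul, map_mul,
      map_inv, mul_inv_cancel_comm]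
    rfl

/-- a normal subgroup nilpotent modulo the kernel, with bounded class numbers above it -/
def Good {G : Type*} [Group G] (χ : G → ℂ) (n : ℕ) : Prop :=
  ∃ (F : Subgroup G) (_ : F.Normal) (k : ℕ), F.lowerCentralSeries k ≤ charKer χ ∧ KB (G ⧸ F) n

theorem Good.of_fit {G : Type*} [Group G] [Finite G] {χ : G → ℂ} {n : ℕ}
    (h : KB (G ⧸ fittingSubgroup G) n) : Good χ n := by
  obtain ⟨k, hk⟩ := (isNilpotent_iff_lowerCentralSeries (fittingSubgroup G)).1 inferInstance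
  exact ⟨_, inferInstance, k, hk ▸ bot_le, h⟩

theorem Good.fit {G : Type*} [Group G] [Finite G] {χ : G → ℂ} {n : ℕ} (h : Good χ n)
    (hk : charKer χ = ⊥) : KB (G ⧸ fittingSubgroup G) n := by
  obtain ⟨F, _, k, h1, h2⟩ := h
  have := isNilpotent_of_lowerCentralSeries_eq_bot (eq_bot_iff.2 (hk ▸ h1))
  exact h2.quot (le_fitting F)

theorem prim {G : Type u} [Group G] [Finite G] [Group.IsSolvable G] {χ : G → ℂ} {r : ℕ}
    (hχ : IsIrrCharacter G χ) (hr : χ 1 = r) (hk : charKer χ = ⊥) (h : RelPrim ⊥ χ) :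
    KB (G ⧸ fittingSubgroup G) (3 ^ (r - 1)) := by
  have hZ := charCenter_eq_center_of_faithful hχ hk
  obtain ⟨M, hM⟩ := exists_AM (center G) fun A _ _ _ => hZ ▸ RelPrim.le_charCenter h hχ A bot_le
    (commutator_le.2 fun a ha b hb => by
      rw [commutatorElement_eq_one_iff_mul_comm.2 (congrArg Subtype.val
        (mul_comm' (⟨a, ha⟩ : A) ⟨b, hb⟩))]
      exact one_mem _)
  have := hM.Mn
  obtain ⟨l, hl⟩ := exists_linear_of_le_charCenter (irr_one_ne_zero hχ) _ hZ.ge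
  obtain ⟨Q, _, φ, β, h1⟩ := exists_sy hM l ((injective_iff_map_eq_one _).2 fun z hz =>
    Subtype.ext (mem_bot.1 (hk ▸ fun x => by rw [hl, hz]; simp)))
  obtain ⟨_, h1, h2, h3⟩ := h1 inferInstance
  rw [centralizer_eq_top_iff_subset.2 subset_rfl] at h1 h2
  obtain ⟨e, he⟩ := h1.exists_sq
  have h4 : (center G).subgroupOf M = center M := by
    refine le_antisymm (fun a ha => ?_) fun a ha => hM.mem fun m hm =>
      congrArg Subtype.val (mem_center_iff.1 ha ⟨m, hm⟩)
    exact mem_center_iff.2 fun b => Subtype.ext (mem_center_iff.1 (mem_subgroupOf.1 ha) b)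
  have h5 : commutator M ≤ center M := h4 ▸ commutator_le.2 fun a _ b _ => hM.comm _ a.2 _ b.2
  have : Group.IsNilpotent M := isNilpotent_of_lowerCentralSeries_eq_bot (n := 2)
    (M.lowerCentralSeries_succ_eq_bot (commutator_le.2 hM.comm))
  obtain ⟨θ, c, hθ, c0, hc⟩ := h.homog hχ (NormalEmb.sub M) bot_le
  obtain ⟨d, -, hd⟩ := irr_one_eq_nat hθ
  have h6 : charKer θ = ⊥ := eq_bot_iff.2 fun x hx => Subtype.ext (mem_bot.1 (hk ▸
    (mem_charKer_iff (irr_isCharacter hχ)).2 ((congrFun hc x).trans (by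
      rw [Pi.smul_apply, (mem_charKer_iff (irr_isCharacter hθ)).1 hx]
      exact (congrFun hc 1).symm))))
  have h7 := irr_one_sq_eq_index hθ (center M) (center_le_charCenter hθ) fun x hx =>
    irr_eq_zero_of_not_mem_center hθ h5 (by rw [h6, inf_bot_eq]) hx
  rw [hd, ← h4, ← relIndex, ← h3, he] at h7
  obtain rfl : d = e := (Nat.pow_left_injective two_ne_zero) (by exact_mod_cast h7)
  have h8 : r = c * d := by
    have := congrFun hc 1
    rw [Pi.smul_apply, hd, smul_eq_mul] at this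
    exact_mod_cast hr.symm.trans this
  refine ((KB.ker φ.rangeRestrict (kb_sy h1 he)).quot fun x hx => le_fitting M
    ((h2 x trivial).1 (congrArg Subtype.val hx))).mono (Nat.pow_le_pow_right three_pos ?_)
  rw [h8]
  exact Nat.sub_le_sub_right (Nat.le_mul_of_pos_left _ c0) 1

theorem index_core_le {G : Type u} [Group G] [Finite G] [Group.IsSolvable G] {L : Subgroup G}
    (hL : IsCoatom L) : L.normalCore.index ≤ 3 ^ (L.index - 1) := by
  have h := prim_bound hL
  have h0 : L.index ≠ 0 := index_ne_zero_of_finite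
  have h1 := mt index_eq_one.1 hL.1
  generalize L.index = m at *
  generalize L.normalCore.index = s at *
  rcases le_or_gt 4 m with k | k
  · have := poly_le 9 25 9 4 (by norm_num) (by norm_num) k
    obtain ⟨d, rfl⟩ := Nat.exists_eq_add_of_le' (show 1 ≤ m by omega)
    rw [Nat.add_sub_cancel, ← Nat.pow_le_pow_iff_left two_ne_zero, pow_right_comm]
    rw [pow_succ 9] at this
    change _ ≤ 9 ^ d
    omega
  interval_cases m
  · omega
  · omega
  · norm_num at h ⊢; nlinarith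
  · norm_num at h ⊢; nlinarith

theorem good_irr (n : ℕ) : ∀ (G : Type u) [Group G] [Finite G] [Group.IsSolvable G],
    Nat.card G = n → ∀ (χ : G → ℂ) (r : ℕ), IsIrrCharacter G χ → χ 1 = r → Good χ (3 ^ (r - 1)) := by
  classical
  induction n using Nat.strong_induction_on with | _ n ih =>
  rintro G _ _ _ rfl χ r hχ hr
  have := Fintype.ofFinite G
  have := charKer_normal (irr_isClassFunction hχ)
  by_cases hk : charKer χ = ⊥
  swap
  · obtain ⟨ψ, hψ, e⟩ := exists_irr_quotient hχ _ le_rfl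
    obtain ⟨F, _, k, h1, h2⟩ := ih _ (card_quotient_lt hk) _ rfl ψ r hψ
      ((congrFun e 1).symm.trans hr)
    let π := QuotientGroup.mk' (charKer χ)
    refine ⟨((QuotientGroup.mk' F).comp π).ker, inferInstance, k, fun x hx => ?_, KB.ker _ h2⟩
    have h3 : π x ∈ F.lowerCentralSeries k := lowerCentralSeries_mono k (by
      rintro _ ⟨y, hy, rfl⟩
      exact (QuotientGroup.eq_one_iff _).1 hy) (map_lowerCentralSeries _ π k ▸ mem_map_of_mem π hx)
    rw [e]
    exact (charKer_comp ψ π (QuotientGroup.mk'_surjective _)).ge (h1 h3)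
  by_cases h : RelPrim ⊥ χ
  · exact Good.of_fit (prim hχ hr hk h)
  simp only [RelPrim, not_forall, not_not] at h
  obtain ⟨_, T, -, hT, ψ₀, hψ₀, e⟩ := h
  obtain ⟨L, hL, k⟩ := (eq_top_or_exists_le_coatom T).resolve_left hT
  have := Fintype.ofFinite L
  have i := (indFun_indFun T L k _).trans e
  set ψ := indFun (T.subgroupOf L) fun x => ψ₀ ⟨(x : L), mem_subgroupOf.1 x.2⟩
  have hψ : IsIrrCharacter L ψ := irr_of_irr_indFun L (char_indFun _ (char_comp hψ₀
    (subgroupOfEquivOfLe k).toMonoidHom)) (i ▸ hχ)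
  obtain ⟨s, s0, hs⟩ := irr_one_eq_nat hψ
  obtain ⟨F, _, j, h1, h2⟩ := ih _ (Solv.card_lt_of_ne_top hL.1) L rfl ψ s hψ hs
  let c : G → L.normalCore →* L := fun g =>
    ((MulAut.conj g⁻¹).toMonoidHom.comp L.normalCore.subtype).codRestrict L fun x => x.2 _
  have := Fintype.ofFinite (G ⧸ L)
  let f : L.normalCore →* (G ⧸ L → L ⧸ F) :=
    MonoidHom.pi fun q => (QuotientGroup.mk' F).comp (c q.out)
  have h3 : ∀ g, f.ker.map (c g) ≤ F := by
    rintro g _ ⟨x, hx, rfl⟩
    obtain ⟨a, ha⟩ := QuotientGroup.mk_out_eq_mul L g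
    have h4 := (inferInstance : F.Normal).conj_mem _
      ((QuotientGroup.eq_one_iff _).1 (congrFun hx (g : G ⧸ L))) a
    convert h4 using 1
    exact Subtype.ext (by simp [c, ha, mul_assoc])
  have : Group.IsNilpotent f.ker := isNilpotent_of_lowerCentralSeries_eq_bot (n := j)
    (eq_bot_iff.2 fun x hx => Subtype.ext (mem_bot.1 (hk ▸
      (mem_charKer_iff (irr_isCharacter hχ)).2 (by
      rw [← i, indFun, indFun]
      refine congrArg _ (Finset.sum_congr rfl fun g _ => ?_)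
      have h5 := h1 (lowerCentralSeries_mono j (h3 g)
        (map_lowerCentralSeries _ (c g) j ▸ mem_map_of_mem (c g) hx))
      rw [mul_one, inv_mul_cancel, Char.extendByZero_of_mem _ _ L.one_mem,
        show g⁻¹ * x.1 * g = c g x by simp [c], Char.extendByZero_coe]
      exact (mem_charKer_iff (irr_isCharacter hψ)).1 h5))))
  have h4 := KB.ext (F := fittingSubgroup G) f h2.pi fun x hx =>
    map_fitting_le_of_isSubnormal (Normal.isSubnormal inferInstance) ⟨x, le_fitting _ hx, rfl⟩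
  refine Good.of_fit (h4.mono ((Nat.mul_le_mul_left _ (index_core_le hL)).trans_eq ?_))
  have h5 : r = L.index * s := by
    rw [← i, indFun_one, hs] at hr
    exact_mod_cast hr.symm
  have h0 : L.index ≠ 0 := index_ne_zero_of_finite
  rw [← Nat.card_eq_fintype_card, ← index, ← pow_mul, ← pow_add, h5]
  obtain ⟨d, rfl⟩ := Nat.exists_eq_add_of_le' s0
  rw [Nat.add_sub_cancel, mul_add, mul_comm d, Nat.add_sub_assoc (by omega), Nat.succ_eq_add_one,
    zero_add, mul_one]

theorem good_char {G : Type u} [Group G] [Finite G] [Group.IsSolvable G] {χ : G → ℂ}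
    (h : IsCharacter G χ) : ∀ r : ℕ, χ 1 = r → Good χ (3 ^ (r - 1)) := by
  refine char_induction (P := fun χ => ∀ r : ℕ, χ 1 = r → Good χ (3 ^ (r - 1))) (fun r _ => ?_)
    (fun ψ hψ r => good_irr _ G rfl ψ r hψ) (fun φ ψ hφ hψ h1 h2 r hr => ?_) h
  · exact ⟨⊤, inferInstance, 0, fun _ _ _ => rfl, KB.of_card ((index_top (G := G)).trans_le
      (Nat.one_le_pow _ _ three_pos))⟩
  obtain ⟨a, ha⟩ := char_one_eq_nat hφ
  obtain ⟨b, hb⟩ := char_one_eq_nat hψ
  obtain rfl : r = a + b := by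
    rw [Pi.add_apply, ha, hb] at hr
    exact_mod_cast hr.symm
  obtain ⟨F, _, j, a1, a2⟩ := h1 a ha
  obtain ⟨E, _, k, b1, b2⟩ := h2 b hb
  refine ⟨F ⊓ E, inferInstance, max j k, ?_, (a2.inf b2).mono ?_⟩
  · rw [charKer_add hφ hψ]
    exact le_inf ((lowerCentralSeries_mono _ inf_le_left).trans
      ((Subgroup.lowerCentralSeries_antitone _ (le_max_left _ _)).trans a1))
      ((lowerCentralSeries_mono _ inf_le_right).trans
        ((Subgroup.lowerCentralSeries_antitone _ (le_max_right _ _)).trans b1))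
  · rw [← pow_add]
    exact Nat.pow_le_pow_right three_pos (by omega)

/-- Kovács–Robinson -/
theorem kb_fit {G : Type u} [Group G] [Finite G] [Group.IsSolvable G] {χ : G → ℂ}
    (h : IsCharacter G χ) (hk : ∀ g, χ g = χ 1 → g = 1) {r : ℕ} (hr : charDegree χ ≤ r) :
    KB (G ⧸ fittingSubgroup G) (3 ^ (r - 1)) := by
  obtain ⟨a, ha⟩ := char_one_eq_nat h
  refine ((good_char h a ha).fit (eq_bot_iff.2 fun g hg =>
    hk g ((mem_charKer_iff h).1 hg))).mono (Nat.pow_le_pow_right three_pos ?_)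
  have : charDegree χ = a := by simp [charDegree, ha]
  omega

end CF.Crit.Kr
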