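import Cfsg.Agent.Crit.Kr3
import Cfsg.Agent.Fgs2.HK3
import Cfsg.Agent.Solv.CyclicMax

/-! A lower bound `k(G) ≥ p / (3 log₂ p)` for solvable groups with `p ∣ |G : F(G)|`. -/

set_option autoImplicit false

namespace CF.Crit.Kr

open Subgroup Cfsg CF.Perm CF.Fgs2 CF.Fgs2.HK CF.Fgs2.Base
open scoped Pointwise commutatorElement

universe u

section num

theorem pow21 (e : ℕ) : e ^ 21 ≤ 4096 ^ e := by
  rcases le_or_gt e 3 with h | h
  · interval_cases e <;> norm_num
  · induction e, h using Nat.le_induction with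
    | base => norm_num
    | succ e he ih =>
      have h1 : (4 * (e + 1)) ^ 21 ≤ (5 * e) ^ 21 := Nat.pow_le_pow_left (by omega) _
      rw [mul_pow, mul_pow] at h1
      rw [pow_succ 4096]
      nlinarith [Nat.zero_le (e ^ 21)]

theorem num_qp {c e f p N : ℕ} (hp : 4096 ≤ p) (he : e ≠ 0) (hf : f ≠ 0)
    (hc : e = 1 ∧ c = 1 ∨ 5 * c ≤ e ^ 5) (hN : (p ^ f) ^ e ≤ N) :
    27 * (f * (c * e ^ 2)) ^ 3 ≤ N := by
  have h1 : 27 * (c * e ^ 2) ^ 3 ≤ 4096 ^ e := by
    rcases hc with ⟨rfl, rfl⟩ | hc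
    · norm_num
    · have h2 := Nat.pow_le_pow_left (Nat.mul_le_mul_right (e ^ 2) hc) 3
      have h3 := pow21 e
      rw [← pow_add, ← pow_mul, mul_assoc, mul_pow, show (5 + 2) * 3 = 21 from rfl] at h2
      omega
  obtain ⟨g, rfl⟩ := Nat.exists_eq_succ_of_ne_zero hf
  have h2 : (g + 1) ^ 3 ≤ 4096 ^ (g * e) := by
    refine le_trans ?_ (Nat.pow_le_pow_right (by norm_num) (Nat.le_mul_of_pos_right g
      (Nat.pos_of_ne_zero he)))
    calc (g + 1) ^ 3 ≤ (2 ^ g) ^ 3 := Nat.pow_le_pow_left Nat.lt_two_pow_self 3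
      _ = 8 ^ g := by rw [← pow_mul, mul_comm, pow_mul]; norm_num
      _ ≤ 4096 ^ g := Nat.pow_le_pow_left (by norm_num) g
  refine le_trans ?_ ((Nat.pow_le_pow_left (Nat.pow_le_pow_left hp _) e).trans hN)
  rw [← pow_mul, Nat.succ_mul g e, pow_add, mul_pow, mul_left_comm]
  exact Nat.mul_le_mul h2 h1

theorem cube_mono {m t : ℕ} (hm : 4 ≤ m) (h : m ≤ t) : 2 ^ m * t ^ 3 ≤ 2 ^ t * m ^ 3 := by
  induction t, h using Nat.le_induction with
  | base => rfl
  | succ t ht ih =>
    have h1 : (4 * (t + 1)) ^ 3 ≤ (5 * t) ^ 3 := Nat.pow_le_pow_left (by omega) _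
    rw [mul_pow, mul_pow] at h1
    have h2 : (t + 1) ^ 3 ≤ 2 * t ^ 3 := by omega
    calc 2 ^ m * (t + 1) ^ 3 ≤ 2 ^ m * (2 * t ^ 3) := Nat.mul_le_mul_left _ h2
      _ = 2 * (2 ^ m * t ^ 3) := by ring
      _ ≤ 2 * (2 ^ t * m ^ 3) := Nat.mul_le_mul_left _ ih
      _ = 2 ^ (t + 1) * m ^ 3 := by ring

theorem num_fin {a k t τ N : ℕ} (ha : 2 ≤ a) (hk : 3 * a * k ≤ 2 ^ (a + 1)) (ht : 3 * a ≤ t)
    (h : τ = 1 ∧ 2 ^ t ≤ N ∨ 4 ^ t ≤ N ∧ 27 * τ ^ 3 ≤ N) (h1 : 2 * N ≤ (k * (t * τ)) ^ 2) :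
    False := by
  have h2 := cube_mono (show 4 ≤ 3 * a by omega) ht
  have t0 : 0 < t := by omega
  set m := 3 * a with hm
  rcases h with ⟨rfl, h⟩ | ⟨h, h3⟩
  · have h4 : 2 ^ m * t ^ 2 ≤ 2 ^ t * m ^ 2 := Nat.le_of_mul_le_mul_right (c := m) (by
      calc 2 ^ m * t ^ 2 * m ≤ 2 ^ m * t ^ 2 * t := Nat.mul_le_mul_left _ ht
        _ = 2 ^ m * t ^ 3 := by ring
        _ ≤ _ := h2
        _ = _ := by ring) (by omega)
    have h5 : 2 * (2 ^ m * t ^ 2) ≤ (2 ^ (a + 1)) ^ 2 * t ^ 2 :=
      calc 2 * (2 ^ m * t ^ 2) ≤ 2 * (N * m ^ 2) :=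
            Nat.mul_le_mul_left _ (h4.trans (Nat.mul_le_mul_right _ h))
        _ = 2 * N * m ^ 2 := by ring
        _ ≤ (k * (t * 1)) ^ 2 * m ^ 2 := Nat.mul_le_mul_right _ h1
        _ = (m * k) ^ 2 * t ^ 2 := by ring
        _ ≤ _ := Nat.mul_le_mul_right _ (Nat.pow_le_pow_left hk 2)
    rw [← mul_assoc, ← pow_succ', ← pow_mul] at h5
    have := (Nat.pow_le_pow_iff_right (by norm_num)).1 (Nat.le_of_mul_le_mul_right h5 (by positivity))
    omega
  · have N0 : 0 < N := lt_of_lt_of_le (by positivity) h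
    have h4 : 5832 * N ≤ (k * t) ^ 6 := Nat.le_of_mul_le_mul_right (c := N ^ 2) (by
      calc 5832 * N * N ^ 2 = 729 * (2 * N) ^ 3 := by ring
        _ ≤ 729 * ((k * (t * τ)) ^ 2) ^ 3 := Nat.mul_le_mul_left _ (Nat.pow_le_pow_left h1 3)
        _ = (k * t) ^ 6 * (27 * τ ^ 3) ^ 2 := by ring
        _ ≤ _ := Nat.mul_le_mul_left _ (Nat.pow_le_pow_left h3 2)) (by positivity)
    have h5 : 5832 * (2 ^ m) ^ 2 * t ^ 6 ≤ (2 ^ (a + 1)) ^ 6 * t ^ 6 :=
      calc 5832 * (2 ^ m) ^ 2 * t ^ 6 = 5832 * (2 ^ m * t ^ 3) ^ 2 := by ring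
        _ ≤ 5832 * (2 ^ t * m ^ 3) ^ 2 := Nat.mul_le_mul_left _ (Nat.pow_le_pow_left h2 2)
        _ = 5832 * 4 ^ t * m ^ 6 := by
          rw [mul_pow, ← pow_mul, mul_comm t, pow_mul]; ring
        _ ≤ 5832 * N * m ^ 6 := Nat.mul_le_mul_right _ (Nat.mul_le_mul_left _ h)
        _ ≤ (k * t) ^ 6 * m ^ 6 := Nat.mul_le_mul_right _ h4
        _ = (m * k) ^ 6 * t ^ 6 := by ring
        _ ≤ _ := Nat.mul_le_mul_right _ (Nat.pow_le_pow_left hk 6)
    have h6 := Nat.le_of_mul_le_mul_right h5 (by positivity)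
    rw [show (2 ^ (a + 1)) ^ 6 = 64 * (2 ^ m) ^ 2 by rw [hm]; ring] at h6
    have : 0 < (2 ^ m) ^ 2 := by positivity
    omega

theorem le_choose (n : ℕ) {r : ℕ} (h : 1 ≤ r) : n + 1 + r ≤ (n + 1 + r).choose r := by
  induction r, h using Nat.le_induction with
  | base => rw [Nat.choose_one_right]
  | succ r h ih =>
    have h1 : (n + 1 + r + 1).choose (r + 1) = _ := Nat.choose_succ_succ' _ _
    have := Nat.choose_pos (show r + 1 ≤ n + 1 + r by omega)
    rw [← add_assoc]
    omega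

end num

theorem index_inf_le_aux {G : Type*} [Group G] (L C : Subgroup G) :
    (L ⊓ C).index = L.relIndex C * C.index := by
  rw [← relIndex_mul_index (inf_le_right : L ⊓ C ≤ C), inf_relIndex_right]

section com

variable {G V : Type*} [Group G] [AddCommGroup V] [DistribMulAction G V]

/-- `B` acts commutatively on `U` -/
def Com (B : Subgroup G) (U : AddSubgroup V) : Prop :=
  ∀ a ∈ B, ∀ b ∈ B, ∀ v ∈ U, a • b • v = b • a • v

theorem com_blocks (hirr : IrrOn (⊤ : Subgroup G) (⊤ : AddSubgroup V)) {X : AddSubgroup V}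
    (hX : X ≠ ⊥) {B B' : Subgroup G} (h : Com B' X)
    (hB : ∀ q : G ⧸ MulAction.stabilizer G X, ∀ a ∈ B, q.out⁻¹ * a * q.out ∈ B') :
    Com B (⊤ : AddSubgroup V) := fun a ha b hb v hv => by
  rw [← sup_orbit hirr hX] at hv
  induction hv using AddSubgroup.iSup_induction' with
  | hp k v hv =>
    obtain ⟨l, hl⟩ := QuotientGroup.mk_out_eq_mul (MulAction.stabilizer G X) k
    have h1 : (k : G ⧸ MulAction.stabilizer G X).out⁻¹ • v ∈ X := by
      rw [hl, mul_inv_rev, mul_smul]
      exact invOn_stab X _ (inv_mem l.2) _ (mem_smul.1 hv)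
    have := h _ (hB k a ha) _ (hB k b hb) _ h1
    simpa only [mul_smul, smul_inv_smul, smul_left_cancel_iff] using this
  | h1 => simp only [smul_zero]
  | hadd x y _ _ hx hy => simp only [smul_add, hx, hy]

/-- the conclusion of the Jordan-type theorem -/
def Jd (p : ℕ) (V : Type*) [AddCommGroup V] [DistribMulAction G V] (C : Subgroup G) : Prop :=
  p ≤ ob G V - 1 ∨ ∃ B ≤ C, Com B (⊤ : AddSubgroup V) ∧ 27 * B.relIndex C ^ 3 ≤ Nat.card V ∧
    2 ^ C.index ≤ Nat.card V ∧ (Com C (⊤ : AddSubgroup V) ∨ 4 ^ C.index ≤ Nat.card V)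

end com

theorem jd_qp {G V K Q : Type*} [Group G] [Finite G] [AddCommGroup V] [Finite V] [Nontrivial V]
    [DistribMulAction G V] [FaithfulSMul G V] [Field K] [Finite K] [Module K V] [CommGroup Q]
    [Finite Q] {A M : Subgroup G} {σ : G →* RingAut K} {φ : G →* MulAut Q} {β : Q →* Q →* Kˣ}
    {π : M →* Q} (h : QP V A M σ φ β π) [IsMulCommutative A] {P : Subgroup G} (hPA : P ≤ A)
    (hp : 4096 ≤ Nat.card P) (hB : Nat.card Q ≠ 1 →
      25 * Nat.card ((centralizer (A : Set G)).map φ) ^ 2 ≤ Nat.card Q ^ 5) :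
    Jd (Nat.card P) V (centralizer (P : Set G)) := by
  obtain ⟨e, he⟩ := h.sy.exists_sq
  obtain ⟨k, h1, h3⟩ := h.fs.exists_pow_index
  have hn := Module.natCard_eq_pow_finrank (K := K) (V := V)
  have h8 := (Nat.pow_le_pow_right Nat.card_pos (h.le_rank he)).trans hn.ge
  have e0 : e ≠ 0 := by rintro rfl; exact Nat.card_pos.ne' he
  set C := centralizer (P : Set G)
  have hAC : centralizer (A : Set G) ≤ C := centralizer_le hPA
  have h4 : A.relIndex (centralizer (A : Set G)) =
      Nat.card ((centralizer (A : Set G)).map φ) * e ^ 2 :=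
    Nat.eq_of_mul_eq_mul_left (Nat.card_pos (α := A)) (by
      rw [CF.Solv.card_mul_relIndex (le_centralizer A), h.card_cent he]; ring)
  have h5 := relIndex_mul_index hAC
  have hc : e = 1 ∧ Nat.card ((centralizer (A : Set G)).map φ) = 1 ∨
      e ≠ 1 ∧ 5 * Nat.card ((centralizer (A : Set G)).map φ) ≤ e ^ 5 := by
    by_cases e1 : e = 1
    · have := (Nat.card_eq_one_iff_unique.1 (he.trans (by rw [e1]; rfl))).1
      exact Or.inl ⟨e1, Nat.le_antisymm (Finite.card_le_one_iff_subsingleton.2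
        ⟨fun _ _ => Subtype.ext (MulEquiv.ext fun _ => Subsingleton.elim _ _)⟩) Nat.card_pos⟩
    · have h9 := h.le_div he (hB fun e' => e1
        (Nat.pow_eq_one.1 (he.symm.trans e') |>.resolve_right two_ne_zero))
      exact Or.inr ⟨e1, by omega⟩
  have h6 : Nat.card P ^ (centralizer (A : Set G)).relIndex C ≤ Nat.card K := by
    rw [card_eq_pow_of_ringAut (C.map σ), ← relIndex_ker, h.fs.ker]
    refine Nat.pow_le_pow_left ?_ _
    choose s hs using fun a : P => h.fs.scal a.1 (hPA a.2)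
    obtain ⟨v, hv⟩ := exists_ne (0 : V)
    refine Nat.card_le_card_of_injective (fun a => ⟨s a, ?_⟩) fun a b e => Subtype.ext
      (eq_of_smul_eq_smul (α := V) fun w => by rw [hs, hs, show s a = s b from congrArg Subtype.val e])
    rintro _ ⟨c, hc, rfl⟩
    refine smul_left_injective K ((smul_ne_zero_iff_ne c).2 hv) ?_
    change σ c (s a) • c • v = s a • c • v
    rw [← h.fs.semi, ← hs, ← hs, smul_smul, smul_smul, hc a a.2]
  have h7 : 2 ^ (centralizer (A : Set G)).index ≤ Nat.card K := h3 ▸ Nat.pow_le_pow_left h1 _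
  have h9 : Nat.card K ≤ Nat.card V := (Nat.le_self_pow e0 _).trans h8
  have f0 : (centralizer (A : Set G)).relIndex C ≠ 0 := index_ne_zero_of_finite
  have hA : Com A (⊤ : AddSubgroup V) := fun a ha b hb v _ => by
    rw [smul_smul, smul_smul, le_centralizer A ha b hb]
  refine Or.inr ⟨A, (le_centralizer A).trans hAC, hA, ?_, ?_, ?_⟩
  · rw [← relIndex_mul_relIndex _ _ _ (le_centralizer A) hAC, h4, mul_comm (_ * _)]
    exact num_qp hp e0 f0 (hc.imp_right (·.2)) ((Nat.pow_le_pow_left h6 e).trans h8)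
  · exact (Nat.pow_le_pow_right (by norm_num) (h5 ▸ Nat.le_mul_of_pos_left _
      (Nat.pos_of_ne_zero f0))).trans (h7.trans h9)
  · rcases hc with ⟨rfl, hc⟩ | ⟨e1, -⟩
    · by_cases f1 : (centralizer (A : Set G)).relIndex C = 1
      · rw [hc, one_pow, mul_one, relIndex_eq_one] at h4
        exact Or.inl fun a ha b hb => hA a (h4 (relIndex_eq_one.1 f1 ha)) b (h4 (relIndex_eq_one.1 f1 hb))
      · refine Or.inr (le_trans ?_ (h7.trans h9))
        rw [show 4 = 2 ^ 2 by norm_num, ← pow_mul, ← h5]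
        exact Nat.pow_le_pow_right (by norm_num) (Nat.mul_le_mul_right _ (by omega))
    · refine Or.inr (le_trans ?_ ((Nat.pow_le_pow_right Nat.card_pos (show 2 ≤ e by omega)).trans h8))
      refine le_trans ?_ (Nat.pow_le_pow_left h7 2)
      rw [← pow_mul, mul_comm, pow_mul]
      exact Nat.pow_le_pow_right (by norm_num) (h5 ▸ Nat.le_mul_of_pos_left _ (Nat.pos_of_ne_zero f0))

theorem cent_comap {G R : Type*} [Group G] [Group R] (f : G →* R) {P : Subgroup G} [hP : P.Normal]
    (h : ∀ x ∈ P, f x = 1 → x = 1) :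
    (centralizer (P.map f : Set R)).comap f = centralizer (P : Set G) := by
  refine le_antisymm (fun g hg x hx => ?_) ?_
  · have h1 : f x * f g = f g * f x := hg _ ⟨x, hx, rfl⟩
    have := h _ (P.mul_mem (P.inv_mem hx) (hP.conj_mem x hx g)) (by
      rw [map_mul, map_mul, map_mul, ← h1, map_inv, map_inv]; group)
    rw [inv_mul_eq_one, eq_mul_inv_iff_mul_eq] at this
    exact this
  · rintro g hg _ ⟨x, hx, rfl⟩
    rw [← map_mul, ← map_mul, hg x hx]

theorem jd_irr {p : ℕ} (hp : p.Prime) (h4 : 4096 ≤ p) (n : ℕ) :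
    ∀ (G V : Type u) [Group G] [Finite G] [AddCommGroup V] [Finite V] [Nontrivial V]
      [DistribMulAction G V], Group.IsSolvable G → IrrOn (⊤ : Subgroup G) (⊤ : AddSubgroup V) →
      ∀ P : Subgroup G, P.Normal → Nat.card P = p →
      (∀ x ∈ P, ∀ v : V, v ≠ 0 → x • v = v → x = 1) → Nat.card V = n →
      Jd p V (centralizer (P : Set G)) := by
  induction n using Nat.strong_induction_on with | h n ih =>
  suffices key : ∀ (G V : Type u) [Group G] [Finite G] [AddCommGroup V] [Finite V] [Nontrivial V]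
      [DistribMulAction G V] [FaithfulSMul G V], Group.IsSolvable G →
      IrrOn (⊤ : Subgroup G) (⊤ : AddSubgroup V) → ∀ P : Subgroup G, P.Normal → Nat.card P = p →
      (∀ x ∈ P, ∀ v : V, v ≠ 0 → x • v = v → x = 1) → Nat.card V = n →
      Jd p V (centralizer (P : Set G)) by
    intro G V _ _ _ _ _ _ _ hirr P _ hP hf hn
    letI := rangeAct G V
    haveI : FaithfulSMul (MulAction.toPermHom G V).range V := ⟨fun h => Subtype.ext (Equiv.ext h)⟩
    let f := (MulAction.toPermHom G V).rangeRestrict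
    have hs : Function.Surjective f := MonoidHom.rangeRestrict_surjective _
    obtain ⟨v, hv⟩ := exists_ne (0 : V)
    have hi : ∀ x ∈ P, f x = 1 → x = 1 := fun x hx e =>
      hf x hx v hv (DFunLike.congr_fun (congrArg Subtype.val e) v)
    have h1 := key (MulAction.toPermHom G V).range V (Group.isSolvable_of_surjective hs)
      (fun X hX hi => hirr X hX fun g _ v hv => hi ⟨_, g, rfl⟩ trivial v hv) (P.map f)
      (Normal.map inferInstance f hs) (by
        rw [← relIndex_ker, ← hP, relIndex, (subgroupOf_eq_bot (H := f.ker) (K := P)).2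
          (disjoint_iff_inf_le.2 fun x hx => hi x hx.2 hx.1), index_bot])
      (by rintro _ ⟨x, hx, rfl⟩ w hw e; rw [hf x hx w hw e, map_one]) hn
    rw [← cent_comap f hi]
    refine h1.imp (fun h => ob_range (G := G) (V := V) ▸ h) ?_
    rintro ⟨B, b1, b2, b3, b4, b5⟩
    refine ⟨B.comap f, comap_mono b1, fun a ha b hb => b2 _ ha _ hb, ?_, ?_, ?_⟩
    · rwa [relIndex_comap, map_comap_eq_self_of_surjective hs]
    · rwa [index_comap_of_surjective _ hs]
    · rw [index_comap_of_surjective _ hs]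
      exact b5.imp_left fun h a ha b hb => h _ ha _ hb
  intro G V _ _ _ _ _ _ _ _ hirr P _ hP hf hn
  subst hn
  have := Fact.mk hp
  have := isCyclic_of_prime_card hP
  obtain ⟨A, hA1, hA2, hPA, hA3⟩ := CF.Solv.exists_maximal_abelian_normal_ge P
  obtain ⟨M, hM⟩ := exists_AM A fun B h1 h2 h3 => (hA3 B h1 h2 h3).le
  rcases fs_or_imp hirr A hA2 with ⟨K, _, _, _, σ, h⟩ | ⟨W, hW⟩
  · obtain ⟨Q, _, φ, β, π, h⟩ := exists_QP h hM
    have : Finite Q := Finite.of_surjective π h.surj
    exact hP ▸ jd_qp h hPA (hP ▸ h4) (h.bound (p_sol _).2)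
  obtain ⟨L, hL, h1⟩ := (eq_top_or_exists_le_coatom (MulAction.stabilizer G W)).resolve_left
    fun e => (hirr W le_top (e ▸ invOn_stab W)).elim hW.ne_bot hW.ne_top
  obtain ⟨X, hX, rfl⟩ := exists_coarse hW hirr hL h1
  let L := MulAction.stabilizer G X
  letI : DistribMulAction L X := subAct (invOn_stab (G := G) X)
  have h3 := choose_le_ob hX (fun ω : Quotient (MulAction.orbitRel (MulAction.stabilizer G X) X) =>
    ω.out.1) (fun ω => ω.out.2) fun i j n hn e => by
      rw [← i.out_eq, ← j.out_eq]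
      exact (Quotient.sound (MulAction.orbitRel_apply.2 ⟨⟨n, hn⟩, Subtype.ext e⟩)).symm
  have h5 := one_lt_index_of_ne_top hL.1
  have h6 := (X.one_lt_card_iff_ne_bot).2 hX.ne_bot
  have h7 := card_le_ob (G := MulAction.stabilizer G X) (V := X)
  obtain ⟨o, ho⟩ : ∃ o, ob (MulAction.stabilizer G X) X = o + 2 := Nat.exists_eq_add_of_le'
    (not_lt.1 fun e => by
      rw [Nat.sub_eq_zero_of_le (Nat.le_of_lt_succ e), zero_mul] at h7; exact h6.not_ge h7)
  rw [show Nat.card _ = _ from ho, show ∀ t, o + 2 + t - 1 = o + 1 + t by omega] at h3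
  let r := L.index
  have hr : r = L.index := rfl
  have h8 : o + 1 + r ≤ ob G V := (le_choose o h5.le).trans h3
  by_cases hPL : P ≤ L
  swap
  · have h9 := (CF.Solv.le_or_inf_eq_bot_of_card_prime (hP ▸ hp) L).resolve_left hPL
    have h10 : L.relIndex P ≤ r := by
      rw [hr, ← relIndex_top_right]
      exact relIndex_le_of_le_right le_top index_ne_zero_of_finite
    rw [relIndex, subgroupOf_eq_bot.2 (disjoint_iff.2 (inf_comm L P ▸ h9)), index_bot, hP] at h10
    exact Or.inl (by omega)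
  have := Finite.one_lt_card_iff_nontrivial.1 h6
  have h9 := ih _ hX.card_lt L X inferInstance (fun Y _ hY => ((hX.irr hirr) (Y.map X.subtype)
    (AddSubgroup.map_subtype_le Y) (by
      rintro g hg _ ⟨v, hv, rfl⟩; exact ⟨_, hY ⟨g, hg⟩ trivial v hv, rfl⟩)).imp
    (AddSubgroup.map_eq_bot_iff_of_injective _ X.subtype_injective).1 fun e =>
      eq_top_iff.2 fun x _ => by
        obtain ⟨y, hy, e⟩ := e.ge x.2
        exact (Subtype.ext e : y = x) ▸ hy) (P.subgroupOf L) inferInstance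
    ((Nat.card_congr (subgroupOfEquivOfLe hPL).toEquiv).trans hP)
    (fun x hx v hv e => Subtype.ext (hf x hx v (fun e => hv (Subtype.ext e))
      (congrArg Subtype.val e))) rfl
  set C := centralizer (P : Set G) with hC
  have h10 : centralizer (P.subgroupOf L : Set L) = C.subgroupOf L :=
    Subgroup.ext fun x => ⟨fun hx u hu => congrArg Subtype.val (hx ⟨u, hPL hu⟩ hu),
      fun hx u hu => Subtype.ext (hx u.1 hu)⟩
  rw [h10] at h9
  rcases h9 with h9 | ⟨B, b1, b2, b3, b4, b5⟩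
  · rw [show ob L X = o + 2 from ho] at h9
    have : 1 < r := h5
    exact Or.inl (by omega)
  have hcom : ∀ {D : Subgroup L}, Com D (⊤ : AddSubgroup X) → Com (D.map L.subtype) X := by
    rintro D h _ ⟨a, ha, rfl⟩ _ ⟨b, hb, rfl⟩ v hv
    exact congrArg Subtype.val (h a ha b hb ⟨v, hv⟩ trivial)
  have hpow : ∀ {x : ℕ}, x ≤ Nat.card X → x ^ r ≤ Nat.card V := fun h =>
    (Nat.pow_le_pow_left h r).trans hX.pow_le
  have h11 : L.relIndex C * C.index = (C.subgroupOf L).index * r := by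
    rw [← index_inf_le_aux L C, inf_comm, index_inf_le_aux]; rfl
  have l0 : L.relIndex C ≠ 0 := index_ne_zero_of_finite
  have h12 : C.index ≤ (C.subgroupOf L).index * r :=
    h11 ▸ Nat.le_mul_of_pos_left _ (Nat.pos_of_ne_zero l0)
  haveI := Fintype.ofFinite (G ⧸ L)
  let D := C ⊓ L.normalCore
  let B' := B.map L.subtype
  refine Or.inr ⟨D ⊓ ⨅ q : G ⧸ L, B'.comap (MulAut.conj q.out⁻¹).toMonoidHom,
    inf_le_left.trans inf_le_left, com_blocks hirr hX.ne_bot (hcom b2) fun q a ha => by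
      have := mem_iInf.1 ha.2 q
      rwa [mem_comap, MulEquiv.coe_toMonoidHom, MulAut.conj_apply, inv_inv] at this, ?_, ?_, ?_⟩
  · have c1 : D.relIndex C ≤ 3 ^ (r - 1) := by
      rw [inf_relIndex_left]
      refine le_trans ?_ (index_core_le hL)
      rw [← relIndex_top_right]
      exact relIndex_le_of_le_right le_top index_ne_zero_of_finite
    have c2 : (⨅ q : G ⧸ L, B'.comap (MulAut.conj q.out⁻¹).toMonoidHom).relIndex D ≤
        B.relIndex (C.subgroupOf L) ^ r := by
      refine (relIndex_iInf_le _).trans ?_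
      rw [hr, index, Nat.card_eq_fintype_card, ← Finset.card_univ, ← Finset.prod_const]
      refine Finset.prod_le_prod' fun q _ => ?_
      rw [relIndex_comap, ← relIndex_map_map_of_injective B _ L.subtype_injective]
      refine relIndex_le_of_le_right ?_ index_ne_zero_of_finite
      rintro _ ⟨x, hx, rfl⟩
      have := (inferInstance : D.Normal).conj_mem x hx q.out⁻¹
      exact ⟨⟨_, normalCore_le L this.2⟩, this.1, rfl⟩
    rw [← relIndex_mul_relIndex _ D C inf_le_left inf_le_left, inf_relIndex_left]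
    refine le_trans ?_ (hpow b3)
    obtain ⟨s, hs⟩ : ∃ s, r = s + 1 := ⟨r - 1, (Nat.sub_add_cancel h5.le).symm⟩
    rw [hs, Nat.add_sub_cancel] at c1
    rw [hs] at c2 ⊢
    calc _ ≤ 27 * (B.relIndex (C.subgroupOf L) ^ (s + 1) * 3 ^ s) ^ 3 :=
          Nat.mul_le_mul_left _ (Nat.pow_le_pow_left (Nat.mul_le_mul c2 c1) 3)
      _ = _ := by
          rw [mul_pow, mul_pow, ← pow_mul, ← pow_mul, ← pow_mul, mul_comm s 3, pow_mul 3, pow_succ 27]
          ring
  · exact (Nat.pow_le_pow_right (by norm_num) h12).trans (pow_mul 2 _ r ▸ hpow b4)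
  · rcases b5 with b5 | b5
    · by_cases hCL : C ≤ L
      · exact Or.inl (com_blocks hirr hX.ne_bot (hcom b5) fun q a ha => by
          have := (inferInstance : C.Normal).conj_mem' a ha q.out
          exact ⟨⟨_, hCL this⟩, this, rfl⟩)
      · refine Or.inr (le_trans ?_ (pow_mul 2 _ r ▸ hpow b4))
        have := mt relIndex_eq_one.1 hCL
        rw [show 4 = 2 ^ 2 by norm_num, ← pow_mul, ← h11]
        exact Nat.pow_le_pow_right (by norm_num) (Nat.mul_le_mul_right _ (by omega))
    · exact Or.inr ((Nat.pow_le_pow_right (by norm_num) h12).trans (pow_mul 4 _ r ▸ hpow b5))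

theorem kc_of_comm {G : Type*} [Group G] [Finite G] (h : ∀ a b : G, a * b = b * a) :
    Nat.card G ≤ kc G := by
  have := card_le_kc (G := G) (A := ⊤) (C := ⊤) fun x _ y _ => h y x
  rwa [card_top, index_top, mul_one] at this

theorem kc_cent {R : Type*} [Group R] [Finite R] {p : ℕ} [Fact p.Prime] (P : Subgroup R)
    [P.Normal] (hP : Nat.card P = p) : ∃ s, (centralizer (P : Set R)).index + s ≤ kc R ∧
      p ≤ 1 + s * (centralizer (P : Set R)).index := by
  have := isCyclic_of_prime_card hP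
  letI : CommGroup P := { mul_comm := mul_comm' }
  letI := mulAct (MulAut.conjNormal (H := P))
  have hk : (MulAction.toPermHom R (Additive P)).ker = centralizer (P : Set R) := by
    ext g
    refine ⟨fun hg x hx => ?_, fun hg => Equiv.ext fun v => Subtype.ext ?_⟩
    · have : g * x * g⁻¹ = x :=
        congrArg Subtype.val (DFunLike.congr_fun hg (Additive.ofMul (⟨x, hx⟩ : P)) :)
      rw [← mul_inv_eq_iff_eq_mul.1 this]
    · exact mul_inv_eq_iff_eq_mul.2 (hg _ v.toMul.2).symm
  have h1 := kc_add_ob (centralizer (P : Set R)) (V := Additive P) (fun v => v.toMul.1)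
    (fun v => le_centralizer P v.toMul.2) fun _ _ _ e => Subtype.ext e
  have h2 : (centralizer (P : Set R)).index ≤ kc (R ⧸ centralizer (P : Set R)) :=
    kc_of_comm fun a b => by
      obtain ⟨a, rfl⟩ := QuotientGroup.mk_surjective a
      obtain ⟨b, rfl⟩ := QuotientGroup.mk_surjective b
      refine QuotientGroup.eq.2 (hk.le (Equiv.ext fun v => ?_))
      have := (IsCyclic.mulAutMulEquiv P).injective (a₁ := MulAut.conjNormal (a * b))
        (a₂ := MulAut.conjNormal (b * a)) (by simp only [map_mul]; exact mul_comm _ _)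
      change Additive.ofMul (MulAut.conjNormal ((a * b)⁻¹ * (b * a)) v.toMul) = v
      rw [map_mul, map_inv, this, inv_mul_cancel]; rfl
  letI := rangeAct R (Additive P)
  have h3 := card_le_ob (G := (MulAction.toPermHom R (Additive P)).range) (V := Additive P)
  rw [ob_range, ← index_ker, hk] at h3
  have h4 : 0 < ob R (Additive P) := Nat.card_pos_iff.2 ⟨⟨⟦0⟧⟩, inferInstance⟩
  exact ⟨ob R (Additive P) - 1, by omega, hP ▸ h3⟩

theorem log_bound {R V : Type u} [Group R] [Finite R] [AddCommGroup V] [Finite V] [Nontrivial V]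
    [DistribMulAction R V] [FaithfulSMul R V] [Group.IsSolvable R]
    (hirr : IrrOn (⊤ : Subgroup R) (⊤ : AddSubgroup V)) {p : ℕ} [hp : Fact p.Prime]
    (P : Subgroup R) [P.Normal] (hP : Nat.card P = p) :
    p ≤ 3 * Nat.log 2 p * (kc R + (ob R V - 1)) := by
  by_contra hc
  obtain ⟨s, h1, h2⟩ := kc_cent P hP
  set a := Nat.log 2 p with ha
  set t := (centralizer (P : Set R)).index
  set k := kc R + (ob R V - 1) with hk
  have p2 := hp.out.two_le
  have a1 : 1 ≤ a := Nat.log_pos (by norm_num) p2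
  have a2 : p < 2 ^ (a + 1) := Nat.lt_pow_succ_log_self (by norm_num) p
  have a3 : 2 ^ a ≤ p := Nat.pow_log_le_self 2 (by omega)
  have t0 : 1 ≤ t := Nat.pos_of_ne_zero index_ne_zero_of_finite
  have h3 : 3 * a * (t + s) < p := lt_of_le_of_lt (Nat.mul_le_mul_left _ (by omega)) (not_le.1 hc)
  have h4 : 3 * a ≤ t := by
    by_contra h
    nlinarith [Nat.mul_le_mul_right s (not_le.1 h).le]
  have h5 : 4096 ≤ p := by
    by_contra h
    have a4 : a ≤ 11 := by
      by_contra h'
      exact h ((Nat.pow_le_pow_right (by norm_num) (show 12 ≤ a by omega)).trans a3)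
    have a5 : p + 2 ≤ 36 * a ^ 2 := by interval_cases a <;> omega
    have a6 : 4 * (s * t) ≤ (t + s) ^ 2 := by nlinarith [sq_nonneg ((t : ℤ) - s)]
    have a7 := Nat.pow_lt_pow_left h3 two_ne_zero
    obtain ⟨q, rfl⟩ : ∃ q, p = q + 1 := ⟨p - 1, by omega⟩
    have a8 : (q + 1 + 2) * q ≤ 36 * a ^ 2 * (s * t) := Nat.mul_le_mul a5 (by omega)
    nlinarith
  have hf : ∀ x ∈ P, ∀ v : V, v ≠ 0 → x • v = v → x = 1 := fun x hx v hv e => by
    by_contra h
    have hz : zpowers x = P := eq_of_le_of_card_ge (zpowers_le.2 hx) (by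
      rw [hP, Nat.card_zpowers, ← orderOf_mk x hx, orderOf_eq_prime (p := p)
        (by rw [← hP]; exact pow_card_eq_one') fun e => h (congrArg Subtype.val e)])
    let F : AddSubgroup V :=
      { carrier := {w | ∀ y ∈ P, y • w = w}
        add_mem' := fun h1 h2 y hy => by rw [smul_add, h1 y hy, h2 y hy]
        zero_mem' := fun y _ => smul_zero y
        neg_mem' := fun h1 y hy => by rw [smul_neg, h1 y hy] }
    rcases hirr F le_top (fun g _ w hw y hy => by
      have := hw _ (‹P.Normal›.conj_mem' y hy g)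
      rwa [mul_smul, mul_smul, inv_smul_eq_iff] at this) with h6 | h6
    · exact hv (h6.le (show ∀ y ∈ P, y • v = v from hz ▸ fun y hy =>
        (zpowers_le.2 (MulAction.mem_stabilizer_iff.2 e) : zpowers x ≤ _) hy))
    · exact h (eq_of_smul_eq_smul (α := V) fun w => by rw [one_smul]; exact h6.ge trivial x hx)
  rcases jd_irr hp.out h5 _ R V inferInstance hirr P inferInstance hP hf rfl with h6 |
    ⟨B, b1, b2, b3, b4, b5⟩
  · exact hc (h6.trans (by nlinarith))
  have key : ∀ B ≤ centralizer (P : Set R), Com B (⊤ : AddSubgroup V) →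
      2 * Nat.card V ≤ (k * (t * B.relIndex (centralizer (P : Set R)))) ^ 2 := fun B b1 b2 => by
    have h6 := card_le_kc_ob (V := V) (A := B) (C := B) fun x hx y hy =>
      eq_of_smul_eq_smul (α := V) fun v => by rw [mul_smul, mul_smul, b2 y hy x hx v trivial]
    rw [← relIndex_mul_index b1] at h6
    have h7 : 4 * (kc R * (ob R V - 1)) ≤ k ^ 2 := by
      rw [hk]; nlinarith [sq_nonneg ((kc R : ℤ) - (ob R V - 1 : ℕ))]
    have h8 : 2 ≤ Nat.card V := Finite.one_lt_card
    have h9 := Nat.mul_le_mul_right ((B.relIndex (centralizer (P : Set R)) * t) ^ 2) h7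
    rw [mul_pow, mul_comm t]
    nlinarith
  have a4 : 2 ≤ a := by
    by_contra h
    have : a = 1 := by omega
    rw [this] at a2
    omega
  have a5 : 3 * a * k ≤ 2 ^ (a + 1) := by omega
  rcases b5 with b5 | b5
  · exact num_fin a4 a5 h4 (Or.inl ⟨relIndex_self _, b4⟩) (key _ le_rfl b5)
  · exact num_fin a4 a5 h4 (Or.inr ⟨b5, b3⟩) (key B b1 b2)

theorem le_log_mul {p : ℕ} [hp : Fact p.Prime] {G : Type u} [Group G] [Finite G]
    [Group.IsSolvable G] (h : p ∣ (fittingSubgroup G).index) : p ≤ 3 * Nat.log 2 p * kc G := by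
  induction hn : Nat.card G using Nat.strong_induction_on generalizing G with
  | _ n ih =>
  subst hn
  have a1 : 1 ≤ Nat.log 2 p := Nat.log_pos (by norm_num) hp.out.two_le
  by_cases h2 : p ^ 2 ∣ Nat.card G
  · have := hk hp.out _ G rfl h2
    nlinarith
  have hF : ¬ p ∣ Nat.card (fittingSubgroup G) := fun e => h2 (by
    rw [sq, ← (fittingSubgroup G).card_mul_index]; exact mul_dvd_mul e h)
  have : Nontrivial G := Finite.one_lt_card_iff_nontrivial.1
    (hp.out.one_lt.trans_le (Nat.le_of_dvd Nat.card_pos (h.trans (index_dvd_card _))))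
  obtain ⟨N, hN⟩ := CF.Solv.exists_isMinNormal (G := G)
  have := hN.1
  have := hN.isMulCommutative
  by_cases h3 : p ∣ (fittingSubgroup (G ⧸ N)).index
  · exact (ih _ (by
      rw [card_eq_card_quotient_mul_card_subgroup N]
      exact lt_mul_of_one_lt_right Nat.card_pos (N.one_lt_card_iff_ne_bot.2 hN.2.1)) h3 rfl).trans
      (Nat.mul_le_mul_left _ (kc_le_of_surj _ (QuotientGroup.mk'_surjective N)))
  have := CF.Solv.isNilpotent_of_isMulCommutative N
  have hNF : N ≤ fittingSubgroup G := CF.Solv.le_fitting N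
  have h4 : p ∣ Nat.card (fittingSubgroup (G ⧸ N)) :=
    (hp.out.dvd_mul.1 ((h.trans (index_dvd_of_le hNF)).trans
      (fittingSubgroup (G ⧸ N)).card_mul_index.symm.dvd)).resolve_right h3
  have h5 : Nat.card (pCore p (G ⧸ N)) = p := by
    obtain ⟨S⟩ : Nonempty (Sylow p (fittingSubgroup (G ⧸ N))) := inferInstance
    rw [← CF.Solv.map_sylow_fitting S, card_map_of_injective (subtype_injective _),
      S.card_eq_multiplicity]
    have c1 := (hp.out.pow_dvd_iff_le_factorization Nat.card_pos.ne').1 ((pow_one p).dvd.trans h4)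
    have c2 := mt (hp.out.pow_dvd_iff_le_factorization Nat.card_pos.ne').2 fun e =>
      h2 (e.trans ((card_subgroup_dvd_card (fittingSubgroup (G ⧸ N))).trans
        (card_quotient_dvd_card N)))
    rw [show (Nat.card (fittingSubgroup (G ⧸ N))).factorization p = 1 by omega, pow_one]
  letI : CommGroup N := { mul_comm := mul_comm' }
  letI := mulAct (MulAut.conjNormal (H := N))
  letI := rangeAct G (Additive N)
  haveI : FaithfulSMul (MulAction.toPermHom G (Additive N)).range (Additive N) :=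
    ⟨fun h => Subtype.ext (Equiv.ext h)⟩
  let f := QuotientGroup.lift N (MulAction.toPermHom G (Additive N)).rangeRestrict
    fun n hn => Subtype.ext (Equiv.ext fun v => Subtype.ext (mul_inv_eq_iff_eq_mul.2
      (congrArg Subtype.val (mul_comm (⟨n, hn⟩ : N) v.toMul))))
  have hf : Function.Surjective f := QuotientGroup.lift_surjective_of_surjective N _
    (MonoidHom.rangeRestrict_surjective _) _
  have h6 := kc_add_ob N (V := Additive N) (fun v => v.toMul.1) (fun v => v.toMul.2)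
    fun _ _ _ e => Subtype.ext e
  have h7 := kc_le_of_surj f hf
  have h8 : 0 < ob G (Additive N) := Nat.card_pos_iff.2 ⟨⟨⟦0⟧⟩, inferInstance⟩
  have : Nontrivial (Additive N) := (N.nontrivial_iff_ne_bot.2 hN.2.1 :)
  have := Group.isSolvable_of_surjective hf
  have : ((pCore p (G ⧸ N)).map f).Normal := Normal.map inferInstance f hf
  have h9 := log_bound (V := Additive N) (p := p) (fun X _ hX => ?_) ((pCore p (G ⧸ N)).map f) ?_
  · rw [ob_range] at h9
    exact h9.trans (Nat.mul_le_mul_left _ (by omega))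
  · rcases hN.2.2 ((AddSubgroup.toSubgroup' X).map N.subtype) ⟨by
      rintro _ ⟨x, hx, rfl⟩ g
      exact ⟨_, hX ⟨_, g, rfl⟩ trivial x hx, rfl⟩⟩ (map_subtype_le _) with h3 | h3
    · exact Or.inl (eq_bot_iff.2 fun x hx => Subtype.ext (h3.le ⟨x.toMul, hx, rfl⟩))
    · exact Or.inr (eq_top_iff.2 fun x _ => by
        obtain ⟨y, hy, e⟩ := h3.ge x.toMul.2
        exact (Subtype.ext e : Additive.ofMul y = x) ▸ hy)
  · refine ((Nat.dvd_prime hp.out).1 ((card_map_dvd _ f).trans h5.dvd)).resolve_left fun e => hF ?_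
    have c0 := map_comap_eq_self_of_surjective (QuotientGroup.mk'_surjective N) (pCore p (G ⧸ N))
    have : Group.IsNilpotent
        (((pCore p (G ⧸ N)).comap (QuotientGroup.mk' N)).map (QuotientGroup.mk' N)) := by
      rw [c0]; exact (CF.Solv.pCore_isPGroup (p := p) (G := G ⧸ N)).isNilpotent
    have := CF.Solv.isNilpotent_of_map_of_inf_ker_le (f := QuotientGroup.mk' N)
      (K := (pCore p (G ⧸ N)).comap (QuotientGroup.mk' N)) (by
        rw [QuotientGroup.ker_mk']
        intro n hn y hy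
        have c1 : f y = 1 := (card_eq_one.1 e).le ⟨_, hy, rfl⟩
        exact mul_inv_eq_iff_eq_mul.1 (congrArg Subtype.val (DFunLike.congr_fun
          (congrArg Subtype.val c1) (Additive.ofMul (⟨n, hn.2⟩ : N)) :) :))
    refine Dvd.dvd.trans ?_ (card_dvd_of_le (CF.Solv.le_fitting
      ((pCore p (G ⧸ N)).comap (QuotientGroup.mk' N))))
    exact (h5.symm.trans (congrArg (fun H : Subgroup (G ⧸ N) => Nat.card H) c0.symm)).dvd.trans
      (card_map_dvd _ _)

end CF.Crit.Kr
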