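import Cfsg.Agent.Fgs2.BF2

/-!
# Lifting faithful representations of `p'`-groups to characteristic zero without raising the degree
-/

namespace CF.Crit.Tr

open Module MonoidAlgebra Cfsg CF.Fgs2
open CF.BlockB (eSet omega)
open scoped ComplexConjugate

universe u v

variable {G : Type*} [Group G] [Finite G]

theorem exists_char_aux {R : Subring ℂ} (hR : ∀ z : ℂ, IsIntegral ℤ z → z ∈ R)
    (hR' : (Nat.card G : ℂ)⁻¹ ∈ R) {K : Type*} [Field K] (φ : R →+* K)
    {W : Type*} [AddCommGroup W] [Module K W] [Module.Finite K W] (π : K[G] →ₐ[K] Module.End K W)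
    (hπ : ∀ g : G, π (single g 1) = 1 → g = 1) : ∃ θ : G → ℂ, IsCharacter G θ ∧
      (∀ g, θ g = θ 1 → g = 1) ∧ charDegree θ ≤ finrank K W := by
  classical
  have := Fintype.ofFinite G
  have hcK : (Nat.card G : K) ≠ 0 := by
    have h1 : (Nat.card G : R) * ⟨_, hR'⟩ = 1 := Subtype.ext (by
      simp [Nat.card_pos.ne'])
    have h2 := congrArg φ h1
    rw [map_mul, map_natCast, map_one] at h2
    exact left_ne_zero_of_mul_eq_one h2
  have hmem : ∀ (B : Set (IrrCharacter G)) (g : G), blockCoeff B g ∈ R := by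
    intro B g
    rw [BlockB.blockCoeff_eq]
    refine R.mul_mem hR' (R.sum_mem fun χ _ => R.mul_mem
      (hR _ (Char.char_isIntegral (Char.irr_isCharacter χ.2) _)) ?_)
    rw [← Char.irr_inv χ.2]
    exact hR _ (Char.char_isIntegral (Char.irr_isCharacter χ.2) _)
  let ι : R[G] →+* ℂ[G] := mapRingHom G R.subtype
  have hι : Function.Injective ι := MonoidAlgebra.map_injective _ R.subtype_injective
  let E : Set (IrrCharacter G) → R[G] := fun B => BlockB.ofFun fun g => ⟨_, hmem B g⟩
  have hE : ∀ B, ι (E B) = eSet B := fun B => by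
    ext g; simp [ι, E]
  let ψ : R[G] →+* K[G] := mapRingHom G φ
  let e : Set (IrrCharacter G) → K[G] := fun B => ψ (E B)
  have Emul : ∀ A B, E A * E B = E (A ∩ B) := fun A B => hι (by
    rw [map_mul, hE, hE, hE, BlockB.eSet_mul])
  have emul : ∀ A B, e A * e B = e (A ∩ B) := fun A B => by
    simp only [e]; rw [← map_mul, Emul]
  have esum : ∀ B : Set (IrrCharacter G), e B = ∑ χ with χ ∈ B, e {χ} := fun B => by
    simp only [e]
    rw [← map_sum]
    congr 1
    apply hι
    rw [map_sum, hE, BlockB.eq_sum_eSet_singleton (BlockB.eSet_mem_Z B), Finset.sum_filter]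
    refine Finset.sum_congr rfl fun χ _ => ?_
    rw [BlockB.omega_eSet, hE]
    split_ifs <;> simp
  have euniv : e Set.univ = 1 := by
    simp only [e]
    rw [← map_one ψ]
    congr 1
    apply hι
    rw [hE, BlockB.eSet_univ, map_one]
  have eZ : ∀ B, e B ∈ BlockB.Z K G := fun B => by
    rw [BlockB.mem_Z_iff]
    intro g h
    simp only [e, ψ, coeff_mapRingHom, E, BlockB.coeff_ofFun]
    congr 1
    exact Subtype.ext (BlockB.mem_Z_iff.1 (BlockB.eSet_mem_Z B) g h)
  have hav : ∀ (χ : IrrCharacter G) (a : K[G]), ∃ c : K, cavg a * e {χ} = c • e {χ} := by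
    intro χ a
    induction a using MonoidAlgebra.induction_on with
    | of g =>
      have h1 : IsIntegral ℤ (cavg (single g (1 : ℂ))) := by
        refine BlockB.isIntegral_of_coeff fun x => ?_
        rw [coeff_cavg]
        refine ⟨∑ h : G, if g = h⁻¹ * x * h then 1 else 0, ?_⟩
        simp [Finsupp.single_apply]
      have h2 := hR _ (BlockB.omega_isIntegral χ.2 (cavg_mem_Z _) h1)
      have h3 : cavg (single g (1 : R)) * E {χ} = (⟨_, h2⟩ : R) • E {χ} := by
        apply hι
        rw [Algebra.smul_def, map_mul, map_mul, hE, map_cavg]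
        simp only [ι, mapRingHom_single, map_one, coe_algebraMap, Algebra.algebraMap_self,
          RingHom.coe_id, Function.comp_apply, id_eq, Subring.subtype_apply]
        refine BlockB.Z_ext (Subalgebra.mul_mem _ (cavg_mem_Z _) (BlockB.eSet_mem_Z _))
          (Subalgebra.mul_mem _ (Subalgebra.algebraMap_mem _ _) (BlockB.eSet_mem_Z _)) fun ξ => ?_
        rw [BlockB.omega_mul_central ξ.2 (BlockB.eSet_mem_Z _),
          BlockB.omega_mul_central ξ.2 (BlockB.eSet_mem_Z _), BlockB.omega_eSet]
        split_ifs with h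
        · rw [Set.mem_singleton_iff.1 h, BlockB.omega_single, mul_div_assoc,
            div_self (Char.irr_one_ne_zero χ.2), mul_one, mul_one]
        · simp
      refine ⟨φ ⟨_, h2⟩, ?_⟩
      have h4 := congrArg ψ h3
      rw [Algebra.smul_def, map_mul, map_mul, map_cavg] at h4
      simp only [ψ, mapRingHom_single, map_one, coe_algebraMap, Algebra.algebraMap_self,
          RingHom.coe_id, Function.comp_apply, id_eq] at h4
      rw [Algebra.smul_def]
      exact h4
    | add a b ha hb =>
      obtain ⟨c, hc⟩ := ha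
      obtain ⟨d, hd⟩ := hb
      refine ⟨c + d, ?_⟩
      rw [add_smul, ← hc, ← hd, ← add_mul]
      congr 1
      simp [cavg, mul_add, add_mul, Finset.sum_add_distrib]
    | smul r a ha =>
      obtain ⟨c, hc⟩ := ha
      refine ⟨r * c, ?_⟩
      rw [mul_smul, ← hc, ← smul_mul_assoc]
      congr 1
      simp [cavg, Finset.smul_sum]
  obtain ⟨X, hXd⟩ : ∃ X : Set (IrrCharacter G), ∀ χ, χ ∈ X ↔ π (e {χ}) ≠ 0 :=
    ⟨{χ | π (e {χ}) ≠ 0}, fun _ => Iff.rfl⟩
  have hinj1 : ∀ χ ∈ X, ∀ a : K[G], e {χ} * a = a → π a = 0 → a = 0 := by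
    intro χ hχ a ha h0
    by_contra hne
    obtain ⟨g, hg⟩ : ∃ g, a.coeff g ≠ 0 := by
      by_contra hh
      push Not at hh
      exact hne (by ext g; simp [hh g])
    obtain ⟨c, hc⟩ := hav χ (a * single g⁻¹ 1)
    have h1 : cavg (a * single g⁻¹ 1) * e {χ} = cavg (a * single g⁻¹ 1) := by
      rw [cavg, Finset.sum_mul]
      refine Finset.sum_congr rfl fun h _ => ?_
      rw [BlockB.Z_comm (eZ _), ← mul_assoc, ← mul_assoc, ← BlockB.Z_comm (eZ _), mul_assoc _ (e _),
        ← mul_assoc (e _), ha]
    have h2 : π (cavg (a * single g⁻¹ 1)) = 0 := by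
      simp [cavg, h0]
    have h3 : (cavg (a * single g⁻¹ 1)).coeff 1 = Nat.card G * a.coeff g := by
      rw [coeff_cavg]
      simp
    rw [h1] at hc
    rw [hc, map_smul, smul_eq_zero] at h2
    rcases h2 with rfl | h2
    · rw [hc, zero_smul] at h3
      exact mul_ne_zero hcK hg h3.symm
    · exact (hXd χ).1 hχ h2
  have hX1 : π (e X) = 1 := by
    rw [← map_one π, ← euniv, esum, esum Set.univ, map_sum, map_sum, Finset.sum_filter,
      Finset.sum_filter]
    refine Finset.sum_congr rfl fun χ _ => ?_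
    by_cases h : χ ∈ X
    · simp [h]
    · have h' : π (e {χ}) = 0 := by simpa [hXd] using h
      simp [h, h']
  let θ : G → ℂ := ∑ χ with χ ∈ X, (χ : G → ℂ)
  have hθ : IsCharacter G θ := Char.char_sum _ fun χ _ => Char.irr_isCharacter χ.2
  refine ⟨θ, hθ, fun g hg => ?_, ?_⟩
  · have h0 : ∀ χ ∈ X, g ∈ Char.charKer (χ : G → ℂ) := fun χ hχ =>
      Char.charKer_le_of_inner_ne_zero hθ χ.2 (by
        simp [θ, Char.inner_sum_left, Char.inner_irr', hχ]) ((Char.mem_charKer_iff hθ).2 hg)
    have h1 : E X * single g (1 : R) = E X := by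
      apply hι
      rw [map_mul, hE]
      ext x
      simp only [ι, mapRingHom_single, map_one, coeff_mul_single_apply, mul_one,
        BlockB.coeff_eSet, BlockB.blockCoeff_eq]
      congr 1
      refine Finset.sum_congr rfl fun χ hχ => ?_
      rw [← Char.irr_inv χ.2, ← Char.irr_inv χ.2, mul_inv_rev, inv_inv,
        Char.mem_charKer.1 (h0 χ (by simpa using hχ))]
    have h2 := congrArg (fun a => π (ψ a)) h1
    simp only [map_mul, ψ, mapRingHom_single, map_one] at h2
    change π (e X) * _ = π (e X) at h2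
    rw [hX1, one_mul] at h2
    exact hπ g h2
  let U : X → Submodule K W := fun χ => LinearMap.range (π (e {χ.1}))
  have ee : ∀ χ ξ : IrrCharacter G, π (e {χ}) * π (e {ξ}) = if χ = ξ then π (e {χ}) else 0 :=
    fun χ ξ => by
    rw [← map_mul, emul]
    split_ifs with h
    · rw [h, Set.inter_self]
    · rw [show ({χ} : Set _) ∩ {ξ} = ∅ from Set.singleton_inter_eq_empty.2 h, esum]
      simp
  have h1 : ∀ χ : X, charDegree (χ.1 : G → ℂ) ≤ finrank K (U χ) := fun χ => by
    have h1 := finrank_ker_le R.subtype_injective φ (a := 1 - E {χ.1}) (by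
      rw [sub_mul, one_mul, mul_sub, mul_one, Emul, Set.inter_self, sub_self, sub_zero])
    let T : LinearMap.ker (LinearMap.mulLeft K (mapRingHom G φ (1 - E {χ.1}))) →ₗ[K]
        Module.End K (U χ) :=
      { toFun := fun a => (π (e {χ.1})).rangeRestrict ∘ₗ π a.1 ∘ₗ (U χ).subtype
        map_add' := fun a b => by ext; simp
        map_smul' := fun a b => by ext; simp }
    have h2 := LinearMap.finrank_le_finrank_of_injective (f := T) (by
      rw [← LinearMap.ker_eq_bot, eq_bot_iff]
      rintro ⟨a, ha⟩ h0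
      rw [LinearMap.mem_ker, LinearMap.mulLeft_apply, map_sub, map_one, sub_mul, one_mul,
        sub_eq_zero] at ha
      refine Subtype.ext (hinj1 χ.1 χ.2 a ha.symm (LinearMap.ext fun w => ?_))
      have h3 := congrArg Subtype.val (LinearMap.congr_fun h0 ⟨_, w, rfl⟩)
      have h4 : a = e {χ.1} * a * e {χ.1} := by
        rw [BlockB.Z_comm (eZ _), ← mul_assoc, emul, Set.inter_self]
        exact ha
      rw [h4, map_mul, map_mul]
      exact h3)
    have h3 : LinearMap.IsProj
        (LinearMap.ker (LinearMap.mulLeft ℂ (mapRingHom G R.subtype (1 - E {χ.1}))))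
        (LinearMap.mulLeft ℂ (eSet {χ.1})) := by
      change LinearMap.IsProj (LinearMap.ker (LinearMap.mulLeft ℂ (ι (1 - E {χ.1})))) _
      rw [map_sub, map_one, hE]
      constructor
      · intro x
        rw [LinearMap.mem_ker, LinearMap.mulLeft_apply, LinearMap.mulLeft_apply, ← mul_assoc,
          sub_mul, one_mul, BlockB.eSet_mul_self, sub_self, zero_mul]
      · intro x hx
        rw [LinearMap.mem_ker, LinearMap.mulLeft_apply, sub_mul, one_mul, sub_eq_zero] at hx
        exact hx.symm
    have h4 := h3.trace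
    rw [trace_mulLeft, BlockB.coeff_eSet, BlockB.blockCoeff_eq, ← mul_assoc,
      mul_inv_cancel₀ (Nat.cast_ne_zero.2 Nat.card_pos.ne'), one_mul] at h4
    simp only [Set.mem_singleton_iff, Finset.filter_eq', Finset.mem_univ, if_true,
      Finset.sum_singleton, ← BlockB.irr_charDegree_eq, map_natCast] at h4
    have h5 := (h1.trans h2).trans_eq (Module.finrank_linearMap K K _ _)
    have h6 : charDegree (χ.1 : G → ℂ) * charDegree (χ.1 : G → ℂ) = finrank ℂ
        (LinearMap.ker (LinearMap.mulLeft ℂ (mapRingHom G R.subtype (1 - E {χ.1})))) := by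
      exact_mod_cast h4
    exact Nat.mul_self_le_mul_self_iff.1 (h6.trans_le h5)
  let S : (∀ χ : X, U χ) →ₗ[K] W := ∑ χ : X, (U χ).subtype ∘ₗ LinearMap.proj χ
  have h2 := LinearMap.finrank_le_finrank_of_injective (f := S) (by
    rw [← LinearMap.ker_eq_bot, eq_bot_iff]
    intro w h0
    funext χ
    have h3 := congrArg (π (e {χ.1})) (LinearMap.mem_ker.1 h0)
    simp only [S, LinearMap.sum_apply, map_sum, map_zero] at h3
    rw [Finset.sum_eq_single χ (fun ξ _ hξ => ?_) (by simp)] at h3
    · obtain ⟨y, hy⟩ := (w χ).2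
      refine Subtype.ext (.trans ?_ h3)
      change _ = π _ (w χ).1
      rw [← hy, ← Module.End.mul_apply, ee, if_pos rfl]
    · obtain ⟨y, hy⟩ := (w ξ).2
      change π _ (w ξ).1 = 0
      rw [← hy, ← Module.End.mul_apply, ee, if_neg fun k => hξ (Subtype.ext k.symm)]
      rfl)
  rw [Module.finrank_pi_fintype] at h2
  refine le_trans (le_of_eq (BlockB.charDegree_of_eq ?_)) ((Finset.sum_le_sum fun χ _ => h1 χ).trans h2)
  simp only [θ, Finset.sum_apply, Nat.cast_sum, BlockB.irr_charDegree_eq]
  exact Finset.sum_subtype _ (by simp) _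

/-- A faithful representation of a `p'`-group in characteristic `p` gives a faithful complex
character of at most the same degree. -/
theorem exists_char {p : ℕ} [Fact p.Prime] {F : Type u} [Field F] [CharP F p] {W : Type*}
    [AddCommGroup W] [Module F W] [Module.Finite F W] (ρ : G →* Module.End F W)
    (hρ : Function.Injective ρ) (hp : ¬ p ∣ Nat.card G) : ∃ θ : G → ℂ, IsCharacter G θ ∧
      (∀ g, θ g = θ 1 → g = 1) ∧ charDegree θ ≤ finrank F W := by
  classical
  obtain ⟨M, hM⟩ := BlockB.exists_isPModular (p := p) Fact.out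
  have := BlockB.charP_k hM
  obtain ⟨K, _, ⟨i⟩, ⟨j⟩⟩ := exists_common_field p F (BlockB.k M)
  let b := Module.finBasis F W
  let σ : G →* Module.End K (Fin (finrank F W) → K) :=
    (Matrix.toLinAlgEquiv' (R := K)).toMonoidHom.comp ((i.mapMatrix.toMonoidHom.comp
      (LinearMap.toMatrixAlgEquiv b).toMonoidHom).comp ρ)
  obtain ⟨θ, h1, h2, h3⟩ := exists_char_aux (G := G) (R := (BlockB.O M).toSubring)
    (fun z hz => BlockB.mem_O_iff.2 (BlockB.v_le_one_of_isIntegral M hz))
    (BlockB.mem_O_iff.2 (by rw [map_inv₀, (BlockB.v_natCast_eq_one_iff hM _).2 hp, inv_one]))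
    (j.comp (BlockB.res M)) (MonoidAlgebra.lift K _ G σ) (fun g hg => by
      rw [MonoidAlgebra.lift_single, one_smul, ← map_one σ] at hg
      apply hρ
      apply (LinearMap.toMatrixAlgEquiv b).injective
      exact Matrix.map_injective i.injective ((Matrix.toLinAlgEquiv' (R := K)).injective hg))
  exact ⟨θ, h1, h2, by simpa using h3⟩

end CF.Crit.Tr
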