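import Cfsg.Agent.Crit.Tr1
import Cfsg.Agent.Small.Lo1
import Cfsg.Agent.Fgs2.Zsigmondy
import Cfsg.Agent.Fgs2.Isa7
import Cfsg.Agent.Char.TIP
import Cfsg.Agent.S0899

/-!
# Normal Sylow subgroups of linear groups of small degree, large primitive prime divisors
-/

set_option autoImplicit false

namespace CF.Crit.Tr
open Subgroup Cfsg CF.Small CF.Fgs2

section
variable {L : Type*} [Group L] [Finite L] {θ : L → ℂ} (hθ : IsCharacter L θ)
  (hf : ∀ g, θ g = θ 1 → g = 1)
include hθ hf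

theorem ker_eq_bot : Char.charKer θ = ⊥ :=
  eq_bot_iff.2 fun g hg => hf g ((Char.mem_charKer_iff hθ).1 hg)

theorem comm_of_lin (T : Subgroup L) [Fintype T]
    (h : ∀ ψ, IsIrrCharacter T ψ → classInner (fun x : T => θ x) ψ ≠ 0 → charDegree ψ = 1)
    {a b : L} (ha : a ∈ T) (hb : b ∈ T) : a * b = b * a := by
  have h2 := Char.char_restrict hθ T
  have h3 := Char.commutator_le_charKer_of_constituents (Char.char_isClassFunction h2)
    fun ψ hψ h4 => by rw [exists_degree (PF.mem_irr_top.2 hψ), h ψ hψ h4, Nat.cast_one]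
  rw [Char.charKer_restrict hθ, ker_eq_bot hθ hf, bot_subgroupOf, le_bot_iff] at h3
  exact congrArg Subtype.val (Char.comm_of_commutator_eq_bot h3 ⟨a, ha⟩ ⟨b, hb⟩)

theorem comm_of_lt {t : ℕ} [ht : Fact t.Prime] (hd : charDegree θ < t) {T : Subgroup L}
    (hT : IsPGroup t T) {a b : L} (ha : a ∈ T) (hb : b ∈ T) : a * b = b * a := by
  have := Fintype.ofFinite T
  refine comm_of_lin hθ hf T (fun ψ hψ h => ?_) ha hb
  obtain ⟨n, hn⟩ := hT.exists_card_eq
  obtain ⟨k, -, hk⟩ := (Nat.dvd_prime_pow ht.out).1 (hn ▸ BlockB.Ord.irr_deg_dvd_card hψ)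
  have h1 : charDegree ψ ≤ charDegree θ := deg_le_of_inner_ne (Char.char_restrict hθ T) hψ h
  rcases k with _ | k
  · simpa using hk
  · exact absurd ((Nat.le_of_dvd (pow_pos ht.out.pos _) (dvd_pow_self t k.succ_ne_zero)).trans
      (hk.ge.trans h1)) hd.not_ge

theorem sylow_normal {t d : ℕ} [ht : Fact t.Prime] (hd : charDegree θ ≤ d) (h1 : d + 1 < t)
    (h2 : 2 * d + 1 ≤ t) (h3 : 2 * d + 1 = t → ¬ d ∣ Nat.card L) (P : Sylow t L) :
    (P : Subgroup L).Normal := by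
  obtain ⟨n, ρ, rfl⟩ := id hθ
  have e : charDegree ρ.character = n := BlockB.charDegree_of_eq (by simp)
  refine Cfsg.Agent.S0899.result n ρ ((injective_iff_map_eq_one ρ).2 fun g hg => hf g (by
    simp only [Representation.character, hg, map_one])) t (.inr ⟨by omega, fun K hK Q => ?_⟩) P
  obtain ⟨k, hk⟩ := Q.isPGroup'.exists_card_eq
  have h4 : k < 2 := by_contra fun h4 => hK
    ((pow_dvd_pow t (by omega)).trans (hk ▸ card_subgroup_dvd_card (Q : Subgroup K)))
  rcases k with _ | k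
  swap
  · obtain ⟨S, hS⟩ := exists_pset_sylow Q (by rw [hk, show k = 0 by omega]; simp)
    obtain ⟨S', -⟩ := S.exists_sub (subset_normalClosure (s := {S.z}) rfl)
    rw [← hS]
    refine S.normal_of_lt (Char.char_restrict hθ K) (by
      rw [Char.charKer_restrict hθ, ker_eq_bot hθ hf, bot_subgroupOf]) fun ψ hψ h5 => ?_
    have h6 := (BlockB.Ord.irr_deg_dvd_card hψ).trans
      ((card_subgroup_dvd_card _).trans (card_subgroup_dvd_card K))
    change _ ≤ charDegree ρ.character at h5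
    rw [exists_degree (PF.mem_irr_top.2 hψ), (S.gen_sub (S' := S')).deg_eq_one
      (PF.mem_irr_top.2 hψ) (by_contra fun h7 => h3 (by omega)
        ((show charDegree ψ = d by omega) ▸ h6)), Nat.cast_one]
  · rw [card_eq_one.1 hk]
    infer_instance

theorem deg_two (hd : charDegree θ ≤ 2) : (∃ B : Subgroup L, IsMulCommutative B ∧ B.index ≤ 2) ∨
    (((center L).index = 12 ∨ (center L).index = 24 ∨ (center L).index = 60) ∧
      ∀ x ∉ center L, IsMulCommutative (centralizer {x})) := by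
  have key : ∀ T : Subgroup L, IsMulCommutative T ∨
      (θ 1 = 2 ∧ IsIrrCharacter T fun x => θ x) := fun T => by
    have := Fintype.ofFinite T
    refine or_iff_not_imp_right.2 fun h => ⟨⟨fun a b => Subtype.ext
      (comm_of_lin hθ hf T (fun ψ hψ h1 => by_contra fun h2 => h ?_) a.2 b.2)⟩⟩
    have h3 : charDegree ψ ≤ charDegree θ :=
      deg_le_of_inner_ne (Char.char_restrict hθ T) hψ h1
    have h4 := Nat.pos_of_dvd_of_pos (BlockB.Ord.irr_deg_dvd_card hψ) Nat.card_pos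
    have h5 : θ 1 = 2 := by
      rw [← BlockB.charDegree_eq hθ, show charDegree θ = 2 by omega]; rfl
    refine ⟨h5, ?_⟩
    rwa [Char.eq_of_inner_ne_zero_of_one_eq (Char.char_restrict hθ T) hψ h1 (by
      rw [exists_degree (PF.mem_irr_top.2 hψ), show charDegree ψ = 2 by omega]; exact h5)]
  rcases key ⊤ with h | ⟨h1, h2⟩
  · exact .inl ⟨⊤, h, by simp⟩
  refine (Isa.deg_two (Char.irr_comp_equiv h2 topEquiv.symm) h1 hf).imp
    (fun ⟨B, h3, h4⟩ => ⟨B, ⟨⟨fun a b => Subtype.ext (h3.mul_comm a.2 b.2)⟩⟩, h4⟩)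
    fun h => ⟨h, fun x hx => (key _).resolve_right fun h3 => hx ?_⟩
  exact Char.charCenter_le_center_of_faithful (Char.char_isClassFunction hθ) (ker_eq_bot hθ hf)
    (Char.mem_charCenter_of_res_irr hθ h3.2 fun y hy => mem_centralizer_singleton_iff.1 hy)

end

/-- the exceptional pairs -/
def exc : List (ℕ × ℕ) := [(4, 3), (3, 4), (3, 6), (4, 6), (5, 6), (10, 6), (17, 6), (3, 18)]

/-- direct check -/
def chk (q n : ℕ) : Bool :=
  decide (4 * n * ((n + 1) * (2 * n + 1)) < q ^ phiC n) || exc.contains (q, n) ||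
    (decide ((q ^ n - 1) % ppC q n = 0) && decide ((n + 1) * (2 * n + 1) % ppC q n ≠ 0) &&
      (List.range' 1 (n - 1)).all fun i => Nat.gcd (ppC q n) (q ^ i - 1) == 1)

theorem chk_all : ((List.range' 3 448).all fun n =>
    decide (4 * n * ((n + 1) * (2 * n + 1)) < 47 ^ phiC n) &&
    (decide (4 * n * ((n + 1) * (2 * n + 1)) < 3 ^ phiC n) ||
      (List.range' 3 44).all fun q => chk q n)) = true := by
  decide +kernel

theorem big_totient {n : ℕ} (hn : 451 ≤ n) {r : ℕ} (hr : r ≤ n.totient + 1) :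
    4 * r * ((n + 1) * (2 * n + 1)) < 3 ^ n.totient := by
  have h1 := (le_two_mul_totient_sq n).1
  set t := n.totient
  have ht : 16 ≤ t := by
    by_contra h
    have : t ≤ 15 := by omega
    nlinarith
  have key : ∀ t : ℕ, 16 ≤ t → 4 * (t + 1) * ((2 * t ^ 2 + 1) * (4 * t ^ 2 + 1)) < 3 ^ t := by
    intro t ht
    induction t, ht using Nat.le_induction with
    | base => norm_num
    | succ t ht ih =>
      rw [pow_succ 3]
      have : 4 * (t + 1 + 1) * ((2 * (t + 1) ^ 2 + 1) * (4 * (t + 1) ^ 2 + 1)) ≤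
          4 * (t + 1) * ((2 * t ^ 2 + 1) * (4 * t ^ 2 + 1)) * 3 := by
        obtain ⟨c, rfl⟩ := Nat.exists_eq_add_of_le ht
        ring_nf
        omega
      omega
  refine lt_of_le_of_lt ?_ (key t ht)
  exact Nat.mul_le_mul (Nat.mul_le_mul_left _ hr) (Nat.mul_le_mul (by omega) (by omega))

theorem exists_big {q n : ℕ} (hq : 3 ≤ q) (hn : 3 ≤ n) (hex : (q, n) ∉ exc) :
    ∃ r : ℕ, r.Prime ∧ r ∣ q ^ n - 1 ∧ (∀ i, 1 ≤ i → i < n → ¬ r ∣ q ^ i - 1) ∧
      (r ^ 2 ∣ q ^ n - 1 ∨ ¬ r ∣ (n + 1) * (2 * n + 1)) := by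
  suffices h : ∃ m, m ∣ q ^ n - 1 ∧ (∀ i, 1 ≤ i → i < n → m.Coprime (q ^ i - 1)) ∧
      ¬ m ∣ (n + 1) * (2 * n + 1) by
    obtain ⟨m, h1, h2, h3⟩ := h
    rw [Nat.dvd_iff_prime_pow_dvd_dvd] at h3
    push Not at h3
    obtain ⟨r, k, hr, h3, h4⟩ := h3
    have h5 : r ∣ m := (dvd_pow_self r (by rintro rfl; simp at h4)).trans h3
    refine ⟨r, hr, h5.trans h1, fun i a b c => hr.one_lt.ne'
      (Nat.eq_one_of_dvd_coprimes (h2 i a b) h5 c), or_iff_not_imp_right.2 fun h6 => ?_⟩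
    refine (pow_dvd_pow r (by_contra fun h7 => h4 ?_)).trans (h3.trans h1)
    exact (pow_dvd_pow r (by omega : k ≤ 1)).trans (by simpa using h6)
  obtain ⟨m, r, h1, h2, h3, h4⟩ := exists_primitive_part (by omega : 2 ≤ q) hn
  have h5 := pow_totient_le_cyc (by omega : 2 ≤ q) (by omega : 0 < n)
  have main : 4 * r * ((n + 1) * (2 * n + 1)) < q ^ n.totient → ∃ m, m ∣ q ^ n - 1 ∧
      (∀ i, 1 ≤ i → i < n → m.Coprime (q ^ i - 1)) ∧ ¬ m ∣ (n + 1) * (2 * n + 1) := fun h =>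
    ⟨m, h1, h2, fun k => by
      have := Nat.mul_le_mul_left (4 * r) (Nat.le_of_dvd (by positivity) k)
      rw [h3] at h5
      linarith⟩
  have hrn : r ≤ n := by
    rcases h4 with rfl | h4
    · omega
    · exact Nat.le_of_dvd (by omega) h4.2
  have main' : ∀ a, a ≤ q → 4 * n * ((n + 1) * (2 * n + 1)) < a ^ phiC n → ∃ m, m ∣ q ^ n - 1 ∧
      (∀ i, 1 ≤ i → i < n → m.Coprime (q ^ i - 1)) ∧ ¬ m ∣ (n + 1) * (2 * n + 1) := by
    intro a ha h
    rw [phiC_eq] at h
    exact main ((Nat.mul_le_mul_right _ (Nat.mul_le_mul_left _ hrn)).trans_lt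
      (h.trans_le (Nat.pow_le_pow_left ha _)))
  by_cases hbig : 451 ≤ n
  · refine main ((big_totient hbig ?_).trans_le (Nat.pow_le_pow_left hq _))
    rcases h4 with rfl | h4
    · omega
    · have := Nat.le_of_dvd (Nat.totient_pos.2 (by omega)) (Nat.totient_dvd_of_dvd h4.2)
      rw [Nat.totient_prime h4.1] at this
      omega
  have h6 := List.all_eq_true.1 chk_all n (List.mem_range'_1.2 ⟨hn, by omega⟩)
  simp only [Bool.and_eq_true, decide_eq_true_eq, Bool.or_eq_true, List.all_eq_true] at h6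
  by_cases hq47 : 47 ≤ q
  · exact main' 47 hq47 h6.1
  rcases h6.2 with h7 | h7
  · exact main' 3 hq h7
  have h8 := h7 q (List.mem_range'_1.2 ⟨hq, by omega⟩)
  simp only [chk, Bool.and_eq_true, decide_eq_true_eq, Bool.or_eq_true, List.all_eq_true,
    List.contains_iff_mem, beq_iff_eq] at h8
  rcases h8 with (h8 | h8) | h8
  · exact main' q le_rfl h8
  · exact absurd h8 hex
  · exact ⟨ppC q n, Nat.dvd_of_mod_eq_zero h8.1.1,
      fun i a b => h8.2 i (List.mem_range'_1.2 ⟨a, by omega⟩),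
      fun k => h8.1.2 (Nat.mod_eq_zero_of_dvd k)⟩

end CF.Crit.Tr
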