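import Cfsg.Agent.Crit.Tr2
import Cfsg.Agent.Perm.Huppert3
import Cfsg.Agent.BN.Singer
import Cfsg.Agent.Chev.FF
import Cfsg.Agent.Hyp.FTProof
import Cfsg.Agent.S4485

/-!
# Linear groups of order prime to the characteristic, transitive on non-zero vectors
-/

set_option autoImplicit false
set_option linter.unusedSectionVars false

namespace CF.Crit.Tr
open Subgroup Cfsg CF.Fgs2 CF.Perm CF.BN Module

/-- maximal abelian normal subgroup -/
structure MA {G : Type*} [Group G] (A : Subgroup G) : Prop where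
  nm : A.Normal
  comm : IsMulCommutative A
  max : ∀ B : Subgroup G, B.Normal → IsMulCommutative B → A ≤ B → B ≤ A

theorem MA.le {G : Type*} [Group G] {A B : Subgroup G} (h : MA A) [B.Normal] [IsMulCommutative B]
    (hB : B ≤ centralizer (A : Set G)) : B ≤ A :=
  have := h.nm
  have := h.comm
  le_sup_right.trans (h.max (A ⊔ B) inferInstance (le_centralizer_iff_isMulCommutative.1 (sup_le
    (le_centralizer_iff.1 (sup_le (le_centralizer A) hB))
    (le_centralizer_iff.1 (sup_le (le_centralizer_iff.1 hB) (le_centralizer B))))) le_sup_left)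

theorem solvable_of_index {L : Type*} [Group L] {B : Subgroup L} [IsMulCommutative B]
    (h0 : B.index ≠ 0) (h : B.index ≤ 2) : B.Normal ∧ Group.IsSolvable L := by
  have : Group.IsSolvable B := Group.isSolvable_of_comm fun a b => IsMulCommutative.is_comm.comm a b
  have : B.Normal := by
    rcases (by omega : B.index = 1 ∨ B.index = 2) with h | h
    · rw [index_eq_one.1 h]; infer_instance
    · exact B.normal_of_index_eq_two h
  have : Finite (L ⧸ B) := Nat.finite_of_card_ne_zero h0
  have : IsCyclic (L ⧸ B) := by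
    rcases (by omega : B.index = 1 ∨ B.index = 2) with h | h
    · exact @isCyclic_of_subsingleton _ _ (Nat.card_eq_one_iff_unique.1 h).1
    · exact isCyclic_of_prime_card (p := 2) h
  have : Group.IsSolvable (L ⧸ B) :=
    Group.isSolvable_of_comm fun a b => IsMulCommutative.is_comm.comm a b
  exact ⟨‹_›, Group.isSolvable_of_ker_le_range B.subtype (QuotientGroup.mk' B) (by simp)⟩

theorem char_dvd_card (K : Type*) [Field K] [Finite K] (p : ℕ) [CharP K p] : p ∣ Nat.card K := by
  have := Fintype.ofFinite K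
  rw [Nat.card_eq_fintype_card, ← CharP.cast_eq_zero_iff K, FiniteField.cast_card_eq_zero]

variable {G V K : Type*} [Group G] [Finite G] [AddCommGroup V] [DistribMulAction G V] [Finite V]
  [Nontrivial V] [FaithfulSMul G V] [Field K] [Finite K] [Module K V] {A : Subgroup G}
  {σ : G →* RingAut K} {p : ℕ} [hp : Fact p.Prime] [CharP K p] (h : FS V K A σ)

/-- the linear representation of the centraliser -/
def rho : centralizer (A : Set G) →* Module.End K V where
  toFun g := h.lin g.2
  map_one' := LinearMap.ext fun v => one_smul G v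
  map_mul' a b := LinearMap.ext fun v => mul_smul (a : G) (b : G) v

theorem rho_inj : Function.Injective (rho h) := fun _ _ e =>
  Subtype.ext (eq_of_smul_eq_smul fun v : V => LinearMap.congr_fun e v)

variable (hA : MA A) (hG : ¬ p ∣ Nat.card G)
include h hG

theorem exists_theta : ∃ θ : centralizer (A : Set G) → ℂ, IsCharacter _ θ ∧
    (∀ g, θ g = θ 1 → g = 1) ∧ charDegree θ ≤ finrank K V :=
  exists_char (rho h) (rho_inj h) fun k => hG (k.trans (card_subgroup_dvd_card _))

include hA

theorem dvd_of_normal {t : ℕ} [ht : Fact t.Prime] (hd : finrank K V < t)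
    (P : Sylow t (centralizer (A : Set G))) (hP : P.1.Normal)
    (h1 : t ∣ Nat.card (centralizer (A : Set G))) : t ∣ Nat.card K - 1 := by
  obtain ⟨θ, h2, h3, h4⟩ := exists_theta h hG
  have := hA.nm
  have := Sylow.characteristic_of_normal P hP
  have : IsMulCommutative (P.1.map (Subgroup.subtype _)) := ⟨⟨by
    rintro ⟨_, a, ha, rfl⟩ ⟨_, b, hb, rfl⟩
    exact Subtype.ext (congrArg Subtype.val (comm_of_lt h2 h3 (h4.trans_lt hd) P.2 ha hb) :)⟩⟩
  have h5 := card_dvd_of_le (hA.le (B := P.1.map (Subgroup.subtype _)) (map_subtype_le _))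
  rw [card_map_of_injective (Subgroup.subtype_injective _)] at h5
  exact ((P.dvd_card_of_dvd_card h1).trans h5).trans h.card_dvd

theorem smooth {t : ℕ} (ht : t.Prime) (h1 : t ∣ Nat.card G) (h2 : ¬ t ∣ Nat.card K - 1)
    (h3 : ¬ t ∣ (centralizer (A : Set G)).index) (h4 : finrank K V + 1 < t)
    (h5 : 2 * finrank K V + 1 ≤ t) : 2 * finrank K V + 1 = t ∧ finrank K V ∣ Nat.card G := by
  have := Fact.mk ht
  obtain ⟨θ, h6, h7, h8⟩ := exists_theta h hG
  obtain ⟨P⟩ : Nonempty (Sylow t (centralizer (A : Set G))) := inferInstance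
  by_contra h9
  exact h2 (dvd_of_normal h hA hG (by omega) P (sylow_normal h6 h7 h8 h4 h5 (fun a b =>
    h9 ⟨a, b.trans (card_subgroup_dvd_card _)⟩) P)
    ((ht.dvd_mul.1 ((card_mul_index (centralizer (A : Set G))).symm ▸ h1)).resolve_right h3))

theorem not_sq_dvd {r : ℕ} (hr : IsPpd r (Nat.card K) (finrank K V)) (h1 : 1 < finrank K V)
    (h2 : finrank K V < r) : ¬ r ^ 2 ∣ Nat.card (centralizer (A : Set G)) := fun h3 => by
  classical
  have := Fact.mk hr.1
  obtain ⟨θ, h6, h7, h8⟩ := exists_theta h hG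
  obtain ⟨P⟩ : Nonempty (Sylow r (centralizer (A : Set G))) := inferInstance
  let ρ := (LinearMap.toMatrixAlgEquiv (Module.finBasis K V)).toMonoidHom.comp (rho h)
  have hρ : Function.Injective ρ :=
    (LinearMap.toMatrixAlgEquiv (Module.finBasis K V)).injective.comp (rho_inj h)
  have h4 := Cfsg.Agent.S4485.result r hr.1 ((dvd_pow_self r two_ne_zero).trans h3) P
    (fun x hx x1 => le_antisymm (fun c hc y hy => ?_) (centralizer_le (Set.singleton_subset_iff.2 hx))) _
    P.card_eq_multiplicity θ h6 h7 (lt_of_lt_of_le (by nlinarith) (Nat.pow_le_pow_right hr.1.pos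
      ((hr.1.pow_dvd_iff_le_factorization Nat.card_pos.ne').1 h3)))
  · have h5 := dvd_of_normal h hA hG h2 P h4 ((dvd_pow_self r two_ne_zero).trans h3)
    exact hr.2.2 1 one_pos h1 (by
      rw [pow_one]; exact ((Nat.modEq_iff_dvd' Nat.card_pos).2 h5).symm)
  · obtain ⟨k, hk⟩ := IsPGroup.iff_orderOf.1 P.2 ⟨x, hx⟩
    rw [orderOf_mk] at hk
    obtain ⟨k, rfl⟩ := Nat.exists_eq_succ_of_ne_zero (n := k) (by rintro rfl; simp [x1] at hk)
    have h5 := IsPpd.isCyclic_centralizer hρ (by simpa using hr) (x := x ^ r ^ k)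
      (by rw [← pow_mul, ← pow_succ, ← hk, pow_orderOf_eq_one])
      (pow_ne_one_of_lt_orderOf (pow_pos hr.1.pos _).ne'
        (hk ▸ Nat.pow_lt_pow_right hr.1.one_lt k.lt_succ_self))
    exact congrArg Subtype.val (h5.isMulCommutative.is_comm.comm
      ⟨y, mem_centralizer_singleton_iff.2
        (comm_of_lt h6 h7 (h8.trans_lt h2) P.2 hy (pow_mem hx _))⟩
      ⟨c, mem_centralizer_singleton_iff.2
        (Commute.pow_right (mem_centralizer_singleton_iff.1 hc) _)⟩)

theorem primes81 (hK : Nat.card K = 3) (hd : finrank K V = 4) {t : ℕ} (ht : t.Prime)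
    (h1 : t ∣ Nat.card G) : t = 2 ∨ t = 5 := by
  obtain ⟨k, h2, h3⟩ := h.exists_pow_index
  have h4 := (Nat.Prime.eq_one_of_pow (h3 ▸ hK ▸ Nat.prime_three : (k ^ _).Prime))
  have hV : Nat.card (Multiplicative V) = 3 ^ 4 := by
    rw [← hK, ← hd, ← Module.natCard_eq_pow_finrank]; rfl
  obtain ⟨e, h5, h6, h7⟩ := exists_dvd_of_prime_dvd_card_mulAut ht (h1.trans
    (card_dvd_of_injective ((MulAutMultiplicative V).symm.toMonoidHom.comp
      (DistribMulAction.toAddAut G V)) fun a b e => eq_of_smul_eq_smul fun v : V =>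
        DFunLike.congr_fun e (Multiplicative.ofAdd v)))
  rw [hV] at h5 h6 h7
  obtain ⟨j, h8, rfl⟩ := (Nat.dvd_prime_pow Nat.prime_three).1 h6
  have h3 : p = 3 := (Nat.prime_dvd_prime_iff_eq hp.out Nat.prime_three).1
    (hK ▸ char_dvd_card K p)
  have h9 : t ≠ 3 := fun e => hG (h3 ▸ e ▸ h1)
  have h10 : t ≠ 13 := fun e => by
    have := smooth h hA hG ht h1 (by rw [hK, e]; decide) (by rw [h4, e]; decide) (by omega)
      (by omega)
    omega
  have h11 := Nat.le_of_dvd (by omega) h7
  have h12 : t ≤ 80 := by omega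
  interval_cases j <;> interval_cases t <;> simp_all (config := { decide := true })

theorem nonsolv (ht : Tr G V) (hs : ¬ Group.IsSolvable G) :
    centralizer (A : Set G) = ⊤ ∧ finrank K V = 2 ∧ Nat.card K = p := by
  have := Fintype.ofFinite K
  have h2 : p ≠ 2 := by
    rintro rfl
    exact hs (Hyp.isSolvable_of_odd (Nat.odd_iff.2 (by omega)))
  have hp3 : 3 ≤ p := by have := hp.out.two_le; omega
  obtain ⟨⟨f, f0⟩, -, hf⟩ := FiniteField.card K p
  rw [← Nat.card_eq_fintype_card, PNat.mk_coe] at hf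
  have hi : (centralizer (A : Set G)).index ∣ f := by
    rw [← h.ker, index_ker, ← Chev.card_ringAut (F := K) (Nat.card_eq_fintype_card.symm.trans hf)]
    exact card_subgroup_dvd_card _
  have hC : ¬ Group.IsSolvable (centralizer (A : Set G)) := fun k => by
    have := Chev.isCyclic_ringAut (F := K)
    have : Group.IsSolvable (RingAut K) :=
      Group.isSolvable_of_comm fun a b => IsMulCommutative.is_comm.comm a b
    exact hs (Group.isSolvable_of_ker_le_range (centralizer (A : Set G)).subtype σ (by simp [h.ker]))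
  have hd : 1 < finrank K V := lt_of_le_of_ne finrank_pos fun e =>
    hC (Group.isSolvable_of_comm (h.isMulCommutative e.symm).is_comm.comm)
  have hc := ht.card_dvd
  rw [Module.natCard_eq_pow_finrank (K := K), hf, ← pow_mul] at hc
  have sm : ∀ t, t.Prime → t ∣ p ^ (f * finrank K V) - 1 → ¬ t ∣ p ^ f - 1 → f < t →
      finrank K V + 1 < t → 2 * finrank K V + 1 ≤ t →
      2 * finrank K V + 1 = t ∧ finrank K V ∣ Nat.card G := fun t a b c d =>
    smooth h hA hG a (b.trans hc) (hf ▸ c) fun e => d.not_ge (Nat.le_of_dvd f0 (e.trans hi))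
  have hfn : f < f * finrank K V := lt_mul_of_one_lt_right f0 hd
  have hdn : finrank K V ≤ f * finrank K V := Nat.le_mul_of_pos_left _ f0
  by_cases h3 : f * finrank K V < 3
  · obtain rfl : f = 1 := by nlinarith
    exact ⟨index_eq_one.1 (Nat.dvd_one.1 hi), by omega, by simpa using hf⟩
  exfalso
  by_cases hex : (p, f * finrank K V) ∈ exc
  swap
  · obtain ⟨r, hr, h4, h5, h6⟩ := exists_big hp3 (not_lt.1 h3) hex
    obtain ⟨c, h7⟩ := (Nat.modEq_iff_dvd' hr.one_le).1 (primitive_modEq_one p _ r hp.out.two_le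
      (by omega) h4 fun i a b => hr.coprime_iff_not_dvd.2 (h5 i a b)).symm
    have h8 := hr.two_le
    have h9 : f * finrank K V < r := by
      rcases c with _ | c
      · omega
      · rw [mul_add_one] at h7; omega
    rcases h6 with h6 | h6
    · refine not_sq_dvd h hA hG (r := r) ⟨hr, fun k => ?_, fun j a b k => ?_⟩ hd (by omega)
        (Nat.Coprime.dvd_of_dvd_mul_right ?_
          ((card_mul_index (centralizer (A : Set G))).symm ▸ h6.trans hc))
      · rw [hf] at k
        exact hr.one_lt.ne' (Nat.dvd_one.1 ((Nat.dvd_sub_iff_right (Nat.one_le_pow _ _ hp.out.pos)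
          (pow_mul p f _ ▸ dvd_pow k (by omega))).1 h4))
      · rw [hf, ← pow_mul] at k
        exact h5 (f * j) (Nat.mul_pos f0 a) (Nat.mul_lt_mul_of_pos_left b f0)
          ((Nat.modEq_iff_dvd' (Nat.one_le_pow _ _ hp.out.pos)).1 k.symm)
      · exact (hr.coprime_iff_not_dvd.2 fun e =>
          (hfn.trans h9).not_ge (Nat.le_of_dvd f0 (e.trans hi))).pow_left 2
    · have h10 : 3 ≤ c := by
        by_contra h10
        interval_cases c
        · omega
        · exact h6 ((show r = f * finrank K V + 1 by omega) ▸ dvd_mul_right _ _)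
        · exact h6 ((show r = 2 * (f * finrank K V) + 1 by omega) ▸ dvd_mul_left _ _)
      have := Nat.mul_le_mul_left (f * finrank K V) h10
      have := sm r hr h4 (h5 f f0 hfn) (by omega) (by omega) (by omega)
      omega
  have h4 : ∀ d, finrank K V = d → p = 3 → 3 ∣ d → ¬ finrank K V ∣ Nat.card G :=
    fun d a b c e => hG (b ▸ c.trans (a ▸ e))
  have h81 := fun a b => @primes81 _ _ _ _ _ _ _ _ _ _ _ _ _ _ _ _ _ _ h hA hG a b
  obtain ⟨θ, h6, h7, h8⟩ := exists_theta h hG
  generalize finrank K V = d at *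
  simp only [exc, List.mem_cons, Prod.mk.injEq, List.not_mem_nil, or_false] at hex
  have hpp := hp.out
  rcases hex with ⟨e1, e⟩ | ⟨e1, e⟩ | ⟨e1, e⟩ | ⟨e1, e⟩ | ⟨e1, e⟩ | ⟨e1, e⟩ | ⟨e1, e⟩ | ⟨e1, e⟩
  all_goals rw [e] at sm hfn hdn; rw [e1] at sm hf hpp
  · exact absurd hpp (by decide)
  · rcases (by interval_cases f <;> omega : (f = 1 ∧ d = 4) ∨ d = 2) with ⟨rfl, rfl⟩ | rfl
    · refine hs (Char.isSolvable_of_card_dvd Nat.prime_two Nat.prime_five G
        (mul_pow 2 5 _ ▸ (Nat.dvd_pow_self_iff Nat.card_pos.ne' (by decide)).2 fun t k => ?_))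
      rcases h81 hf rfl (Nat.prime_of_mem_primeFactors k) (Nat.dvd_of_mem_primeFactors k) with
        rfl | rfl <;> simp [Nat.prime_two, Nat.prime_five]
    · rcases deg_two h6 h7 h8 with ⟨B, _, k⟩ | ⟨k, -⟩
      · exact hC (solvable_of_index index_ne_zero_of_finite k).2
      · refine hG (e1 ▸ dvd_trans ?_ ((index_dvd_card (center (centralizer (A : Set G)))).trans
          (card_subgroup_dvd_card _)))
        omega
  · have a := sm 13 (by decide) (by decide)
    have b := sm 7 (by decide) (by decide)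
    have := h4 d rfl e1
    interval_cases f <;> norm_num at a b <;> omega
  · exact absurd hpp (by decide)
  · have a := sm 31 (by decide) (by decide)
    have b := sm 7 (by decide) (by decide)
    interval_cases f <;> norm_num at a b <;> omega
  · exact absurd hpp (by decide)
  · have a := sm 307 (by norm_num) (by decide)
    have b := sm 7 (by decide) (by decide)
    interval_cases f <;> norm_num at a b <;> omega
  · have a := sm 37 (by decide) (by decide)
    have := h4 d rfl e1
    interval_cases f <;> norm_num at a <;> omega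

theorem cases (ht : Tr G V) : finrank K V = 1 ∨ (centralizer (A : Set G) = ⊤ ∧
    ((finrank K V = 2 ∧ Nat.card K = p) ∨
      (finrank K V = 4 ∧ Nat.card K = 3 ∧ Group.IsSolvable G))) := by
  refine or_iff_not_imp_left.2 fun hd => ?_
  by_cases hs : Group.IsSolvable G
  · have := hA.nm
    have := hA.comm
    obtain ⟨M, hM⟩ := exists_AM A hA.max
    have h1 := char_dvd_card K p
    refine (h.cases hM ht hd).imp_right (.imp (fun k => ⟨k.1, ?_⟩) fun k => ⟨k.1, k.2, hs⟩)
    refine ((Nat.prime_dvd_prime_iff_eq hp.out ?_).1 h1).symm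
    rcases k.2 with e | e | e | e | e <;> rw [e] <;> norm_num
  · exact (nonsolv h hA hG ht hs).imp_right .inl

end CF.Crit.Tr
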