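import Cfsg.Agent.Fgs2.Isa13

/-!
# Solvable groups whose vanishing `p`-singular elements all have the same order
-/

set_option autoImplicit false

namespace CF.Crit.Vn

open Cfsg Subgroup CF.Clifford CF.Char CF.Solv CF.Coprime

attribute [local instance] Fintype.ofFinite

universe u

variable {G : Type u} [Group G] [Finite G] {p : ℕ}

/-- Vanishing elements. -/
def Van {G : Type*} [Group G] (g : G) : Prop := ∃ χ, IsIrrCharacter G χ ∧ χ g = 0

/-- The quotient-closed form of the hypothesis. -/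
structure Hyp (p : ℕ) (G : Type*) [Group G] : Prop where
  a : ∀ x y : G, Van x → Van y → p ∣ orderOf x → p ∣ orderOf y → (∃ k, x ^ p ^ k = 1) →
    ∃ k, y ^ p ^ k = 1
  b : ∀ x : G, Van x → Van (x ^ p) → ¬ p ∣ orderOf (x ^ p)

theorem Van.lift {G Q : Type*} [Group G] [Group Q] (f : G →* Q) (hf : Function.Surjective f) {g : G}
    (h : Van (f g)) : Van g := by
  obtain ⟨χ, h1, h2⟩ := h
  exact ⟨_, irr_comp_of_surjective h1 f hf, h2⟩

theorem hyp_of_eq (hp : p.Prime)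
    (h : ∀ x y : G, Van x → Van y → p ∣ orderOf x → p ∣ orderOf y → orderOf x = orderOf y) :
    Hyp p G := by
  refine ⟨fun x y hx hy h1 h2 ⟨k, hk⟩ => ⟨k, ?_⟩, fun x hx hy h2 => ?_⟩
  · rw [← orderOf_dvd_iff_pow_eq_one] at hk ⊢
    rwa [← h x y hx hy h1 h2]
  · have h1 : p ∣ orderOf x := h2.trans (orderOf_pow_dvd p)
    have := h _ _ hx hy h1 h2
    rw [orderOf_pow_of_dvd hp.ne_zero h1] at this
    exact absurd this (Nat.div_lt_self (orderOf_pos x) hp.one_lt).ne'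

theorem Hyp.quot {Q : Type*} [Group Q] (hp : p.Prime) (h : Hyp p G) (f : G →* Q)
    (hf : Function.Surjective f) : Hyp p Q := by
  refine ⟨fun x y hx hy h1 h2 ⟨k, hk⟩ => ?_, fun x hx hy h2 => ?_⟩
  · obtain ⟨x0, rfl⟩ := hf x
    obtain ⟨y, rfl⟩ := hf y
    obtain ⟨a, m, hm, e⟩ := Nat.exists_eq_pow_mul_and_not_dvd (orderOf_pos x0).ne' p hp.ne_one
    have hc : (p ^ k).Coprime m := ((Nat.Prime.coprime_iff_not_dvd hp).2 hm).pow_left k
    obtain ⟨n, n1, n2⟩ := Nat.chineseRemainder hc 1 0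
    have e1 : f (x0 ^ n) = f x0 := by
      rw [map_pow]
      nth_rewrite 2 [← pow_one (f x0)]
      exact pow_eq_pow_iff_modEq.2 (n1.of_dvd (orderOf_dvd_of_pow_eq_one hk))
    have e2 : (x0 ^ n) ^ p ^ a = 1 := by
      rw [← pow_mul, ← orderOf_dvd_iff_pow_eq_one, e, mul_comm n]
      exact Nat.mul_dvd_mul_left _ ((Nat.modEq_zero_iff_dvd).1 n2)
    obtain ⟨l, hl⟩ := h.a (x0 ^ n) y (Van.lift f hf (e1 ▸ hx)) (hy.lift f hf)
      (h1.trans (e1 ▸ orderOf_map_dvd f _)) (h2.trans (orderOf_map_dvd f _)) ⟨a, e2⟩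
    exact ⟨l, by rw [← map_pow, hl, map_one]⟩
  · obtain ⟨x, rfl⟩ := hf x
    rw [← map_pow] at hy h2
    exact h.b x (hx.lift f hf) (hy.lift f hf) (h2.trans (orderOf_map_dvd f _))

theorem lift_sub [Fact p.Prime] (V : Subgroup G) [V.Normal] (hV : (Nat.card V).Coprime p)
    (B : Subgroup (G ⧸ V)) (hB : IsPGroup p B) :
    ∃ S : Subgroup G, IsPGroup p S ∧ S.map (QuotientGroup.mk' V) = B ∧ V ⊓ S = ⊥ ∧
      Nat.card S = Nat.card B := by
  obtain ⟨S, hS⟩ := exists_isSylowOf p (B.comap (QuotientGroup.mk' V))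
  have h1 : V ⊓ S = ⊥ := by
    rw [inf_comm]
    exact inf_eq_bot_of_isPGroup_of_coprime hS.isPGroup hV
  obtain ⟨k, hk⟩ := hB.exists_card_eq
  have h2 : Nat.card S = Nat.card B := by
    rw [hS.card_eq, card_comap_mk', Nat.factorization_mul Nat.card_pos.ne' Nat.card_pos.ne',
      Finsupp.add_apply, Nat.factorization_eq_zero_of_not_dvd
        ((Nat.Prime.coprime_iff_not_dvd Fact.out).1 hV.symm), hk,
      Nat.Prime.factorization_pow Fact.out]
    simp
  refine ⟨S, hS.isPGroup, ?_, h1, h2⟩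
  apply eq_of_le_of_card_ge (map_le_iff_le_comap.2 hS.le)
  have := card_map_mk'_mul V S
  rw [h1, card_bot, mul_one] at this
  rw [this, h2]

theorem comm_lift (V : Subgroup G) [V.Normal] {S : Subgroup G} (h : V ⊓ S = ⊥)
    (hc : ∀ a ∈ S.map (QuotientGroup.mk' V), ∀ b ∈ S.map (QuotientGroup.mk' V), a * b = b * a) :
    ∀ a ∈ S, ∀ b ∈ S, a * b = b * a := by
  intro a ha b hb
  have h1 := hc _ (mem_map_of_mem _ ha) _ (mem_map_of_mem _ hb)
  rw [← map_mul, ← map_mul] at h1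
  have h2 : (a * b)⁻¹ * (b * a) ∈ V ⊓ S :=
    ⟨QuotientGroup.eq.1 h1, S.mul_mem (S.inv_mem (S.mul_mem ha hb)) (S.mul_mem hb ha)⟩
  rw [h, mem_bot] at h2
  exact inv_mul_eq_one.1 h2

theorem vanA [Fact p.Prime] (V : Subgroup G) [hn : V.Normal] (hV : (Nat.card V).Coprime p)
    (hc : ∀ a ∈ V, ∀ b ∈ V, a * b = b * a) (hO : pCore p G = ⊥) (A : Subgroup (G ⧸ V))
    [A.Normal] (hA : IsPGroup p A) (hAc : ∀ a ∈ A, ∀ b ∈ A, a * b = b * a) {g : G}
    (hg : (g : G ⧸ V) ∈ A) (hg1 : (g : G ⧸ V) ≠ 1) : Van g := by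
  obtain ⟨B, hB, e, hi, -⟩ := lift_sub V hV A hA
  have hBc := comm_lift V hi (e ▸ hAc)
  have dec : ∀ x : G, (x : G ⧸ V) ∈ A → ∃ b ∈ B, ∃ v ∈ V, x = b * v := by
    intro x hx
    rw [← e] at hx
    obtain ⟨b, hb, h⟩ := hx
    exact ⟨b, hb, b⁻¹ * x, QuotientGroup.eq.1 h, by group⟩
  obtain ⟨μ, hμ⟩ := Fgs2.Isa.exists_reg (V := V) (B := B)
    (fun a ha => mem_centralizer_iff.2 fun b hb => hc b hb a ha)
    (fun a ha => mem_centralizer_iff.2 fun b hb => hBc b hb a ha)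
    (coprime_card_of_isPGroup hB hV)
  have hN : B ⊓ centralizer (V : Set G) = ⊥ := by
    set N := A.comap (QuotientGroup.mk' V) ⊓ centralizer (V : Set G) with hNd
    have dec' : ∀ x ∈ N, ∃ b ∈ B, ∃ v ∈ V, x = b * v ∧ ∀ w ∈ V, w * b = b * w := by
      intro x hx
      obtain ⟨b, hb, v, hv, rfl⟩ := dec x hx.1
      refine ⟨b, hb, v, hv, rfl, fun w hw => ?_⟩
      have := mem_centralizer_iff.1 hx.2 w hw
      rw [mul_assoc, ← hc w hw v hv, ← mul_assoc, ← mul_assoc] at this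
      exact mul_right_cancel this
    haveI : IsMulCommutative N := ⟨⟨fun x y => Subtype.ext (by
      obtain ⟨b, hb, v, hv, e1, h1⟩ := dec' x x.2
      obtain ⟨c, hc', w, hw, e2, h2⟩ := dec' y y.2
      show (x : G) * y = y * x
      rw [e1, e2]
      calc b * v * (c * w) = b * (v * c) * w := by group
        _ = b * c * (v * w) := by rw [h2 v hv]; group
        _ = c * (b * w) * v := by rw [hBc b hb c hc', hc v hv w hw]; group
        _ = _ := by rw [← h1 w hw]; group)⟩⟩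
    haveI : Group.IsNilpotent N := by
      open scoped IsMulCommutative in exact CommGroup.isNilpotent
    rw [eq_bot_iff, ← hO]
    refine le_pCore_of_le_normal_nilpotent (N := N) (fun x hx => ⟨?_, hx.2⟩) (hB.to_le inf_le_left)
    exact e ▸ mem_map_of_mem _ hx.1
  have hθ := irr_linear μ
  obtain ⟨χ, hχ, ho⟩ := Clifford.exists_irr_over (NormalEmb.sub V).ι (NormalEmb.sub V).inj hθ
  obtain ⟨ψ, -, h2, -⟩ := (NormalEmb.sub V).exists_ind_inertia hθ hχ ho
  refine ⟨χ, hχ, ?_⟩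
  rw [← h2]
  refine indFun_eq_zero_of_not_conj _ _ fun x hx => hg1 ?_
  have h3 : ((x * g * x⁻¹ : G) : G ⧸ V) ∈ A := by
    simpa using ‹A.Normal›.conj_mem _ hg (x : G ⧸ V)
  obtain ⟨b, hb, v, hv, e1⟩ := dec _ h3
  have h4 : b ∈ Fgs2.Isa.Il V μ := by
    rw [e1] at hx
    exact (Subgroup.mul_mem_cancel_right _
      ((NormalEmb.sub V).ι_mem_inertia (irr_isClassFunction hθ) ⟨v, hv⟩)).1 hx
  have h5 : b ∈ B ⊓ centralizer (V : Set G) := ⟨hb, hμ ⟨hb, h4⟩⟩
  rw [hN, mem_bot] at h5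
  rw [h5, one_mul] at e1
  rw [QuotientGroup.eq_one_iff]
  have := hn.conj_mem _ hv x⁻¹
  rw [← e1] at this
  simpa [mul_assoc] using this

theorem vanB (hp : p.Prime) (R Z : Subgroup G) [Z.Normal] (hZ : Nat.card Z = p)
    (hc : ∀ z ∈ Z, ∀ r ∈ R, r * z = z * r) {x : G} (h1 : ∀ r ∈ R, r * x * r⁻¹ * x⁻¹ ∈ Z)
    (h2 : ∃ r ∈ R, r * x ≠ x * r) : Van x := by
  obtain ⟨r, hr, h2⟩ := h2
  have hz := h1 r hr
  set z := r * x * r⁻¹ * x⁻¹ with hzd
  have hz1 : z ≠ 1 := by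
    intro h
    apply h2
    rw [hzd, mul_inv_eq_one, mul_inv_eq_iff_eq_mul] at h
    exact h
  have hpow : ∀ n : ℕ, r ^ n * x * (r ^ n)⁻¹ = z ^ n * x := by
    intro n
    induction n with
    | zero => simp
    | succ n ih =>
      have e : r * x * r⁻¹ = z * x := by rw [hzd]; group
      calc r ^ (n + 1) * x * (r ^ (n + 1))⁻¹ = r * (r ^ n * x * (r ^ n)⁻¹) * r⁻¹ := by group
        _ = (r * z ^ n) * x * r⁻¹ := by rw [ih]; group
        _ = z ^ n * (r * x * r⁻¹) := by rw [hc _ (Z.pow_mem hz n) r hr]; group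
        _ = _ := by rw [e]; group
  have hZz : zpowers z = Z := by
    apply eq_of_le_of_card_ge (zpowers_le.2 hz)
    have h3 : Nat.card (zpowers z) ∣ p := hZ ▸ card_dvd_of_le (zpowers_le.2 hz)
    rcases (Nat.dvd_prime hp).1 h3 with h | h
    · exact absurd (zpowers_eq_bot.1 (card_eq_one.1 h)) hz1
    · rw [h, hZ]
  obtain ⟨χ, hχ, hk⟩ := exists_irr_not_mem_charKer hz1
  refine ⟨χ, hχ, ?_⟩
  have h3 := sum_coset_eq_zero hχ Z (fun h => hk (h hz)) x
  rw [Finset.sum_congr rfl (g := fun _ => χ x) fun n _ => by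
    have hn : (n : G) ∈ zpowers z := hZz ▸ n.2
    obtain ⟨k, hk⟩ := (mem_powers_iff_mem_zpowers.2 hn)
    rw [← hk, ← hpow]
    exact irr_isClassFunction hχ _ _] at h3
  simpa using h3

theorem card_le [hp : Fact p.Prime] (h : Hyp p G) (V : Subgroup G) [V.Normal] (hV1 : V ≠ ⊥)
    (hV : (Nat.card V).Coprime p) (B : Subgroup (G ⧸ V)) (hB : IsPGroup p B)
    (hc : ∀ a ∈ B, ∀ b ∈ B, a * b = b * a)
    (hv : ∀ g : G, (g : G ⧸ V) ∈ B → (g : G ⧸ V) ≠ 1 → Van g) : Nat.card B ≤ p := by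
  obtain ⟨S, hS, e, hi, hcard⟩ := lift_sub V hV B hB
  have hSc := comm_lift V hi (e ▸ hc)
  have hv' : ∀ s ∈ S, s ≠ 1 → ∀ w ∈ V, Van (s * w) := by
    intro s hs hs1 w hw
    have : ((s * w : G) : G ⧸ V) = s := by
      rw [QuotientGroup.mk_mul, (QuotientGroup.eq_one_iff w).2 hw, mul_one]
    refine hv _ (this ▸ e ▸ mem_map_of_mem _ hs) (this ▸ fun h1 => hs1 ?_)
    have : s ∈ V ⊓ S := ⟨(QuotientGroup.eq_one_iff s).1 h1, hs⟩
    rwa [hi, mem_bot] at this
  have hv1 : ∀ s ∈ S, s ≠ 1 → Van s := fun s hs h1 => by simpa using hv' s hs h1 1 V.one_mem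
  have hpk : ∀ s ∈ S, ∃ k, s ^ p ^ k = 1 := fun s hs => by
    obtain ⟨k, hk⟩ := hS ⟨s, hs⟩
    exact ⟨k, congrArg Subtype.val hk⟩
  have hdv : ∀ s ∈ S, s ≠ 1 → p ∣ orderOf s := by
    intro s hs h1
    obtain ⟨k, hk⟩ := hpk s hs
    obtain ⟨i, -, hi⟩ := (Nat.dvd_prime_pow hp.out).1 (orderOf_dvd_of_pow_eq_one hk)
    rw [hi]
    refine dvd_pow_self p ?_
    rintro rfl
    exact h1 (orderOf_eq_one_iff.1 hi)
  haveI : IsMulCommutative S := ⟨⟨fun x y => Subtype.ext (hSc _ x.2 _ y.2)⟩⟩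
  rw [← hcard]
  by_cases hcy : IsCyclic S
  · obtain ⟨s, hs⟩ := IsCyclic.exists_ofOrder_eq_natCard (α := S)
    by_cases h1 : (s : G) ^ p = 1
    · rw [← hs, ← Subgroup.orderOf_coe]
      exact Nat.le_of_dvd hp.out.pos (orderOf_dvd_of_pow_eq_one h1)
    · have h2 : (s : G) ≠ 1 := fun h2 => h1 (by rw [h2, one_pow])
      exact absurd (hdv _ (S.pow_mem s.2 p) h1) (h.b s (hv1 _ s.2 h2) (hv1 _ (S.pow_mem s.2 p) h1))
  · obtain ⟨s, hs, hs1, hne⟩ := exists_inf_centralizer_ne_bot S V hcy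
      (le_top.trans (normalizer_eq_top V).ge) (coprime_card_of_isPGroup hS hV) hV1
    obtain ⟨⟨w, hw, hw'⟩, hw1⟩ := ne_bot_iff_exists_ne_one.1 hne
    have hw1' : w ≠ 1 := fun h => hw1 (Subtype.ext h)
    have hcm : Commute s w := (mem_centralizer_singleton_iff.1 hw').symm
    have hwp : (orderOf w).Coprime p := hV.coprime_dvd_left (V.orderOf_dvd_natCard hw)
    obtain ⟨k, hk⟩ := hpk s hs
    have hco : (orderOf s).Coprime (orderOf w) :=
      ((hwp.symm.pow_left k).coprime_dvd_left (orderOf_dvd_of_pow_eq_one hk))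
    have ho := hcm.orderOf_mul_eq_mul_orderOf_of_coprime hco
    obtain ⟨l, hl⟩ := h.a s (s * w) (hv1 s hs hs1) (hv' s hs hs1 w hw) (hdv s hs hs1)
      (ho ▸ (hdv s hs hs1).mul_right _) ⟨k, hk⟩
    have h3 : orderOf w ∣ p ^ l := (ho ▸ dvd_mul_left _ _ : orderOf w ∣ orderOf (s * w)).trans
      (orderOf_dvd_of_pow_eq_one hl)
    exact absurd (orderOf_eq_one_iff.1 ((hwp.pow_right l).eq_one_of_dvd h3)) hw1'


theorem main_aux [hp : Fact p.Prime] (G : Type u) [Group G] [Finite G] :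
    Group.IsSolvable G → Hyp p G → pCore p G = ⊥ →
      (∀ S : Subgroup G, IsPGroup p S → Nat.card S ≤ p) ∧
        ∀ x : G, x ≠ 1 → (∃ k, x ^ p ^ k = 1) → Van x := by
  revert G
  refine group_induction fun G _ _ ih hs h hO => ?_
  rcases subsingleton_or_nontrivial G with hG | hG
  · exact ⟨fun S _ => by
      rw [Nat.card_of_subsingleton (1 : S)]; exact hp.out.one_lt.le,
      fun x hx => absurd (Subsingleton.elim _ _) hx⟩
  obtain ⟨V, r, hr, hVm, -, hVe, hVr⟩ := exists_isMinNormal_pGroup_le (⊤ : Subgroup G) top_ne_bot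
  haveI hVn : V.Normal := hVm.1
  have hV1 : V ≠ ⊥ := hVm.2.1
  have hrp : r ≠ p := by
    rintro rfl
    exact hV1 (le_bot_iff.1 (hO ▸ le_pCore hVr))
  have hV : (Nat.card V).Coprime p :=
    coprime_card_of_isPGroup hVr ((Nat.coprime_primes hp.out hr).2 hrp.symm)
  have hc : ∀ a ∈ V, ∀ b ∈ V, a * b = b * a := fun a ha b hb =>
    congrArg Subtype.val (hVe.1.is_comm.comm (⟨a, ha⟩ : V) ⟨b, hb⟩)
  set R := pCore p (G ⧸ V) with hR
  have hRp : IsPGroup p R := pCore_isPGroup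
  set Z := R ⊓ centralizer (R : Set (G ⧸ V)) with hZ
  have hZc : ∀ z ∈ Z, ∀ r ∈ R, r * z = z * r := fun z hz => mem_centralizer_iff.1 hz.2
  have hZp : IsPGroup p Z := hRp.to_le inf_le_left
  have hZv : ∀ g : G, (g : G ⧸ V) ∈ Z → (g : G ⧸ V) ≠ 1 → Van g := fun g =>
    vanA V hV hc hO Z hZp fun a ha b hb => hZc b hb a ha.1
  have hZl := card_le h V hV1 hV Z hZp (fun a ha b hb => hZc b hb a ha.1) hZv
  have hRZ : R = Z := by
    by_contra hne
    have hC : (center R).map R.subtype = Z := center_map_subtype R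
    have hC' : ∀ x : R, x ∈ center R ↔ (x : G ⧸ V) ∈ Z := fun x => by
      rw [← hC]
      exact (mem_map_iff_mem R.subtype_injective).symm
    haveI : Nontrivial (R ⧸ center R) := by
      rw [QuotientGroup.nontrivial_iff]
      intro h1
      apply hne
      rw [← hC, h1, ← MonoidHom.range_eq_map, range_subtype]
    haveI : Nontrivial R := (QuotientGroup.mk_surjective (s := center R)).nontrivial
    haveI := (hRp.to_quotient (center R)).center_nontrivial
    obtain ⟨⟨y, hy⟩, hy1⟩ := exists_ne (1 : center (R ⧸ center R))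
    obtain ⟨y, rfl⟩ := QuotientGroup.mk_surjective y
    have hyZ : (y : G ⧸ V) ∉ Z := fun h1 =>
      hy1 (Subtype.ext ((QuotientGroup.eq_one_iff y).2 ((hC' y).2 h1)))
    have hZc1 : Nat.card Z = p := by
      obtain ⟨k, hk⟩ := hZp.exists_card_eq
      have h0 : k ≠ 0 := by
        rintro rfl
        haveI := hRp.center_nontrivial
        rw [← hC, card_map_of_injective R.subtype_injective] at hk
        exact absurd hk (Finite.one_lt_card (α := center R)).ne'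
      exact le_antisymm hZl (hk ▸ Nat.le_self_pow h0 p)
    let W : Subgroup (G ⧸ V) := ((center (R ⧸ center R)).comap
      (QuotientGroup.mk' (center R))).map R.subtype
    have hW : ∀ x ∈ W, ∀ r ∈ R, r * x * r⁻¹ * x⁻¹ ∈ Z := by
      rintro _ ⟨x, hx, rfl⟩ r hr
      have := mem_center_iff.1 hx ((⟨r, hr⟩ : R) : R ⧸ center R)
      refine (hC' (⟨r, hr⟩ * x * ⟨r, hr⟩⁻¹ * x⁻¹)).1 ((QuotientGroup.eq_one_iff _).1 ?_)
      simp only [QuotientGroup.mk_mul, QuotientGroup.mk_inv]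
      erw [this]
      simp
    have hZW : Z ≤ W := fun z hz => ⟨⟨z, hz.1⟩, by
      show ((⟨z, hz.1⟩ : R) : R ⧸ center R) ∈ center _
      rw [(QuotientGroup.eq_one_iff _).2 ((hC' ⟨z, hz.1⟩).2 hz)]
      exact one_mem _, rfl⟩
    have hB : Z ⊔ zpowers (y : G ⧸ V) ≤ W := sup_le hZW (zpowers_le.2 ⟨y, hy, rfl⟩)
    have hWR : W ≤ R := map_subtype_le _
    have hl := card_le h V hV1 hV (Z ⊔ zpowers (y : G ⧸ V)) (hRp.to_le (hB.trans hWR)) (by
      have h1 : Z ⊔ zpowers (y : G ⧸ V) ≤ centralizer (Z ⊔ zpowers (y : G ⧸ V) : Subgroup _) := by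
        refine sup_le (fun z hz => mem_centralizer_iff.2 fun a ha => hZc z hz a (hWR (hB ha)))
          (zpowers_le.2 ?_)
        refine (le_centralizer_iff (K := zpowers (y : G ⧸ V))).1 (sup_le (fun z hz =>
          mem_centralizer_iff.2 fun a ha => hZc z hz a (zpowers_le.2 y.2 ha)) ?_) (mem_zpowers _)
        rintro _ ⟨m, rfl⟩
        rw [mem_centralizer_iff]
        rintro _ ⟨n, rfl⟩
        exact zpow_mul_comm _ _ _
      exact fun a ha b hb => mem_centralizer_iff.1 (h1 hb) a ha) (by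
      intro g hg hg1
      by_cases h1 : (g : G ⧸ V) ∈ Z
      · exact hZv g h1 hg1
      · refine Van.lift (QuotientGroup.mk' V) (QuotientGroup.mk'_surjective V)
          (vanB hp.out R Z hZc1 hZc (hW _ (hB hg)) ?_)
        by_contra h2
        push Not at h2
        exact h1 ⟨hWR (hB hg), mem_centralizer_iff.2 h2⟩)
    have := card_lt_of_lt (lt_of_le_of_ne (le_sup_left : Z ≤ Z ⊔ zpowers (y : G ⧸ V)) fun h1 =>
      hyZ (h1 ▸ (le_sup_right : _ ≤ Z ⊔ zpowers (y : G ⧸ V)) (mem_zpowers _)))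
    omega
  let f := (QuotientGroup.mk' R).comp (QuotientGroup.mk' V)
  have hf : Function.Surjective f :=
    (QuotientGroup.mk'_surjective R).comp (QuotientGroup.mk'_surjective V)
  obtain ⟨i1, i2⟩ := ih ((G ⧸ V) ⧸ R)
    ((Nat.card_le_card_of_surjective _ (QuotientGroup.mk'_surjective R)).trans_lt
      (card_quotient_lt hV1)) inferInstance (h.quot hp.out f hf) pCore_quotient_pCore
  have hall : ∀ g : G, (g : G ⧸ V) ≠ 1 → (∃ k, (g : G ⧸ V) ^ p ^ k = 1) → Van g := by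
    rintro g hg ⟨k, hk⟩
    by_cases h1 : (g : G ⧸ V) ∈ R
    · exact hZv g (hRZ ▸ h1) hg
    · refine Van.lift f hf (i2 _ (fun h2 => h1 ((QuotientGroup.eq_one_iff _).1 h2)) ⟨k, ?_⟩)
      show (QuotientGroup.mk' R (g : G ⧸ V)) ^ _ = 1
      rw [← map_pow, hk, map_one]
  refine ⟨fun S hS => ?_, fun x hx ⟨k, hk⟩ => hall x (fun h1 => hx ?_) ⟨k, ?_⟩⟩
  · have h1 := card_map_mk'_mul V S
    rw [inf_comm, inf_eq_bot_of_isPGroup_of_coprime hS hV, card_bot, mul_one] at h1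
    rw [← h1]
    have hS' := hS.map (QuotientGroup.mk' V)
    set S' := S.map (QuotientGroup.mk' V)
    have h2 := card_map_mk'_mul R S'
    have h3 := i1 _ (hS'.map (QuotientGroup.mk' R))
    have h4 : Nat.card (R ⊓ S' : Subgroup _) ≤ p :=
      (card_le_of_le inf_le_left).trans (hRZ ▸ hZl)
    obtain ⟨k, hk⟩ := hS'.exists_card_eq
    have h5 : p ^ k ≤ p ^ 2 := by
      rw [← hk, ← h2, sq]
      exact Nat.mul_le_mul h3 h4
    have h6 := (Nat.pow_le_pow_iff_right hp.out.one_lt).1 h5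
    rcases h6.lt_or_eq with h7 | rfl
    · rw [hk]
      exact (Nat.pow_le_pow_right hp.out.pos (Nat.lt_succ_iff.1 h7)).trans_eq (pow_one p)
    · have := IsPGroup.isMulCommutative_of_card_eq_prime_sq hk
      refine card_le h V hV1 hV S' hS' (fun a ha b hb =>
        congrArg Subtype.val (this.is_comm.comm (⟨a, ha⟩ : S') ⟨b, hb⟩)) fun g hg hg1 =>
          hall g hg1 ?_
      obtain ⟨l, hl⟩ := hS' ⟨_, hg⟩
      exact ⟨l, congrArg Subtype.val hl⟩
  · have h2 := V.orderOf_dvd_natCard ((QuotientGroup.eq_one_iff x).1 h1)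
    exact orderOf_eq_one_iff.1 (((hV.coprime_dvd_left h2).pow_right k).eq_one_of_dvd
      (orderOf_dvd_of_pow_eq_one hk))
  · rw [← QuotientGroup.mk_pow, hk, QuotientGroup.mk_one]

theorem main [hp : Fact p.Prime] [Group.IsSolvable G]
    (h : ∀ x y : G, Van x → Van y → p ∣ orderOf x → p ∣ orderOf y → orderOf x = orderOf y)
    (S : Subgroup G) (hS : IsPGroup p S) :
    Nat.card (S.map (QuotientGroup.mk' (pCore p G))) ≤ p :=
  (main_aux (G ⧸ pCore p G) inferInstance ((hyp_of_eq hp.out h).quot hp.out _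
    (QuotientGroup.mk'_surjective _)) pCore_quotient_pCore).1 _ (hS.map _)

end CF.Crit.Vn
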